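import Cfsg.Agent.H3.HSM
set_option maxRecDepth 1000000
set_option Elab.async false
namespace H3.HSC
open H71
noncomputable def nb_0 : ℕ := 0xaecd56893a250a
noncomputable def nb_1 : ℕ := 0x8bff8580000000969d90c
noncomputable def nb_2 : ℕ := 0x12a4000118800037fa00027fa
noncomputable def nb_3 : ℕ := 0x180048002004a01f00200140000
noncomputable def nb_4 : ℕ := 0xc0c10004002010e002000010180
noncomputable def nb_5 : ℕ := 0x2008000040080004000120048100
noncomputable def nb_6 : ℕ := 0x2010814224480108042140a44080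
noncomputable def nb_7 : ℕ := 0x220408206008132000112064c012
noncomputable def nb_8 : ℕ := 0x1c3830a0428400083000c1c180
noncomputable def nb_9 : ℕ := 0x1c4055008801d014806900f8014
noncomputable def nb_10 : ℕ := 0x1aec00025b900003920002ba2
noncomputable def nb_11 : ℕ := 0x2bff7010000000878899c
noncomputable def nb_12 : ℕ := 0xaec6ed80707482
noncomputable def nb : Net := .cons 56 nb_0 <| .cons 28 nb_1 <| .cons 14 nb_2 <| .cons 7 nb_3 <| .cons 4 nb_4 <| .cons 2 nb_5 <| .cons 1 nb_6 <| .cons 2 nb_7 <| .cons 4 nb_8 <| .cons 7 nb_9 <| .cons 14 nb_10 <| .cons 28 nb_11 <| .cons 56 nb_12 <| .nil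
theorem vnb : Net.valid 112 nb = true := by decide +kernel
noncomputable def nc_0 : ℕ := 0x72ba595af722ba
noncomputable def nc_1 : ℕ := 0xe58eeb200000009d24690
noncomputable def nc_2 : ℕ := 0x28e60000bc6000248c00029e4
noncomputable def nc_3 : ℕ := 0xc8048008006001180360188052
noncomputable def nc_4 : ℕ := 0xc002820a0810400140840000304
noncomputable def nc_5 : ℕ := 0x244001204000002400802
noncomputable def nc_6 : ℕ := 0x254204224009408140942840a94
noncomputable def nc_7 : ℕ := 0x244813204c100044c1020644082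
noncomputable def nc_8 : ℕ := 0x81c1010e0410200140830c0c104
noncomputable def nc_9 : ℕ := 0xcc029003c06d010402c0110040
noncomputable def nc_10 : ℕ := 0x312a00001f200025d40003040
noncomputable def nc_11 : ℕ := 0xf7a6c720000000192458c
noncomputable def nc_12 : ℕ := 0x72baa79c92f9ea
noncomputable def nc : Net := .cons 56 nc_0 <| .cons 28 nc_1 <| .cons 14 nc_2 <| .cons 7 nc_3 <| .cons 4 nc_4 <| .cons 2 nc_5 <| .cons 1 nc_6 <| .cons 2 nc_7 <| .cons 4 nc_8 <| .cons 7 nc_9 <| .cons 14 nc_10 <| .cons 28 nc_11 <| .cons 56 nc_12 <| .nil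
theorem vnc : Net.valid 112 nc = true := by decide +kernel
noncomputable def nd_0 : ℕ := 0xf65a0b00408820
noncomputable def nd_1 : ℕ := 0x4c14e40000000cc0d490
noncomputable def nd_2 : ℕ := 0x315e00018d800013d20000840
noncomputable def nd_3 : ℕ := 0xd80000120014008006a0190060
noncomputable def nd_4 : ℕ := 0xc182040e1038300040050018104
noncomputable def nd_5 : ℕ := 0x800220008020008012
noncomputable def nd_6 : ℕ := 0x254a110a1008122048142044814
noncomputable def nd_7 : ℕ := 0x200c190020819022089002048890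
noncomputable def nd_8 : ℕ := 0x41820500002870404105001c184
noncomputable def nd_9 : ℕ := 0x118032012407a010802201e0010
noncomputable def nd_10 : ℕ := 0x849000139200013da0000e18
noncomputable def nd_11 : ℕ := 0xd48443c0000000cc85108
noncomputable def nd_12 : ℕ := 0xf6524402010504
noncomputable def nd : Net := .cons 56 nd_0 <| .cons 28 nd_1 <| .cons 14 nd_2 <| .cons 7 nd_3 <| .cons 4 nd_4 <| .cons 2 nd_5 <| .cons 1 nd_6 <| .cons 2 nd_7 <| .cons 4 nd_8 <| .cons 7 nd_9 <| .cons 14 nd_10 <| .cons 28 nd_11 <| .cons 56 nd_12 <| .nil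
theorem vnd : Net.valid 112 nd = true := by decide +kernel
noncomputable def ne_0 : ℕ := 0xbdbd0001008400
noncomputable def ne_1 : ℕ := 0xd80b9b80000000f2c0080
noncomputable def ne_2 : ℕ := 0x242400011580002bb00000348
noncomputable def ne_3 : ℕ := 0x20062012807600180380010002
noncomputable def ne_4 : ℕ := 0x1030208000040a102070000104
noncomputable def ne_5 : ℕ := 0x100240000000400100400012
noncomputable def ne_6 : ℕ := 0x810a142804a812840a100804094
noncomputable def ne_7 : ℕ := 0x408110004019004400020400100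
noncomputable def ne_8 : ℕ := 0x41838604042040a182870004184
noncomputable def ne_9 : ℕ := 0x13803000c407700580780000002
noncomputable def ne_10 : ℕ := 0xc0900031e900033b00001348
noncomputable def ne_11 : ℕ := 0x7013ed00000000f2c1400
noncomputable def ne_12 : ℕ := 0xbdb90001004400
noncomputable def ne : Net := .cons 56 ne_0 <| .cons 28 ne_1 <| .cons 14 ne_2 <| .cons 7 ne_3 <| .cons 4 ne_4 <| .cons 2 ne_5 <| .cons 1 ne_6 <| .cons 2 ne_7 <| .cons 4 ne_8 <| .cons 7 ne_9 <| .cons 14 ne_10 <| .cons 28 ne_11 <| .cons 56 ne_12 <| .nil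
theorem vne : Net.valid 112 ne = true := by decide +kernel
noncomputable def ng_0 : ℕ := 0x79e08400000000000000
noncomputable def ng_1 : ℕ := 0x186400000000000a48000053e
noncomputable def ng_2 : ℕ := 0x900540098010018000e0068030
noncomputable def ng_3 : ℕ := 0xc1008008001850a101010004203
noncomputable def ng_4 : ℕ := 0x8110000800024089100040110
noncomputable def ng_5 : ℕ := 0x20102110844a8422508950044090
noncomputable def ng_6 : ℕ := 0x200c091040c90302441132008193
noncomputable def ng_7 : ℕ := 0xe1820208000820e101820000301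
noncomputable def ng_8 : ℕ := 0x9405000d805b018000a012c002
noncomputable def ng_9 : ℕ := 0x19a10000000000292200021de
noncomputable def ng_10 : ℕ := 0x79d01100000000000000
noncomputable def ng : Net := .cons 28 ng_0 <| .cons 14 ng_1 <| .cons 7 ng_2 <| .cons 4 ng_3 <| .cons 2 ng_4 <| .cons 1 ng_5 <| .cons 2 ng_6 <| .cons 4 ng_7 <| .cons 7 ng_8 <| .cons 14 ng_9 <| .cons 28 ng_10 <| .nil
theorem vng : Net.valid 112 ng = true := by decide +kernel
noncomputable def nh_0 : ℕ := 0x5ff510200000000000000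
noncomputable def nh_1 : ℕ := 0x1f2000291000035100003f42
noncomputable def nh_2 : ℕ := 0x1b0042000005801300700050052
noncomputable def nh_3 : ℕ := 0x8082820400002000c0800010087
noncomputable def nh_4 : ℕ := 0x2008100000001000080002000012
noncomputable def nh_5 : ℕ := 0x2044085200001402042042854811
noncomputable def nh_6 : ℕ := 0x2008800000008324400932444913
noncomputable def nh_7 : ℕ := 0x3050400002080c304040c187
noncomputable def nh_8 : ℕ := 0x1bc051004005d010000a0184018
noncomputable def nh_9 : ℕ := 0x12ba000091000030b00003e8c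
noncomputable def nh_10 : ℕ := 0x5ff801200000000000000
noncomputable def nh : Net := .cons 28 nh_0 <| .cons 14 nh_1 <| .cons 7 nh_2 <| .cons 4 nh_3 <| .cons 2 nh_4 <| .cons 1 nh_5 <| .cons 2 nh_6 <| .cons 4 nh_7 <| .cons 7 nh_8 <| .cons 14 nh_9 <| .cons 28 nh_10 <| .nil
theorem vnh : Net.valid 112 nh = true := by decide +kernel
noncomputable def ni_0 : ℕ := 0xc00000000000000000000
noncomputable def ni_1 : ℕ := 0x3c0000000000003b700000000
noncomputable def ni_2 : ℕ := 0x1000500100040000003a0160000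
noncomputable def ni_3 : ℕ := 0x61000400081810a0c0800200000
noncomputable def ni_4 : ℕ := 0x408012000010000488122048810
noncomputable def ni_5 : ℕ := 0x2108910a508910a44a912250a10
noncomputable def ni_6 : ℕ := 0xc891220c9832404181040c100
noncomputable def ni_7 : ℕ := 0x6100020a04182000c0800400000
noncomputable def ni_8 : ℕ := 0x1000300100040010805c01a0000
noncomputable def ni_9 : ℕ := 0x3c0000000000003da80000000
noncomputable def ni_10 : ℕ := 0xc00000000000000000000
noncomputable def ni : Net := .cons 28 ni_0 <| .cons 14 ni_1 <| .cons 7 ni_2 <| .cons 4 ni_3 <| .cons 2 ni_4 <| .cons 1 ni_5 <| .cons 2 ni_6 <| .cons 4 ni_7 <| .cons 7 ni_8 <| .cons 14 ni_9 <| .cons 28 ni_10 <| .nil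
theorem vni : Net.valid 112 ni = true := by decide +kernel
noncomputable def gensN : List Net := [HSM.np, HSM.nq, HSM.nr, HSM.ns, HSM.nx, nb, nc, nd, ne, ng, nh, ni, Net.nil, Net.nil, Net.nil, Net.nil, Net.nil, Net.nil]
noncomputable def invsN : List Net := [HSM.na, HSM.ny, HSM.nf]
noncomputable def A : ℕ → ℕ → ℕ := mkA gensN invsN
noncomputable def π : ℕ → Equiv.Perm ℕ := mkPi gensN invsN
theorem vG : ∀ r ∈ ([HSM.np, HSM.nq, HSM.nr, HSM.ns, HSM.nx, nb, nc, nd, ne, ng, nh, ni, Net.nil, Net.nil, Net.nil, Net.nil, Net.nil, Net.nil] : List Net), Net.valid 112 r = true := by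
  intro r hr
  simp only [List.mem_cons, List.not_mem_nil, or_false] at hr
  rcases hr with rfl | rfl | rfl | rfl | rfl | rfl | rfl | rfl | rfl | rfl | rfl | rfl | rfl | rfl | rfl | rfl | rfl | rfl
  · exact HSM.vnp
  · exact HSM.vnq
  · exact HSM.vnr
  · exact HSM.vns
  · exact HSM.vnx
  · exact vnb
  · exact vnc
  · exact vnd
  · exact vne
  · exact vng
  · exact vnh
  · exact vni
  · rfl
  · rfl
  · rfl
  · rfl
  · rfl
  · rfl
theorem vI : ∀ r ∈ ([HSM.na, HSM.ny, HSM.nf] : List Net), Net.valid 112 r = true := by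
  intro r hr
  simp only [List.mem_cons, List.not_mem_nil, or_false] at hr
  rcases hr with rfl | rfl | rfl
  · exact HSM.vna
  · exact HSM.vny
  · exact HSM.vnf
theorem env : Env 112 π A := env_mk vG vI
theorem hN : 112 ≤ 2 ^ 7 := by norm_num
theorem pinv : ∀ l, π (linv 36 l) = (π l)⁻¹ := mkPi_inv' hN rfl vI (by decide +kernel)
def chainDefs : List (ℕ × List ℕ) := [(10, [1,3,5,5,2,38]),
  (12, [1,7,2]),
  (14, [13,13,11,12,11,12,12]),
  (16, [13,10,13,11,13,10,13,10]),
  (18, [17,15,16,14,16,15,16,14]),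
  (20, [15,15,17,14,14,16,16,15,15,17,17]),
  (22, [20,20,18])]
def chain : List Level := [⟨0, [0,1,2,3,4,5,6,7,8,9,36,37,38], [0,2,4,12,2,6,12,6,4,8,0,2,2], 0, 100⟩,
  ⟨23, [10,12], [0,1,0,1,0,1,0,1,0,1,1,0,0], 23, 100⟩,
  ⟨40, [14,16], [0,1,0,1,0,0,1,0,1,0,0,0], 40, 100⟩,
  ⟨68, [18,20], [0,1,0,1,0,1,0,1,0], 68, 100⟩,
  ⟨4, [22], [0,0], 4, 7⟩]
theorem chain_ok : chainChk A chain = true := by decide +kernel
theorem defs_ok : slpChk A 7 112 36 chainDefs (maskL [0,1,2,3,4,5,6,7,8,9,36,37,38]) = true := by decide +kernel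
end H3.HSC
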