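import Cfsg.Agent.H71.Glue
set_option maxRecDepth 1000000
set_option Elab.async false
namespace H3.HSL1
open H71
noncomputable def np : Net := .nil
theorem vnp : Net.valid 192 np = true := by decide +kernel
noncomputable def nq : Net := .nil
theorem vnq : Net.valid 192 nq = true := by decide +kernel
noncomputable def nr : Net := .nil
theorem vnr : Net.valid 192 nr = true := by decide +kernel
noncomputable def ns_0 : ℕ := 0xf8c00abd15d97bb4ad10243e
noncomputable def ns_1 : ℕ := 0x16e878e3c7980000000000002cec3c88d1c4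
noncomputable def ns_2 : ℕ := 0xf45d040000002d9898000000d139d2000000be02ee
noncomputable def ns_3 : ℕ := 0xcda000624000e400008d4000288000f6a0002f600001c
noncomputable def ns_4 : ℕ := 0x1c03600403c01203e00c01801a01001202a034018022022
noncomputable def ns_5 : ℕ := 0x80100102000004180082006186104102100102080004000
noncomputable def ns_6 : ℕ := 0x48001041040200208000208201200001040208000200001
noncomputable def ns_7 : ℕ := 0x48049041048201248048208241200009049248049240249
noncomputable def ns_8 : ℕ := 0x249041049000008209041000209248201041249248201240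
noncomputable def ns_9 : ℕ := 0x1860061441431041030831811071c6103143084040104182
noncomputable def ns_10 : ℕ := 0x3c03002402e00a02100702001002e032021015022027020
noncomputable def ns_11 : ℕ := 0x894000e640005c40008da000b9a000d970009e600081b
noncomputable def ns_12 : ℕ := 0x20bd7c00000084891c000000f0a60b000000ee195a
noncomputable def ns_13 : ℕ := 0x76687ac781780000000000002bc7a806aa43
noncomputable def ns_14 : ℕ := 0xf8c00aa3614457dac44e1f01
noncomputable def ns : Net := .cons 96 ns_0 <| .cons 48 ns_1 <| .cons 24 ns_2 <| .cons 12 ns_3 <| .cons 6 ns_4 <| .cons 3 ns_5 <| .cons 2 ns_6 <| .cons 1 ns_7 <| .cons 2 ns_8 <| .cons 3 ns_9 <| .cons 6 ns_10 <| .cons 12 ns_11 <| .cons 24 ns_12 <| .cons 48 ns_13 <| .cons 96 ns_14 <| .nil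
theorem vns : Net.valid 192 ns = true := by decide +kernel
noncomputable def nx_0 : ℕ := 0xc66d060b1bb7a7d8e4e01c10
noncomputable def nx_1 : ℕ := 0x9ad0c29146100000000000008032ae830260
noncomputable def nx_2 : ℕ := 0xba98000000fbe262000000ffe434000000adf684
noncomputable def nx_3 : ℕ := 0x2da0000340004b0000fa40009140003c00005b80002ac
noncomputable def nx_4 : ℕ := 0x402a00c01002001003803202800801002a03602200e018
noncomputable def nx_5 : ℕ := 0x82000006000100086180100004004000004000004084000
noncomputable def nx_6 : ℕ := 0x9001000249200200208040208241200048248000000048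
noncomputable def nx_7 : ℕ := 0x209201248249200208249240248249241048248209048049
noncomputable def nx_8 : ℕ := 0x8001048208240248200041000009000049240241001248
noncomputable def nx_9 : ℕ := 0x1010c40470041440850861040851801011050070470c3143
noncomputable def nx_10 : ℕ := 0x3202e02f02001003c02803203101701802403702a00f00f
noncomputable def nx_11 : ℕ := 0xe5e000434000cda000ba2000de5000bc1000d7c000165
noncomputable def nx_12 : ℕ := 0x406658000000dbc87d0000004fd68b0000009c79e4
noncomputable def nx_13 : ℕ := 0x9ad1c2f85c7e000000000000a132f7788588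
noncomputable def nx_14 : ℕ := 0xc66d06398f43e7e87c058c68
noncomputable def nx : Net := .cons 96 nx_0 <| .cons 48 nx_1 <| .cons 24 nx_2 <| .cons 12 nx_3 <| .cons 6 nx_4 <| .cons 3 nx_5 <| .cons 2 nx_6 <| .cons 1 nx_7 <| .cons 2 nx_8 <| .cons 3 nx_9 <| .cons 6 nx_10 <| .cons 12 nx_11 <| .cons 24 nx_12 <| .cons 48 nx_13 <| .cons 96 nx_14 <| .nil
theorem vnx : Net.valid 192 nx = true := by decide +kernel
noncomputable def na_0 : ℕ := 0x966ab890008a533649002200
noncomputable def na_1 : ℕ := 0xe67092cc5680000000000000a0b1580c5848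
noncomputable def na_2 : ℕ := 0x1642aa00000005aaf40000000a28cc0000005acc46
noncomputable def na_3 : ℕ := 0x2c80006320003f8000da40004200002f80001e40007ec
noncomputable def na_4 : ℕ := 0x201002400202800802201803002402400001e03001c010
noncomputable def na_5 : ℕ := 0x84084180004000004102086084100004000186104000004
noncomputable def na_6 : ℕ := 0x40001009040000048041041000000008041008040240201
noncomputable def na_7 : ℕ := 0x41041049041008248049241208008009041049040249249
noncomputable def na_8 : ℕ := 0x248201048041200209201209001041241041201041048240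
noncomputable def na_9 : ℕ := 0x800840401810401c41021470040061430411811461410c6
noncomputable def na_10 : ℕ := 0x2a01002b02d02e01c02301802a00302400601e03401001c
noncomputable def na_11 : ℕ := 0x2ca00019b000bb80005e70004ba0003fa0001e4000813
noncomputable def na_12 : ℕ := 0x14208a00000081a2940000004a28cc0000005acc46
noncomputable def na_13 : ℕ := 0xe652bacc06c3000000000000a0b1580c5848
noncomputable def na_14 : ℕ := 0x966ab891048a533649002200
noncomputable def na : Net := .cons 96 na_0 <| .cons 48 na_1 <| .cons 24 na_2 <| .cons 12 na_3 <| .cons 6 na_4 <| .cons 3 na_5 <| .cons 2 na_6 <| .cons 1 na_7 <| .cons 2 na_8 <| .cons 3 na_9 <| .cons 6 na_10 <| .cons 12 na_11 <| .cons 24 na_12 <| .cons 48 na_13 <| .cons 96 na_14 <| .nil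
theorem vna : Net.valid 192 na = true := by decide +kernel
noncomputable def ny_0 : ℕ := 0x23090e95e0d84969760a8000
noncomputable def ny_1 : ℕ := 0x9686c2a38aa000000000000082bc36685180
noncomputable def ny_2 : ℕ := 0x805c200000000ec4260000003bd67200000019679c
noncomputable def ny_3 : ℕ := 0xe6000056400080200075c0008b60003820007f4000020
noncomputable def ny_4 : ℕ := 0x2000802c01403001c03000802803a01a02403801601c03c
noncomputable def ny_5 : ℕ := 0x82102002000180004180000180100100000102104104000
noncomputable def ny_6 : ℕ := 0x200040008001008201009040001209000208009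
noncomputable def ny_7 : ℕ := 0x41008208200049208201008249009049009209201249009
noncomputable def ny_8 : ℕ := 0x200040040200009009049001048049240008048208241209
noncomputable def ny_9 : ℕ := 0x861060840471c10021411840061871000870c7146181086
noncomputable def ny_10 : ℕ := 0x3100803601400b01801d01a00303a01a02402f006003035
noncomputable def ny_11 : ℕ := 0xf68000564000c3e0005ce0008b60003e6000121000208
noncomputable def ny_12 : ℕ := 0x805ca000000066b5010000003bd67200000091779c
noncomputable def ny_13 : ℕ := 0x9686c2a38aa000000000000082bc36685180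
noncomputable def ny_14 : ℕ := 0x23090e95e0d84969760a8000
noncomputable def ny : Net := .cons 96 ny_0 <| .cons 48 ny_1 <| .cons 24 ny_2 <| .cons 12 ny_3 <| .cons 6 ny_4 <| .cons 3 ny_5 <| .cons 2 ny_6 <| .cons 1 ny_7 <| .cons 2 ny_8 <| .cons 3 ny_9 <| .cons 6 ny_10 <| .cons 12 ny_11 <| .cons 24 ny_12 <| .cons 48 ny_13 <| .cons 96 ny_14 <| .nil
theorem vny : Net.valid 192 ny = true := by decide +kernel
noncomputable def gensN : List Net := [np, nq, nr, ns, nx]
noncomputable def invsN : List Net := [na, ny, Net.nil]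
noncomputable def A : ℕ → ℕ → ℕ := mkA gensN invsN
noncomputable def π : ℕ → Equiv.Perm ℕ := mkPi gensN invsN
theorem vG : ∀ r ∈ ([np, nq, nr, ns, nx] : List Net), Net.valid 192 r = true := by
  intro r hr
  simp only [List.mem_cons, List.not_mem_nil, or_false] at hr
  rcases hr with rfl | rfl | rfl | rfl | rfl
  · exact vnp
  · exact vnq
  · exact vnr
  · exact vns
  · exact vnx
theorem vI : ∀ r ∈ ([na, ny, Net.nil] : List Net), Net.valid 192 r = true := by
  intro r hr
  simp only [List.mem_cons, List.not_mem_nil, or_false] at hr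
  rcases hr with rfl | rfl | rfl
  · exact vna
  · exact vny
  · rfl
theorem env : Env 192 π A := env_mk vG vI
theorem hN : 192 ≤ 2 ^ 8 := by norm_num
theorem pinv : ∀ l, π (linv 10 l) = (π l)⁻¹ := mkPi_inv' hN rfl vI (by decide +kernel)
def R : List (List ℕ) := [[0,0,0,0],
  [2,2,2,2],
  [4,4,4,4],
  [0,2,1,3],
  [0,4,1,5],
  [2,4,3,5],
  [6,0,7,3],
  [6,2,7,5],
  [6,4,7,5,5,2,1],
  [8,0,9,1],
  [8,2,9,5],
  [8,4,9,4,2,1,1],
  [8,6,9,7,7],
  [6,6,6,6,6,6,6],
  [8,8,8],
  [10,8,10,8],
  [10,0,10,0],
  [10,2,10,5],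
  [10,6,10,6,10,6],
  [11,6,8,6,10,6,8],
  [11,0,11,1],
  [11,2,11,2],
  [11,4,11,4,3,3,0],
  [10,11,10,8,11,9],
  [11,8,11,8,11,8]]
def RH : List (List ℕ) := []
def HL : List ℕ := [0,1,2,3,4,5]
def S : List ℕ := [0,1,2,3,4,5,6,7,8,9,10,11]
theorem relP : ∀ r ∈ R, evw π r = 1 := env.eq_one_of_allId hN (by decide +kernel)
def seeds : List (List ℕ) := []
theorem seeds_mem {G : Type*} [Group G] {val : ℕ → G} {H : Subgroup G} (hv : ∀ l, val (linv 10 l) = (val l)⁻¹) (he : val 13 = 1)
    (hR : ∀ r ∈ R ++ RH, evw val r = 1) (hH : ∀ l ∈ HL, val l ∈ H) : ∀ w ∈ seeds, evw val w ∈ H := by simp [seeds]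
def spec : List ℕ := [114688,49154,49158,57346,57350,73730,73734,81922,81926,122882,131074,139266,139270,163842,172034,98304,98306,98308,98310,98312,147456,188416,196608,65538,65548,90114,90120,106496,155648,155650,155652,155654,155656,180226,180236,122880,147458,188418,65546,90118,155658,155660,188422,196610]
noncomputable def rules : List (List ℕ) := spec.map (mkRule 10 R)
noncomputable def hs : List (List ℕ) := HL.map (fun z => [z]) ++ seeds
noncomputable def D0 : ℕ := Nat.shiftLeft 1 0
noncomputable def K0 : List ℕ := List.replicate 13 0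
def steps0_0 : List ℕ := [3,2,32771,10,65539,18,24,28,32,36,40,44,24,28,32,36,40,1,34,5,2,9,14,13,10,17,22,21,2,25,6,29,10,33,22,37,34,41,2,45,10,49,22,53,2,57,10,61,34,65,26,69,38,73,30,77,30,81,42,85,42,89,46,93,18,97,6,101,18,105,10,109,26,113,46,117,26,121,34,125,26,129,42,133,18,137,2,1,34,5,2,9,14,13,10,17,22,21,2,25,6,29,10,33,22,141,42,41,2,45,10,49,22,53,2,57,10,61,34,65,26,69,38,73,30,77,30,81,42,145,26,85,42,149,93,18,153,10,97,6,101,18,157,18,105,10,109,26,113,46,117,26,121,34,129,42,161,26,165,34,133,18,137,2,1,34,5,2,9,14,13,10,17,22,21,2,25,6,29,10,33,22,141,42,37,34,41,2,45,10,49,22,53,2,61,34,65,26,73,30,77,30,81,42,145,26,85,42,149,169,34,89,46,173,34,93,18,153,10,97,6,101,18,105,10,113,46,117,26,121,34,129,42,161,26,137,2,1,34,9,14,21,2,25,6,29,10,141,42,37,34,41,2,45,10,49,22,61,34,65,26,69,38,73,30,77,30,81,42,145,26,149,169,34,89,109,26,113,46,117,26,65,26,89]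
theorem run0 : tcRun A 10 0 rules hs (steps0_0) (finSt A S (ival 0 168)) D0 K0 = true := by decide +kernel
theorem done {G : Type*} [Group G] {val : ℕ → G} {H : Subgroup G} (hv : ∀ l, val (linv 10 l) = (val l)⁻¹) (he : val 13 = 1)
    (hR : ∀ r ∈ R ++ RH, evw val r = 1) (hH : ∀ l ∈ HL, val l ∈ H) : TCDone val H π 0 S (ival 0 168) := by
  have T : TCHyp val H 192 π A 10 rules hs := tcHyp_mk env hv pinv (fun r hr => hR r (List.mem_append_left _ hr)) relP hH (seeds_mem hv he hR hH) spec
  have h0 : Inv val H π 0 D0 K0 := inv_init val H π 0 13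
  exact tcRun_fin T h0 run0
end H3.HSL1
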