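/- The affine model `4³ : L₃(2)` of the second 2-local subgroup of the Higman–Sims group. -/
import Cfsg.Agent.Base

set_option autoImplicit false
set_option maxRecDepth 100000
set_option synthInstance.maxSize 4096

namespace H3.HS

abbrev T : Type := ZMod 4 × ZMod 4 × ZMod 4
/-- matrices, as triples of columns -/
abbrev M3 : Type := T × T × T

instance decEqT : DecidableEq T := instDecidableEqProd
instance decEqM3 : DecidableEq M3 := instDecidableEqProd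

/-- all vectors -/
def LT : List T := [
  (0,0,0), (0,0,1), (0,0,2), (0,0,3), (0,1,0), (0,1,1), (0,1,2), (0,1,3), (0,2,0), (0,2,1),
  (0,2,2), (0,2,3), (0,3,0), (0,3,1), (0,3,2), (0,3,3), (1,0,0), (1,0,1), (1,0,2), (1,0,3),
  (1,1,0), (1,1,1), (1,1,2), (1,1,3), (1,2,0), (1,2,1), (1,2,2), (1,2,3), (1,3,0), (1,3,1),
  (1,3,2), (1,3,3), (2,0,0), (2,0,1), (2,0,2), (2,0,3), (2,1,0), (2,1,1), (2,1,2), (2,1,3),
  (2,2,0), (2,2,1), (2,2,2), (2,2,3), (2,3,0), (2,3,1), (2,3,2), (2,3,3), (3,0,0), (3,0,1),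
  (3,0,2), (3,0,3), (3,1,0), (3,1,1), (3,1,2), (3,1,3), (3,2,0), (3,2,1), (3,2,2), (3,2,3),
  (3,3,0), (3,3,1), (3,3,2), (3,3,3)]

theorem mem_LT : ∀ v : T, v ∈ LT := by decide +kernel

instance (priority := high) decAllT (p : T → Prop) [DecidablePred p] : Decidable (∀ v, p v) :=
  decidable_of_iff (∀ v ∈ LT, p v) ⟨fun h v => h v (mem_LT v), fun h v _ => h v⟩
instance (priority := high) decExT (p : T → Prop) [DecidablePred p] : Decidable (∃ v, p v) :=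
  decidable_of_iff (∃ v ∈ LT, p v) ⟨fun ⟨v, _, h⟩ => ⟨v, h⟩, fun ⟨v, h⟩ => ⟨v, mem_LT v, h⟩⟩

instance (priority := 20000) decBAllT (p : T → Prop) [DecidablePred p] (l : List T) :
    Decidable (∀ v ∈ l, p v) := List.decidableBAll p l
instance (priority := 20000) decBExT (p : T → Prop) [DecidablePred p] (l : List T) :
    Decidable (∃ v ∈ l, p v) := List.decidableBEx p l
instance (priority := 20000) decBAllM (p : M3 → Prop) [DecidablePred p] (l : List M3) :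
    Decidable (∀ v ∈ l, p v) := List.decidableBAll p l
instance (priority := 20000) decBExM (p : M3 → Prop) [DecidablePred p] (l : List M3) :
    Decidable (∃ v ∈ l, p v) := List.decidableBEx p l

/-- a dot product, written for evaluation by the kernel -/
def dot (a b c x y z : Fin 4) : Fin 4 :=
  ⟨Nat.mod (Nat.add (Nat.add (Nat.mul a.1 x.1) (Nat.mul b.1 y.1)) (Nat.mul c.1 z.1)) 4,
    Nat.mod_lt _ (by decide)⟩

theorem dot_eq (a b c x y z : ZMod 4) : (dot a b c x y z : ZMod 4) = a * x + b * y + c * z := by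
  apply Fin.ext
  show (a.1 * x.1 + b.1 * y.1 + c.1 * z.1) % 4 =
    ((a.1 * x.1 % 4 + b.1 * y.1 % 4) % 4 + c.1 * z.1 % 4) % 4
  omega

def ap (A : M3) (u : T) : T :=
  (dot A.1.1 A.2.1.1 A.2.2.1 u.1 u.2.1 u.2.2, dot A.1.2.1 A.2.1.2.1 A.2.2.2.1 u.1 u.2.1 u.2.2,
   dot A.1.2.2 A.2.1.2.2 A.2.2.2.2 u.1 u.2.1 u.2.2)

theorem ap_def (A : M3) (u : T) : ap A u =
  (A.1.1 * u.1 + A.2.1.1 * u.2.1 + A.2.2.1 * u.2.2,
   A.1.2.1 * u.1 + A.2.1.2.1 * u.2.1 + A.2.2.2.1 * u.2.2,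
   A.1.2.2 * u.1 + A.2.1.2.2 * u.2.1 + A.2.2.2.2 * u.2.2) :=
  Prod.ext (dot_eq ..) (Prod.ext (dot_eq ..) (dot_eq ..))

def mm (A B : M3) : M3 := (ap A B.1, ap A B.2.1, ap A B.2.2)
def I3 : M3 := ((1,0,0),(0,1,0),(0,0,1))
def mS : M3 := ((0,1,0),(0,0,1),(1,3,2))
def mSi : M3 := ((1,2,1),(1,0,0),(0,1,0))
def mX : M3 := ((1,0,0),(0,0,1),(2,3,3))
def mXi : M3 := ((1,0,0),(2,3,3),(0,1,0))
def mN : M3 := ((3,0,0),(0,0,1),(0,1,0))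
def mW : M3 := ((1,0,0),(0,3,0),(3,2,3))

theorem ap_add (A : M3) (u v : T) : ap A (u + v) = ap A u + ap A v := by
  simp only [ap_def, Prod.ext_iff, Prod.fst_add, Prod.snd_add]
  refine ⟨?_, ?_, ?_⟩ <;> ring

theorem ap_mm (A B : M3) (u : T) : ap (mm A B) u = ap A (ap B u) := by
  simp only [ap_def, mm, Prod.ext_iff]
  refine ⟨?_, ?_, ?_⟩ <;> ring

theorem ap_I3 (u : T) : ap I3 u = u := by simp [ap_def, I3]
theorem ap_zero (A : M3) : ap A 0 = 0 := by simp [ap_def]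
theorem ap_e0 (A : M3) : ap A (1,0,0) = A.1 := by simp [ap_def]
theorem ap_e1 (A : M3) : ap A (0,1,0) = A.2.1 := by simp [ap_def]
theorem ap_e2 (A : M3) : ap A (0,0,1) = A.2.2 := by simp [ap_def]

theorem ext_ap {A B : M3} (h : ∀ u, ap A u = ap B u) : A = B := by
  have h0 := h (1,0,0); have h1 := h (0,1,0); have h2 := h (0,0,1)
  rw [ap_e0, ap_e0] at h0; rw [ap_e1, ap_e1] at h1; rw [ap_e2, ap_e2] at h2
  exact Prod.ext h0 (Prod.ext h1 h2)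

theorem ap_of_add (φ : T → T) (h : ∀ u v, φ (u + v) = φ u + φ v) (u : T) :
    ap (φ (1,0,0), φ (0,1,0), φ (0,0,1)) u = φ u := by
  let ψ : T →+ T := AddMonoidHom.mk' φ h
  have e : u = u.1 • ((1,0,0) : T) + u.2.1 • ((0,1,0) : T) + u.2.2 • ((0,0,1) : T) := by
    ext <;> simp
  have : φ u = u.1 • φ (1,0,0) + u.2.1 • φ (0,1,0) + u.2.2 • φ (0,0,1) := by
    show ψ u = u.1 • ψ (1,0,0) + u.2.1 • ψ (0,1,0) + u.2.2 • ψ (0,0,1)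
    rw [← ZMod.map_smul, ← ZMod.map_smul, ← ZMod.map_smul, ← map_add, ← map_add, ← e]
  rw [this]
  simp only [ap_def, Prod.ext_iff, Prod.fst_add, Prod.snd_add, Prod.smul_fst, Prod.smul_snd,
    smul_eq_mul]
  refine ⟨?_, ?_, ?_⟩ <;> ring

/-- affine maps -/
abbrev Af : Type := T × M3
instance decEqAf : DecidableEq Af := instDecidableEqProd
def am (g h : Af) : Af := (g.1 + ap g.2 h.1, mm g.2 h.2)
def a1 : Af := (0, I3)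

def evA (lv : ℕ → Af) : List ℕ → Af
  | [] => a1
  | l :: w => am (lv l) (evA lv w)

/-- the letters `p P q Q r R s S x X a y`; `e` chooses between the two complements -/
def lv (e : Bool) : ℕ → Af
  | 0 => ((1,0,0), I3) | 1 => ((3,0,0), I3) | 2 => ((0,1,0), I3) | 3 => ((0,3,0), I3)
  | 4 => ((0,0,1), I3) | 5 => ((0,0,3), I3) | 6 => (0, mS) | 7 => (0, mSi) | 8 => (0, mX)
  | 9 => (0, mXi) | 10 => (bif e then (2,0,0) else 0, mN)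
  | 11 => (bif e then (2,2,0) else 0, mW) | _ => a1

def lm (l : ℕ) : M3 := (lv false l).2

def evM : List ℕ → M3
  | [] => I3
  | l :: w => mm (lm l) (evM w)

def LA : List M3 := [
  ((1,0,0),(0,1,0),(0,0,1)), ((1,2,1),(1,0,0),(0,1,0)), ((1,0,0),(2,3,3),(0,1,0)),
  ((3,0,0),(0,0,1),(0,1,0)), ((0,1,0),(0,0,1),(1,3,2)), ((1,0,0),(0,0,1),(2,3,3)),
  ((3,3,1),(1,2,1),(1,0,0)), ((1,2,1),(1,3,2),(1,0,0)), ((3,2,3),(0,1,0),(1,0,0)),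
  ((1,2,1),(0,1,0),(1,3,2)), ((1,3,2),(1,0,0),(2,3,3)), ((3,0,0),(0,1,0),(2,3,3)),
  ((2,3,3),(0,1,0),(3,3,1)), ((3,1,2),(3,0,0),(0,0,1)), ((0,0,1),(0,1,0),(3,2,3)),
  ((0,1,0),(3,3,1),(0,0,1)), ((0,3,0),(1,3,2),(0,0,1)), ((0,0,1),(1,3,2),(2,3,3)),
  ((0,1,0),(1,3,2),(3,3,1)), ((3,3,1),(1,0,0),(0,0,1)), ((3,0,0),(2,3,3),(0,0,1)),
  ((0,0,1),(2,3,3),(1,2,1)), ((2,3,3),(3,3,1),(1,2,1)), ((1,1,3),(1,0,0),(1,2,1)),
  ((3,2,3),(1,0,0),(1,3,2)), ((0,0,3),(3,2,3),(0,1,0)), ((0,1,0),(1,0,0),(1,1,3)),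
  ((2,3,3),(1,2,1),(0,1,0)), ((3,2,3),(1,3,2),(0,1,0)), ((3,1,2),(2,3,3),(1,0,0)),
  ((1,1,3),(3,0,0),(0,1,0)), ((0,1,0),(2,3,3),(3,1,2)), ((2,1,1),(3,3,1),(0,1,0)),
  ((1,1,3),(3,1,2),(3,0,0)), ((3,1,2),(3,2,3),(3,0,0)), ((3,1,2),(0,0,1),(3,2,3)),
  ((0,0,1),(1,1,3),(0,1,0)), ((0,1,0),(3,2,3),(2,3,3)), ((0,0,1),(3,2,3),(1,1,3)),
  ((0,3,0),(0,0,1),(3,3,1)), ((3,3,1),(0,0,1),(1,2,1)), ((2,1,1),(0,3,0),(1,3,2)),
  ((1,3,2),(0,0,1),(3,0,0)), ((0,0,1),(1,2,1),(1,3,2)), ((0,0,3),(2,3,3),(1,3,2)),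
  ((1,3,2),(2,3,3),(3,3,1)), ((0,3,0),(3,3,1),(1,3,2)), ((1,3,2),(3,3,1),(1,0,0)),
  ((1,1,3),(0,0,1),(1,0,0)), ((3,2,3),(3,0,0),(2,3,3)), ((2,3,3),(0,0,1),(1,1,3)),
  ((0,0,3),(1,2,1),(2,3,3)), ((2,1,1),(1,2,1),(3,3,1)), ((0,3,0),(1,1,3),(1,0,0)),
  ((1,0,0),(1,2,1),(2,1,1)), ((2,1,1),(3,2,3),(1,0,0)), ((1,0,0),(1,3,2),(0,0,3)),
  ((2,1,1),(0,0,3),(3,2,3)), ((0,0,3),(1,1,3),(3,2,3)), ((0,0,3),(0,1,0),(1,1,3)),
  ((0,1,0),(2,1,1),(1,0,0)), ((1,0,0),(1,1,3),(1,3,2)), ((0,1,0),(1,1,3),(2,1,1)),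
  ((2,1,1),(0,1,0),(1,2,1)), ((1,1,3),(3,2,3),(1,3,2)), ((1,3,2),(0,1,0),(2,1,1)),
  ((0,3,0),(3,1,2),(2,3,3)), ((2,3,3),(1,0,0),(3,2,3)), ((1,1,3),(0,1,0),(3,1,2)),
  ((0,1,0),(3,1,2),(3,2,3)), ((0,0,3),(2,1,1),(3,3,1)), ((3,3,1),(0,1,0),(3,0,0)),
  ((3,3,1),(3,0,0),(3,1,2)), ((0,3,0),(2,3,3),(3,2,3)), ((3,2,3),(0,3,0),(0,0,1)),
  ((0,0,1),(3,3,1),(2,1,1)), ((1,1,3),(1,2,1),(0,0,1)), ((3,2,3),(2,1,1),(0,3,0)),
  ((2,1,1),(3,0,0),(0,3,0)), ((2,1,1),(1,3,2),(3,0,0)), ((1,3,2),(3,2,3),(0,0,1)),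
  ((0,0,1),(3,0,0),(3,3,1)), ((1,3,2),(3,0,0),(3,2,3)), ((0,0,3),(1,3,2),(1,2,1)),
  ((1,1,3),(0,0,3),(2,3,3)), ((2,3,3),(1,3,2),(0,3,0)), ((3,1,2),(3,3,1),(2,3,3)),
  ((3,0,0),(0,3,0),(3,3,1)), ((3,3,1),(1,3,2),(3,2,3)), ((3,1,2),(1,0,0),(3,3,1)),
  ((2,1,1),(1,1,3),(0,0,1)), ((0,0,1),(1,0,0),(3,1,2)), ((3,2,3),(1,1,3),(3,0,0)),
  ((3,2,3),(2,3,3),(1,1,3)), ((2,3,3),(3,1,2),(0,0,1)), ((2,3,3),(1,1,3),(3,1,2)),
  ((0,3,0),(0,0,3),(1,2,1)), ((1,2,1),(2,3,3),(3,0,0)), ((3,0,0),(2,1,1),(1,2,1)),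
  ((1,2,1),(3,3,1),(3,1,2)), ((3,1,2),(0,3,0),(1,1,3)), ((0,3,0),(2,1,1),(1,1,3)),
  ((0,3,0),(1,0,0),(2,1,1)), ((1,0,0),(3,1,2),(1,2,1)), ((1,2,1),(2,1,1),(0,0,1)),
  ((1,0,0),(2,1,1),(3,1,2)), ((2,1,1),(1,0,0),(0,0,3)), ((1,0,0),(0,0,3),(1,1,3)),
  ((2,3,3),(3,2,3),(0,0,3)), ((3,0,0),(1,3,2),(1,1,3)), ((3,1,2),(2,1,1),(0,1,0)),
  ((0,1,0),(1,2,1),(0,0,3)), ((1,1,3),(2,1,1),(3,2,3)), ((1,1,3),(1,3,2),(2,1,1)),
  ((1,3,2),(0,0,3),(0,1,0)), ((1,3,2),(2,1,1),(0,0,3)), ((0,0,3),(0,3,0),(3,1,2)),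
  ((0,3,0),(3,2,3),(3,1,2)), ((2,3,3),(0,0,3),(1,0,0)), ((1,0,0),(3,2,3),(3,3,1)),
  ((3,1,2),(0,0,3),(2,1,1)), ((0,0,3),(3,0,0),(2,1,1)), ((3,3,1),(3,1,2),(0,1,0)),
  ((0,1,0),(3,0,0),(1,2,1)), ((3,0,0),(3,1,2),(2,1,1)), ((3,3,1),(0,3,0),(2,3,3)),
  ((3,2,3),(0,0,1),(2,1,1)), ((0,0,1),(2,1,1),(3,0,0)), ((3,1,2),(1,1,3),(1,2,1)),
  ((1,2,1),(0,0,1),(0,3,0)), ((1,2,1),(0,3,0),(2,1,1)), ((0,0,3),(3,3,1),(3,0,0)),
  ((3,0,0),(0,0,3),(1,3,2)), ((1,3,2),(1,2,1),(1,1,3)), ((3,0,0),(1,1,3),(0,0,3)),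
  ((1,1,3),(0,3,0),(0,0,3)), ((1,1,3),(2,3,3),(0,3,0)), ((2,3,3),(3,0,0),(1,3,2)),
  ((1,3,2),(0,3,0),(1,2,1)), ((2,3,3),(0,3,0),(3,0,0)), ((3,2,3),(3,1,2),(3,3,1)),
  ((3,3,1),(2,3,3),(0,0,3)), ((3,0,0),(3,2,3),(0,3,0)), ((3,0,0),(3,3,1),(3,2,3)),
  ((3,3,1),(2,1,1),(1,3,2)), ((3,3,1),(3,2,3),(2,1,1)), ((0,0,3),(3,1,2),(1,0,0)),
  ((1,0,0),(3,3,1),(0,3,0)), ((2,1,1),(3,1,2),(1,1,3)), ((2,1,1),(0,0,1),(3,1,2)),
  ((0,0,1),(0,3,0),(1,0,0)), ((0,0,1),(3,1,2),(0,3,0)), ((0,3,0),(3,0,0),(0,0,3)),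
  ((0,3,0),(1,2,1),(3,0,0)), ((1,2,1),(1,1,3),(2,3,3)), ((1,2,1),(3,0,0),(1,1,3)),
  ((3,0,0),(1,2,1),(3,1,2)), ((1,2,1),(3,1,2),(0,0,3)), ((3,1,2),(0,1,0),(0,0,3)),
  ((0,1,0),(0,0,3),(3,0,0)), ((1,2,1),(0,0,3),(3,3,1)), ((1,3,2),(1,1,3),(0,3,0)),
  ((3,1,2),(1,2,1),(0,3,0)), ((3,2,3),(0,0,3),(3,1,2)), ((3,2,3),(3,3,1),(0,0,3)),
  ((3,3,1),(0,0,3),(0,3,0)), ((0,0,3),(1,0,0),(0,3,0)), ((1,0,0),(0,3,0),(3,2,3))]

def LW : List (List ℕ) := [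
  [], [7], [9], [10], [6], [8],
  [7,7], [7,9], [7,10], [7,8], [9,7], [9,10],
  [9,6], [10,7], [10,6], [6,9], [6,10], [6,6],
  [6,8], [8,7], [8,10], [8,6], [7,7,7], [7,7,10],
  [7,9,10], [7,10,7], [7,10,6], [7,8,7], [7,8,10], [9,7,10],
  [9,10,7], [9,10,6], [9,6,10], [10,7,7], [10,7,9], [10,7,8],
  [10,6,9], [10,6,6], [10,6,8], [6,9,10], [6,9,6], [6,10,7],
  [6,10,6], [6,6,9], [6,6,10], [6,6,6], [6,8,10], [6,8,6],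
  [8,7,10], [8,10,7], [8,10,6], [8,6,10], [7,7,7,10], [7,7,10,7],
  [7,7,10,6], [7,9,10,7], [7,9,10,6], [7,10,7,7], [7,10,7,9], [7,10,7,8],
  [7,10,6,9], [7,10,6,6], [7,10,6,8], [7,8,7,10], [7,8,10,7], [7,8,10,6],
  [9,7,10,7], [9,7,10,6], [9,10,7,8], [9,10,6,8], [9,6,10,7], [9,6,10,6],
  [10,7,7,10], [10,6,6,10], [6,9,10,7], [6,9,10,6], [6,9,6,10], [6,10,7,7],
  [6,10,7,9], [6,10,7,8], [6,10,6,9], [6,10,6,6], [6,10,6,8], [6,6,9,10],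
  [6,6,10,7], [6,6,10,6], [6,6,6,10], [6,8,10,7], [6,8,10,6], [6,8,6,10],
  [8,7,10,7], [8,7,10,6], [8,10,7,9], [8,10,7,8], [8,10,6,9], [8,10,6,8],
  [8,6,10,7], [8,6,10,6], [7,7,7,10,7], [7,7,7,10,6], [7,7,10,7,7], [7,7,10,7,9],
  [7,7,10,7,8], [7,7,10,6,9], [7,7,10,6,6], [7,7,10,6,8], [7,9,10,7,8], [7,9,10,6,8],
  [7,10,7,7,10], [7,10,6,6,10], [7,8,7,10,7], [7,8,7,10,6], [7,8,10,7,9], [7,8,10,7,8],
  [7,8,10,6,9], [7,8,10,6,8], [9,7,10,7,7], [9,7,10,7,9], [9,7,10,6,9], [9,7,10,6,6],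
  [9,6,10,7,7], [9,6,10,7,9], [9,6,10,6,9], [9,6,10,6,6], [10,7,7,10,6], [10,6,6,10,7],
  [6,9,10,7,8], [6,9,10,6,8], [6,9,6,10,7], [6,9,6,10,6], [6,10,7,7,10], [6,10,6,6,10],
  [6,6,9,10,7], [6,6,9,10,6], [6,6,10,7,7], [6,6,10,7,9], [6,6,10,7,8], [6,6,10,6,9],
  [6,6,10,6,6], [6,6,10,6,8], [6,6,6,10,7], [6,6,6,10,6], [6,8,10,7,9], [6,8,10,7,8],
  [6,8,10,6,9], [6,8,10,6,8], [6,8,6,10,7], [6,8,6,10,6], [8,7,10,7,9], [8,7,10,7,8],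
  [8,7,10,6,9], [8,7,10,6,8], [8,6,10,7,9], [8,6,10,7,8], [8,6,10,6,9], [8,6,10,6,8],
  [7,7,7,10,7,8], [7,7,7,10,6,8], [7,8,7,10,7,8], [7,8,7,10,6,8], [6,10,6,6,10,7], [6,6,9,10,6,8],
  [6,6,10,6,6,10], [6,6,6,10,7,9], [6,6,6,10,7,8], [6,6,6,10,6,8], [6,8,6,10,7,8], [6,8,6,10,6,8]]

theorem LW_map : LW.map evM = LA := by decide +kernel
theorem LA_nodup : LA.Nodup := by decide +kernel
theorem LW_len : LW.length = 168 := by decide +kernel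
theorem LW_lt : ∀ w ∈ LW, ∀ l ∈ w, 6 ≤ l ∧ l ≤ 10 := by decide +kernel
theorem LW_I : ∀ w ∈ LW, evM w = I3 → w = [] := by decide +kernel

theorem LA_triv : ∀ A ∈ LA, ap A (2,0,0) = (2,0,0) → ap A (0,2,0) = (0,2,0) →
    ap A (0,0,2) = (0,0,2) → A = I3 := by decide +kernel
theorem LA_X : ∀ A ∈ LA, mm A mX = mm mX A → mm (mm A A) (mm A A) = I3 → A = I3 := by
  decide +kernel
theorem LA_inv : ∀ A ∈ LA, mm A A = I3 → A = I3 ∨ ∃ B ∈ LA, mm B A = mm mN B := by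
  decide +kernel
theorem LA_W : ∀ A ∈ LA, A.1 = (1,0,0) → A ≠ I3 → mm mN A = mm (mm mX (mm A mXi)) mN →
    A = mW := by decide +kernel
theorem fix_X : ∀ u : T, ap mX u = u → u = 0 ∨ u = (1,0,0) ∨ u = (2,0,0) ∨ u = (3,0,0) := by
  decide +kernel

/-! ### the basis lemma -/

def mp (A : M3) : ℕ → M3
  | 0 => I3
  | n + 1 => mm A (mp A n)

def rd (u : T) : T := (u.1 * u.1, u.2.1 * u.2.1, u.2.2 * u.2.2)
def red (A : M3) : M3 := (rd A.1, rd A.2.1, rd A.2.2)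
def L01 : List T := [(0,0,0), (0,0,1), (0,1,0), (0,1,1), (1,0,0), (1,0,1), (1,1,0), (1,1,1)]

theorem rd_mem : ∀ u : T, rd u ∈ L01 := by decide +kernel

theorem ap_red (A : M3) {u : T} (h : u + u = 0) : ap (red A) u = ap A u := by
  have k : ∀ a c : ZMod 4, c + c = 0 → a * a * c = a * c := by decide
  have h1 := congrArg (fun z : T => z.1) h
  have h2 := congrArg (fun z : T => z.2.1) h
  have h3 := congrArg (fun z : T => z.2.2) h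
  simp only [ap_def, red, rd, k _ _ h1, k _ _ h2, k _ _ h3]

theorem ap_two (A : M3) {u : T} (h : u + u = 0) : ap A u + ap A u = 0 := by
  rw [← ap_add, h, ap_zero]

theorem ap_mp_red (A : M3) (n : ℕ) {u : T} (h : u + u = 0) :
    ap (mp (red A) n) u = ap (mp A n) u := by
  induction n with
  | zero => rfl
  | succ n ih => rw [mp, mp, ap_mm, ap_mm, ih, ap_red A (ap_two _ h)]

theorem indep_red : ∀ c0 ∈ L01, ∀ c1 ∈ L01, ∀ c2 ∈ L01,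
    ap (mp (c0, c1, c2) 7) (2,0,0) = (2,0,0) → ap (mp (c0, c1, c2) 7) (0,2,0) = (0,2,0) →
    ap (mp (c0, c1, c2) 7) (0,0,2) = (0,0,2) →
    (ap (c0, c1, c2) (2,0,0) = (2,0,0) ∧ ap (c0, c1, c2) (0,2,0) = (0,2,0) ∧
      ap (c0, c1, c2) (0,0,2) = (0,0,2)) ∨ ∀ u ∈ L01, u ≠ 0 → ∀ d ∈ L01, d ≠ 0 →
      ap (u + u, ap (c0, c1, c2) (u + u), ap (c0, c1, c2) (ap (c0, c1, c2) (u + u))) d ≠ 0 := by
  decide +kernel

theorem fix_red : ∀ c0 ∈ L01, ∀ c1 ∈ L01, ∀ c2 ∈ L01,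
    ap (mp (c0, c1, c2) 3) (2,0,0) = (2,0,0) → ap (mp (c0, c1, c2) 3) (0,2,0) = (0,2,0) →
    ap (mp (c0, c1, c2) 3) (0,0,2) = (0,0,2) →
    ∃ u ∈ L01, u ≠ 0 ∧ ap (c0, c1, c2) (u + u) = u + u := by
  decide +kernel

theorem exists_fix {A : M3} (h : mp A 3 = I3) :
    ∃ w u : T, ap A w = w ∧ u ∈ L01 ∧ u ≠ 0 ∧ w + w = u + u := by
  obtain ⟨u, h1, h2, h3⟩ := fix_red _ (rd_mem A.1) _ (rd_mem A.2.1) _ (rd_mem A.2.2)
    ((ap_mp_red A 3 (by decide)).trans (by rw [h, ap_I3]))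
    ((ap_mp_red A 3 (by decide)).trans (by rw [h, ap_I3]))
    ((ap_mp_red A 3 (by decide)).trans (by rw [h, ap_I3]))
  have k : ∀ u : T, u + u + (u + u) = 0 := by decide +kernel
  have h4 : ap A (u + u) = u + u := (ap_red A (k u)).symm.trans h3
  have h5 : ap A (ap A (ap A u)) = u := by
    have := congrArg (fun B => ap B u) h
    simpa only [mp, ap_mm, ap_I3] using this
  refine ⟨u + ap A u + ap A (ap A u), u, ?_, h1, h2, ?_⟩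
  · rw [ap_add, ap_add, h5]; abel
  · have : u + ap A u + ap A (ap A u) + (u + ap A u + ap A (ap A u)) =
        u + u + ap A (u + u) + ap A (ap A (u + u)) := by
      simp only [ap_add]; abel
    rw [this, h4, h4, k, zero_add]

theorem inj_basis {A : M3} (h : mp A 7 = I3)
    (hn : ¬ (ap A (2,0,0) = (2,0,0) ∧ ap A (0,2,0) = (0,2,0) ∧ ap A (0,0,2) = (0,0,2)))
    {w u : T} (hu : u ∈ L01) (h0 : u ≠ 0) (hw : w + w = u + u) :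
    Function.Injective (ap (w, ap A w, ap A (ap A w))) := by
  have k : ∀ u : T, u + u + (u + u) = 0 := by decide +kernel
  have key : ∀ c, ap (w, ap A w, ap A (ap A w)) c = 0 → c = 0 := by
    intro c hc
    by_contra hc0
    obtain ⟨d, hd, hd0, hdc⟩ : ∃ d ∈ L01, d ≠ 0 ∧ (d + d = c ∨ d + d = c + c) := by
      clear hc; revert c; decide +kernel
    have h1 : ap (w, ap A w, ap A (ap A w)) (d + d) = 0 := by
      rcases hdc with e | e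
      · rw [e, hc]
      · rw [e, ap_add, hc, add_zero]
    rcases indep_red _ (rd_mem A.1) _ (rd_mem A.2.1) _ (rd_mem A.2.2)
      ((ap_mp_red A 7 (by decide)).trans (by rw [h, ap_I3]))
      ((ap_mp_red A 7 (by decide)).trans (by rw [h, ap_I3]))
      ((ap_mp_red A 7 (by decide)).trans (by rw [h, ap_I3])) with ⟨e1, e2, e3⟩ | e
    · exact hn ⟨(ap_red A (by decide)).symm.trans e1, (ap_red A (by decide)).symm.trans e2,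
        (ap_red A (by decide)).symm.trans e3⟩
    · apply e u hu h0 d hd hd0
      have e1 : ap (rd A.1, rd A.2.1, rd A.2.2) (u + u) = ap A (u + u) := ap_red A (k u)
      have e2 : ap (rd A.1, rd A.2.1, rd A.2.2) (ap A (u + u)) = ap A (ap A (u + u)) :=
        ap_red A (ap_two A (k u))
      rw [e1, e2, ← hw, ← h1, ap_add, ap_add, ap_add]
      generalize ap A (ap A w) = w2
      generalize ap A w = w1
      simp only [ap_def, Prod.ext_iff, Prod.fst_add, Prod.snd_add]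
      refine ⟨?_, ?_, ?_⟩ <;> ring
  intro c c' e
  have : ap (w, ap A w, ap A (ap A w)) (c - c') = 0 := by
    have := ap_add (w, ap A w, ap A (ap A w)) (c - c') c'
    rw [sub_add_cancel, e] at this
    exact add_right_cancel (this.symm.trans (zero_add _).symm)
  exact sub_eq_zero.mp (key _ this)

theorem cubic : ∀ c : T, mp ((0,1,0), (0,0,1), c) 7 = I3 → c = (1,3,2) ∨ c = (1,2,1) := by
  decide +kernel

theorem uniq_N : ∀ c0 : T, ap mXi c0 = c0 → ∀ c1 : T,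
    mm (c0, c1, ap mXi c1) (c0, c1, ap mXi c1) = I3 →
    (mp (mm (c0, c1, ap mXi c1) mS) 3 = I3 ∨ mp (mm (c0, c1, ap mXi c1) mSi) 3 = I3) →
    (c0, c1, ap mXi c1) = mN := by
  decide +kernel

end H3.HS
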