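/- The characterisation of the Higman–Sims group by two 2-local subgroups: the endgame. -/
import Cfsg.Agent.H3.HSRel
import Cfsg.Agent.H3.HSBridge
import Cfsg.Agent.H3.NonCyclic
import Cfsg.Agent.H49.CenCore

set_option autoImplicit false
set_option maxRecDepth 100000
set_option synthInstance.maxSize 4096

namespace H3.HS
open Subgroup H71 H74

variable {G : Type*} [Group G] {H R M Q : Subgroup G} {P : G → S5 → Prop} {ι : T → G}
  {s x a f : G} {Rp : G → Af → Prop} {e : Bool}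

theorem exists_conj_mem_of_odd {K M : Subgroup G} (ho : Odd (M.relIndex K)) {u : G} (hu : u ∈ K)
    (h2 : u * u = 1) : ∃ g ∈ K, g⁻¹ * u * g ∈ M := by
  classical
  have : Finite (K ⧸ M.subgroupOf K) := Nat.finite_of_card_ne_zero ho.pos.ne'
  have := Fintype.ofFinite (K ⧸ M.subgroupOf K)
  have : Fact (Nat.Prime 2) := ⟨Nat.prime_two⟩
  obtain ⟨c, hc⟩ := Equiv.Perm.exists_fixed_point_of_prime (p := 2) (n := 1)
    (σ := MulAction.toPermHom K (K ⧸ M.subgroupOf K) ⟨u, hu⟩)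
    (by rw [← Nat.card_eq_fintype_card]; exact ho.not_two_dvd_nat) (by
      rw [← map_pow, show (⟨u, hu⟩ : K) ^ 2 ^ 1 = 1 from Subtype.ext ((pow_two u).trans h2),
        map_one])
  obtain ⟨g, rfl⟩ := QuotientGroup.mk_surjective c
  have : g⁻¹ * (⟨u, hu⟩ * g) ∈ M.subgroupOf K := QuotientGroup.eq.mp hc.symm
  exact ⟨g, g.2, by rw [mul_assoc]; exact this⟩

theorem inv_coset : ∀ e : Bool, ∀ c : T,
    am (am (c, I3) (lv e 10)) (am (c, I3) (lv e 10)) = a1 →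
    ∃ d ∈ ([(0,0,0), (0,1,0), (0,2,0), (0,3,0), (1,0,0), (1,1,0), (1,2,0), (1,3,0)] : List T),
      am (d, I3) (evA (lv e) [10]) = am (am (c, I3) (lv e 10)) (d, I3) ∨
      am (d, I3) (evA (lv e) [0,10]) = am (am (c, I3) (lv e 10)) (d, I3) := by
  decide +kernel

/-- conjugating words -/
def CL : List (List ℕ) := [[], [4,11], [11,7,7], [7,8], [2,2], [11,5], [6,6], [0], [9,0,6], [11,3],
  [9,6,4], [7,7,7], [11,8,7], [9,6,2,4], [7,8,7,4], [7,7,7,5], [11,4], [9,6,10,2], [2,2,0]]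

theorem no_bad : ∀ e : Bool, ∀ A ∈ LA, mm A A = I3 →
    mm A (evA (lv e) [9,11,2,8]).2 = mm (evA (lv e) [9,11,2,8]).2 A → ∀ v : T,
    am (v, A) (v, A) = a1 →
    am (v, A) (evA (lv e) [9,11,2,8]) = am (evA (lv e) [9,11,2,8]) (v, A) →
    am (v, A) (evA (lv e) [0,0]) = am (evA (lv e) [0,0]) (v, A) → (v, A) = a1 ∨
    ∃ m ∈ CL, (∀ l ∈ m, l < 12) ∧
      ((∃ b ∈ [[0,0], [10]], am (evA (lv e) m) (v, A) = am (evA (lv e) b) (evA (lv e) m) ∨
        am (evA (lv e) m) (am (v, A) (evA (lv e) [9,11,2,8])) =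
          am (evA (lv e) b) (evA (lv e) m)) ∨
      am (evA (lv e) m) (am (evA (lv e) [0,0]) (v, A)) = am (evA (lv e) [0,10]) (evA (lv e) m)) := by
  decide +kernel

theorem snd_comm {v : T} {A : M3} {z : Af} (h : am (v, A) z = am z (v, A)) :
    mm A z.2 = mm z.2 A := congrArg Prod.snd h

theorem snd_sq {v : T} {A : M3} (h : am (v, A) (v, A) = a1) : mm A A = I3 := congrArg Prod.snd h

theorem Md.eqA (h : Md M ι Rp) {m n : G} {z w : Af} (r : Rp m z) (r' : Rp n w) (k : m = n) :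
    z = w := h.uniq r (k ▸ r')

theorem Md.eqG (h : Md M ι Rp) {m n : G} {z w : Af} (r : Rp m z) (r' : Rp n w) (k : z = w) :
    m = n := h.inj r (k ▸ r')

namespace Cf

theorem inv_M (h : Cf H R M Q P ι s x a f Rp e) {u : G} (hu : u ∈ M) (h2 : u * u = 1)
    (h1 : u ≠ 1) : ∃ m ∈ M, ∃ w ∈ [[0,0], [10], [0,10]], m * evw (vl ι s x a f) w * m⁻¹ = u := by
  have F := h.D.F
  obtain ⟨A, hA, e1⟩ := F.acts_LA hu
  rcases LA_inv A hA (F.toFr.eq_I3 (e1.mul e1) (h2 ▸ Q.one_mem)) with rfl | ⟨B, hB, e2⟩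
  · obtain ⟨v, rfl⟩ := (F.mem _).mp (F.mem_Q hu e1)
    replace e1 : v + v = 0 := F.toFr.eq_one (by rw [F.add, h2])
    have e2 : v ≠ 0 := fun e => h1 (by rw [e, F.toFr.zero])
    obtain ⟨i, -, hi⟩ : ∃ i ∈ [0, 1, 2, 3, 4, 5, 6], ap (mp mS i) (2,0,0) = v := by
      clear hu h2 h1; revert v; decide +kernel
    exact ⟨_, M.pow_mem F.hs i, [0,0], by simp, by
      rw [h.evι [0,0] (2,0,0), ← hi]; exact F.aS.pow i _⟩
  · obtain ⟨b, hb, ab⟩ := F.exists_of_LA hB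
    obtain ⟨c, hc⟩ := F.exists_mul (M.mul_mem hb hu) (M.mul_mem F.ha hb) (ab.mul e1)
      (e2 ▸ F.aN.mul ab)
    have e3 : ι c * a = b * u * b⁻¹ := by rw [hc]; group
    have r := h.m.mul (h.m.rι c) h.ra
    have k : ∀ d w, (∀ l ∈ w, l < 12) →
        am (d, I3) (evA (lv e) w) = am (am (c, I3) (lv e 10)) (d, I3) →
        b⁻¹ * ι d * evw (vl ι s x a f) w * (b⁻¹ * ι d)⁻¹ = u := fun d w hw k => by
      have := h.m.inj (h.m.mul (h.m.rι d) (h.rw w hw)) (k ▸ h.m.mul r (h.m.rι d))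
      rw [mul_assoc b⁻¹, this, e3]; group
    obtain ⟨d, -, hd⟩ := inv_coset e c (h.m.uniq (h.m.mul r r) (by
      rw [e3, show b * u * b⁻¹ * (b * u * b⁻¹) = b * (u * u) * b⁻¹ by group, h2]
      simpa using h.one))
    rcases hd with hd | hd
    · exact ⟨_, M.mul_mem (M.inv_mem hb) (F.memM d), [10], by simp, k d _ (by decide) hd⟩
    · exact ⟨_, M.mul_mem (M.inv_mem hb) (F.memM d), [0,10], by simp, k d _ (by decide) hd⟩

theorem a_conj (h : Cf H R M Q P ι s x a f Rp e) : Cj (vl ι s x a f)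
    (evw (vl ι s x a f) [6,10,7] * (f * evw (vl ι s x a f) [6,10,7])) [0,0] [10] :=
  ((h.cj _ [0,0] [2,2,4,4]).comp h.fv3).comp (h.cj _ [9,11,8] [10])

theorem Pu (h : Cf H R M Q P ι s x a f Rp e) :
    P (evw (vl ι s x a f) [9,11,2,8]) (pX⁻¹ * pY * pX) := by
  have := h.D.B.mul (h.D.B.toPH.inv h.D.Px) (h.D.B.mul
    (h.D.B.ker.mpr (h.D.fV (u := (0,2,0)) (by decide))) (h.D.B.mul h.D.Pq
      (h.D.B.mul h.D.Px h.D.B.toPH.one)))
  rwa [one_mul, mul_one pX, ← mul_assoc pX⁻¹] at this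

theorem ord2 (h : Cf H R M Q P ι s x a f Rp e) (w : List ℕ)
    (k : Same (w ++ w) [] ∧ (∀ l ∈ w, l < 12) ∧ ∀ e, evA (lv e) w ≠ a1 := by decide +kernel) :
    orderOf (evw (vl ι s x a f) w) = 2 :=
  H83.orderOf_eq_two_iff'.mpr ⟨by rw [← evw_append]; exact h.wd _ [] k.1,
    fun e1 => k.2.2 e (h.m.uniq (h.rw w k.2.1) (e1 ▸ h.one))⟩

theorem memH (h : Cf H R M Q P ι s x a f Rp e) {g : G} :
    g ∈ H ↔ g * evw (vl ι s x a f) [0,0] = evw (vl ι s x a f) [0,0] * g := by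
  rw [h.evι [0,0] (2,0,0), h.D.B.memH]

section
variable (h : Cf H R M Q P ι s x a f Rp e)
  (hc : (f * evw (vl ι s x a f) [2,4,11,10,11]) ^ 3 = 1)
include h hc

/-- The homomorphism from the presented group. -/
noncomputable def j : X →* G :=
  WG.lift (h.hv hc) (fun l hl => by
    obtain ⟨k, rfl⟩ : ∃ k, l = k + 13 := ⟨l - 13, by omega⟩
    rfl) (h.rels hc)

theorem j_evw (w : List ℕ) : h.j hc (evw xv w) = evw (vl ι s x a f) w := WG.lift_evw _ _ _ w

theorem j_inj : Function.Injective (h.j hc) := by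
  have := simpleX
  rcases (h.j hc).normal_ker.eq_bot_or_eq_top with k | k
  · exact (MonoidHom.ker_eq_bot_iff _).mp k
  · have : evw xv [0] ∈ (h.j hc).ker := k ▸ mem_top _
    rw [MonoidHom.mem_ker, h.j_evw hc, h.evι [0] (1,0,0)] at this
    exact absurd (h.D.F.toFr.eq_one this) (by decide)

theorem grel (w : List ℕ) (k : isId HSM.A 7 112 w = true := by decide +kernel) :
    evw (vl ι s x a f) w = 1 := by rw [← h.j_evw hc, xrel k, map_one]

theorem gne (w : List ℕ) (i i' : ℕ) (k : maps HSM.A w i i' = true := by decide +kernel)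
    (k' : i ≠ i' := by decide) : evw (vl ι s x a f) w ≠ 1 := fun e1 =>
  xne k k' (h.j_inj hc (by rw [h.j_evw hc, e1, map_one]))

theorem gcomm (w w' : List ℕ)
    (k : isId HSM.A 7 112 (w ++ (w' ++ (winv 10 w ++ winv 10 w'))) = true := by decide +kernel) :
    Commute (evw (vl ι s x a f) w) (evw (vl ι s x a f) w') := by
  have := h.grel hc _ k
  rw [evw_append, evw_append, evw_append, evw_winv (h.hv hc), evw_winv (h.hv hc)] at this
  show _ * _ = _ * _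
  rw [← one_mul (_ * evw _ w), ← this]; group

theorem not_conj [Finite G] : ¬ IsConj (evw (vl ι s x a f) [0,0]) (evw (vl ι s x a f) [0,10]) := by
  intro k
  obtain ⟨c, hk⟩ := isConj_iff.mp k
  have : Fact (Nat.Prime 3) := ⟨by norm_num⟩
  have a1 := h.gcomm hc [12,2,4,11,10,11] [2,7,12,4,6,12,4,7,7,3,12,6,2,12,7]
  have a2 := h.gcomm hc [12,2,4,11,10,11] [0,10]
  have a3 := h.gcomm hc [2,7,12,4,6,12,4,7,7,3,12,6,2,12,7] [0,10]
  have a4 := h.grel hc ([12,2,4,11,10,11] ++ [12,2,4,11,10,11] ++ [12,2,4,11,10,11])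
  have a5 := h.grel hc ([2,7,12,4,6,12,4,7,7,3,12,6,2,12,7] ++
    [2,7,12,4,6,12,4,7,7,3,12,6,2,12,7] ++ [2,7,12,4,6,12,4,7,7,3,12,6,2,12,7])
  have b1 := h.gne hc [12,2,4,11,10,11] 0 92
  have b2 := h.gne hc [2,7,12,4,6,12,4,7,7,3,12,6,2,12,7] 0 90
  have b3 := h.gne hc ([2,7,12,4,6,12,4,7,7,3,12,6,2,12,7] ++ [12,2,4,11,10,11]) 0 44
  have b4 := h.gne hc ([2,7,12,4,6,12,4,7,7,3,12,6,2,12,7] ++ [12,2,4,11,10,11] ++
    [12,2,4,11,10,11]) 0 52
  simp only [evw_append] at a4 a5 b3 b4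
  generalize evw (vl ι s x a f) [12,2,4,11,10,11] = c1 at *
  generalize evw (vl ι s x a f) [2,7,12,4,6,12,4,7,7,3,12,6,2,12,7] = c2 at *
  have o1 : orderOf c1 = 3 := orderOf_eq_prime (by rw [pow_succ, pow_two, a4]) b1
  have o2 : orderOf c2 = 3 := orderOf_eq_prime (by rw [pow_succ, pow_two, a5]) b2
  have c9 := card_sup_zpowers_of_commute (p := 3) (by norm_num) a1 o1 o2 (by
    classical
    rw [mem_zpowers_iff_mem_range_orderOf, o1]
    intro k
    obtain ⟨i, hi, e1⟩ := Finset.mem_image.mp k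
    have := Finset.mem_range.mp hi
    subst e1
    interval_cases i
    · exact b2 (pow_zero _)
    · exact b4 (by rw [pow_one, a4])
    · exact b3 (by rw [pow_two, a4]))
  have le : ∀ z, Commute z (evw (vl ι s x a f) [0,10]) →
      zpowers z ≤ H.map (MulAut.conj c).toMonoidHom := fun z hz => by
    rw [zpowers_le]
    refine ⟨c⁻¹ * z * c, h.memH.mpr ?_, by simp [mul_assoc]⟩
    rw [← hk] at hz
    calc _ = c⁻¹ * (z * (c * evw (vl ι s x a f) [0,0] * c⁻¹)) * c := by group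
      _ = _ := by rw [hz.eq]; group
  have := card_dvd_of_le (sup_le (le _ a2) (le _ a3))
  rw [c9, card_map_of_injective (MulAut.conj c).injective, ← h.D.B.toPH.card, h.D.B.cardR,
    card_S5] at this
  omega

theorem hnb [Finite G] (y : G) (yu : Commute y (evw (vl ι s x a f) [9,11,2,8]))
    (oy : orderOf y = 2) (yt : Commute y (evw (vl ι s x a f) [0,0]))
    (ty : IsConj (evw (vl ι s x a f) [0,0]) (evw (vl ι s x a f) [0,0] * y)) :
    IsConj (evw (vl ι s x a f) [0,0]) y ∨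
      IsConj (evw (vl ι s x a f) [0,0]) (y * evw (vl ι s x a f) [9,11,2,8]) := by
  have ta := h.a_conj
  have nc := h.not_conj hc
  obtain ⟨σ, hσ⟩ := h.D.B.ex y (h.memH.mpr yt.eq)
  obtain ⟨v, A, hA, ry⟩ := h.m.ex y (h.D.mem_M_of_fix hσ (s5_cent σ
    (h.D.B.uniq (h.D.B.mul hσ h.Pu) (yu.eq ▸ h.D.B.mul h.Pu hσ))).1)
  have m1 := h.m.eqA (h.m.mul ry ry) h.one (H83.mul_self_of_orderOf_two oy)
  have m2 := h.m.eqA (h.m.mul ry (h.rw [9,11,2,8])) (h.m.mul (h.rw [9,11,2,8]) ry) yu.eq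
  have m3 := h.m.eqA (h.m.mul ry (h.rw [0,0])) (h.m.mul (h.rw [0,0]) ry) yt.eq
  have k : ∀ {z z'} m b, (∀ l ∈ m, l < 12) → (∀ l ∈ b, l < 12) → Rp z z' →
      am (evA (lv e) m) z' = am (evA (lv e) b) (evA (lv e) m) →
      IsConj (evw (vl ι s x a f) b) z := fun m b hm hb r e1 =>
    (isConj_iff.mpr ⟨_, mul_inv_eq_iff_eq_mul.mpr (h.m.eqG (h.m.mul (h.rw m hm) r)
      (h.m.mul (h.rw b hb) (h.rw m hm)) e1)⟩).symm
  have key := no_bad e A hA (snd_sq m1) (snd_comm m2) v m1 m2 m3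
  clear m1 m2 m3
  rcases key with e1 | ⟨m, -, hm, ⟨b, hb, e1⟩ | e1⟩
  · exact absurd (h.m.eqG ry h.one e1) (H83.ne_one_of_orderOf_two oy)
  · have tb : IsConj (evw (vl ι s x a f) [0,0]) (evw (vl ι s x a f) b) ∧ ∀ l ∈ b, l < 12 := by
      simp only [List.mem_cons, List.not_mem_nil, or_false] at hb
      rcases hb with rfl | rfl
      · exact ⟨IsConj.refl _, by decide⟩
      · exact ⟨isConj_iff.mpr ⟨_, ta⟩, by decide⟩
    exact e1.imp (fun e1 => tb.1.trans (k m b hm tb.2 ry e1))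
      fun e1 => tb.1.trans (k m b hm tb.2 (h.m.mul ry (h.rw [9,11,2,8])) e1)
  · exact absurd (IsConj.trans ty
      (k m [0,10] hm (by decide) (h.m.mul (h.rw [0,0]) ry) e1).symm) nc

theorem hnt (y : G) (yu : y * evw (vl ι s x a f) [9,11,2,8] = evw (vl ι s x a f) [9,11,2,8] * y)
    (e1 : y * evw (vl ι s x a f) [0,0] * y⁻¹ = evw (vl ι s x a f) [6,10,7] *
      evw (vl ι s x a f) [0,0] * (evw (vl ι s x a f) [6,10,7])⁻¹) : False := by
  have ug : Cj _ _ [0,10] [9,11,2,8] := h.cj [6,10,7] _ _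
  have c1 := (h.c0.app h.c0).comm
  have c2 : Cj (vl ι s x a f) (f * evw (vl ι s x a f) [2,4,11,10,11]) [0,10] [0,10] :=
    (h.cj _ [0,10] [1,10]).comp (h.f1.app (w2 := [10]) (w2' := [10]) (by
      show f * (a * 1) * f⁻¹ = a * 1
      rw [mul_one, h.fa_comm hc]; group))
  have c2 := c2.comm
  have c3 := h.Pw
  have c4 := h.Pu
  have c5 := @Cf.memH _ _ _ _ _ _ _ _ _ _ _ _ _ _ h
  unfold Cj at ug
  change _ * evw _ [0,0] = evw _ [0,0] * _ at c1
  generalize f * evw (vl ι s x a f) [2,4,11,10,11] = c at *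
  generalize evw (vl ι s x a f) [6,10,7] = g at *
  generalize evw (vl ι s x a f) [0,0] = t at *
  generalize evw (vl ι s x a f) [9,11,2,8] = u at *
  generalize evw (vl ι s x a f) [0,10] = b at *
  have k1 : y⁻¹ * g * c * (y⁻¹ * g)⁻¹ * t = t * (y⁻¹ * g * c * (y⁻¹ * g)⁻¹) := by
    have : t = y⁻¹ * g * t * (y⁻¹ * g)⁻¹ := by
      calc t = y⁻¹ * (y * t * y⁻¹) * y := by group
        _ = _ := by rw [e1]; group
    calc _ = y⁻¹ * g * (c * t) * (y⁻¹ * g)⁻¹ := by nth_rewrite 1 [this]; group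
      _ = _ := by rw [c1]; nth_rewrite 2 [this]; group
  have k2 : y⁻¹ * g * c * (y⁻¹ * g)⁻¹ * u = u * (y⁻¹ * g * c * (y⁻¹ * g)⁻¹) := by
    have : u = y⁻¹ * g * b * (y⁻¹ * g)⁻¹ := by
      calc u = y⁻¹ * (y * u) := by group
        _ = _ := by rw [yu, ← ug]; group
    calc _ = y⁻¹ * g * (c * b) * (y⁻¹ * g)⁻¹ := by nth_rewrite 1 [this]; group
      _ = _ := by rw [c2]; nth_rewrite 1 [this]; group
  have k3 : (y⁻¹ * g * c * (y⁻¹ * g)⁻¹) ^ 3 = 1 := by rw [conj_pow, hc]; group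
  have k4 : y⁻¹ * g * c * (y⁻¹ * g)⁻¹ = 1 := by
    generalize y⁻¹ * g * c * (y⁻¹ * g)⁻¹ = k at k1 k2 k3
    obtain ⟨σ, hσ⟩ := h.D.B.ex k (c5.mpr k1)
    rw [pow_succ, pow_two] at k3
    have := (s5_cent σ (h.D.B.uniq (h.D.B.mul hσ c4) (k2 ▸ h.D.B.mul c4 hσ))).2
      (h.D.B.toPH.eq_one (h.D.B.mul (h.D.B.mul hσ hσ) hσ) (k3 ▸ R.one_mem))
    have k5 := h.D.B.four h.D.F.toFr (h.D.B.toPH.ker' hσ this)
    rwa [← mul_assoc, k3, one_mul] at k5
  have : c = 1 := conj_eq_one_iff.mp k4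
  exact absurd (h.D.B.toPH.eq_one c3 (this ▸ R.one_mem)) (by decide)

theorem range_top [Finite G] : (h.j hc).range = ⊤ := by
  set K := (h.j hc).range with hK
  have mK : ∀ w, evw (vl ι s x a f) w ∈ K := fun w => ⟨_, h.j_evw hc w⟩
  have lK : ∀ l < 13, vl ι s x a f l ∈ K := fun l _ => by simpa using mK [l]
  have fK : f ∈ K := lK 12 (by norm_num)
  have MK := h.M_le lK
  have HK := h.H_le lK
  have odd : Odd (M.relIndex K) := by
    have e1 := (M.subgroupOf K).card_mul_index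
    rw [Nat.card_congr (subgroupOfEquivOfLe MK).toEquiv, h.D.F.card_M,
      ← Nat.card_congr (MonoidHom.ofInjective (h.j_inj hc)).toEquiv, cardX] at e1
    rw [show M.relIndex K = 4125 by unfold relIndex; omega]
    decide
  have ot := h.ord2 [0,0]
  have ou := h.ord2 [9,11,2,8]
  have gu : Cj _ _ [9,11,2,8] [0,10] := h.cj [6,10,7] _ _
  have gt : Cj _ _ [0,0] [2,2,4,4] := h.cj [6,10,7] _ _
  have tu : Commute _ _ := (h.cj [0,0] [9,11,2,8] [9,11,2,8]).comm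
  have bu : Commute _ _ := (h.cj [2,2,4,4] [9,11,2,8] [9,11,2,8]).comm
  have ta := h.a_conj
  have nc := h.not_conj hc
  have cls : ∀ u ∈ K, orderOf u = 2 → ∃ m ∈ K, m * evw (vl ι s x a f) [0,0] * m⁻¹ = u ∨
      m * evw (vl ι s x a f) [9,11,2,8] * m⁻¹ = u := by
    intro u hu ho
    obtain ⟨g, hg, hgu⟩ := exists_conj_mem_of_odd odd hu (H83.mul_self_of_orderOf_two ho)
    have ho' : orderOf (g⁻¹ * u * g) = 2 := by
      rw [← ho, ← H83.orderOf_conj g⁻¹ u, inv_inv]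
    obtain ⟨m, hm, w, hw, e1⟩ := h.inv_M hgu (H83.mul_self_of_orderOf_two ho')
      (H83.ne_one_of_orderOf_two ho')
    have e2 : u = g * (m * evw (vl ι s x a f) w * m⁻¹) * g⁻¹ := by rw [e1]; group
    have gm := K.mul_mem hg (MK hm)
    simp only [List.mem_cons, List.not_mem_nil, or_false] at hw
    rcases hw with rfl | rfl | rfl
    · exact ⟨_, gm, Or.inl (by rw [e2]; group)⟩
    · exact ⟨_, K.mul_mem gm (K.mul_mem (mK [6,10,7]) (K.mul_mem fK (mK [6,10,7]))),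
        Or.inl (by rw [e2, ← ta]; group)⟩
    · exact ⟨_, K.mul_mem gm (mK [6,10,7]), Or.inr (by rw [e2, ← gu]; group)⟩
  have nc' : ¬ IsConj (evw (vl ι s x a f) [0,0]) (evw (vl ι s x a f) [9,11,2,8]) := fun k =>
    nc (k.trans (isConj_iff.mpr ⟨_, gu⟩))
  have ct : centralizer {evw (vl ι s x a f) [0,0]} ≤ K := fun g hg =>
    HK (h.memH.mpr (mem_centralizer_singleton_iff.mp hg))
  have U : H49.UF {d | IsConj (evw (vl ι s x a f) [0,0]) d} K := by
    refine H49.UF.of_class ot ct fun d hd k => ?_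
    obtain ⟨c, rfl⟩ := isConj_iff.mp k
    obtain ⟨m, hm, e1 | e1⟩ := cls _ hd (by rw [H83.orderOf_conj, ot])
    · exact ⟨m, hm, e1⟩
    · exact absurd (k.trans (isConj_iff.mpr ⟨m, e1⟩).symm) nc'
  have cu : centralizer {evw (vl ι s x a f) [9,11,2,8]} ≤ K := by
    refine U.cent_le_of_no_bad (H83.mul_self_of_orderOf_two ou) (mK _) (IsConj.refl _) (mK _) tu
      (fun y _ yu oy yt ty => ?_) fun Y hY _ _ => ?_
    · exact h.hnb hc y yu oy yt ty
    · exact ⟨_, isConj_iff.mpr ⟨_, gt⟩, mK _, bu, fun y hy e1 =>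
        h.hnt hc y (mem_centralizer_singleton_iff.mp (hY hy).2) (e1.trans gt.symm)⟩
  have cc : ∀ {u m : G}, m ∈ K → centralizer {u} ≤ K → centralizer {m * u * m⁻¹} ≤ K := by
    intro u m hm hu g hg
    have : m⁻¹ * g * m ∈ K := hu (mem_centralizer_singleton_iff.mpr (by
      have := mem_centralizer_singleton_iff.mp hg
      calc _ = m⁻¹ * (g * (m * u * m⁻¹)) * m := by group
        _ = _ := by rw [this]; group))
    exact (K.mul_mem_cancel_left (K.inv_mem hm)).mp ((K.mul_mem_cancel_right hm).mp this)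
  refine H49.eq_top_of_two_classes U (fun u hu ho => ?_) ot (mK _) ou (mK _)
    fun m _ e1 => nc' (isConj_iff.mpr ⟨m, e1⟩)
  obtain ⟨m, hm, rfl | rfl⟩ := cls u hu ho
  · exact ⟨cc hm ct, _, isConj_iff.mpr ⟨m, rfl⟩, Commute.refl _⟩
  · exact ⟨cc hm cu, _, isConj_iff.mpr ⟨m, rfl⟩, tu.map (MulAut.conj m)⟩

end

end Cf

theorem isoHS_of_base [Finite G] (B : Base H R M Q P ι) (F : F1 M Q ι s x a) :
    Cfsg.Spor.IsoHS G := by
  obtain ⟨P, s, x, a, f, Rp, e, h⟩ := exists_cf B F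
  obtain ⟨f, h, hc⟩ := h.exists_norm
  obtain ⟨k⟩ := isoHS_X
  exact ⟨(MulEquiv.ofBijective (h.j hc)
    ⟨h.j_inj hc, MonoidHom.range_eq_top.mp (h.range_top hc)⟩).symm.trans k⟩

end H3.HS
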