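import Cfsg.Agent.H3.BgEX1
import Cfsg.Agent.H15.BGKit

/-! BGS, job EX. -/

set_option autoImplicit false
set_option linter.unusedSectionVars false

namespace H3.Bg

open Cfsg Subgroup H98 H1.Gold H85.TW H15.BG

universe u

variable {G : Type u} [Group G] [Finite G] {k K : Type} [Field k] [Field K] [Algebra k K] [Finite k]
  [Finite K] [CharP k 2] [CharP K 2] {d : Dat G k K} {E W Q : Subgroup G} {p : G → (k × k) × K}
  {m : k}

namespace EX

theorem WQ (n : PE d E W Q p m) : W ≤ Q := n.Q_eq ▸ le_sup_left.trans le_sup_left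
theorem UQ (n : PE d E W Q p m) : d.U ≤ Q := n.Q_eq ▸ le_sup_right.trans le_sup_left
theorem EQ (n : PE d E W Q p m) : E ≤ Q := n.Q_eq ▸ le_sup_right

theorem dec (l : UD d) (n : PE d E W Q p m) (f : Full E p) (v : (k × k) × K) :
    ∃ w ∈ W, ∃ e ∈ E, ∃ u ∈ d.U, p w = ((v.1.1, 0), 0) ∧ p e = ((0, v.1.2), 0) ∧ p u = (0, v.2) := by
  obtain ⟨w, hw, a⟩ := n.surjW v.1.1
  obtain ⟨e, he, b⟩ := f v.1.2
  obtain ⟨u, hu, c⟩ := l.π_surj v.2
  have a' := (n.memW w (WQ n hw)).1 hw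
  have b' := (n.memF e (EQ n he)).1 (mem_sup_right he)
  exact ⟨w, hw, e, he, u, hu, Prod.ext (Prod.ext a a'.1) a'.2, Prod.ext (Prod.ext b'.1 b) b'.2,
    Prod.ext ((n.memU u (UQ n hu)).1 hu) ((n.pU u hu).trans c)⟩

theorem surj (l : UD d) (n : PE d E W Q p m) (f : Full E p) (v : (k × k) × K) : ∃ x ∈ Q, p x = v := by
  obtain ⟨w, hw, e, he, u, hu, a, b, c⟩ := dec l n f v
  refine ⟨w * e * u, mul_mem (mul_mem (WQ n hw) (EQ n he)) (UQ n hu), ?_⟩
  rw [n.p_mul _ (mul_mem (WQ n hw) (EQ n he)) _ (UQ n hu), n.p_mul _ (WQ n hw) _ (EQ n he), a, b, c]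
  simp

theorem memZ (l : UD d) (n : PE d E W Q p m) (f : Full E p) {x : G} : x ∈ d.Z ↔ x ∈ Q ⊓ cen Q := by
  refine ⟨fun h => ⟨UQ n (l.ZU h), fun y hy => ?_⟩, fun h => (n.p_ker x h.1).1 ?_⟩
  · rw [n.comQ y hy x (UQ n (l.ZU h)), (n.p_ker x (UQ n (l.ZU h))).2 h]
    simp [QE.β, l.ι_zero]
  have : ∀ v, d.β v (p x) = 0 := fun v => by
    obtain ⟨y, hy, rfl⟩ := surj l n f v
    have := h.2 y hy
    rwa [n.comQ y hy x h.1, mul_eq_left, l.ι_eq_one] at this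
  refine Prod.ext (Prod.ext ?_ ?_) (d.eq_zero_of_B fun y => ?_)
  · simpa [QE.β] using this ((0, 1), 0)
  · simpa [QE.β] using this ((1, 0), 0)
  · simpa [QE.β, d.B_comm y] using this (0, y)

theorem norZ (l : UD d) (n : PE d E W Q p m) (f : Full E p) : nor Q ≤ nor d.Z := fun g hg => by
  rw [show d.Z = Q ⊓ cen Q from Subgroup.ext fun _ => memZ l n f, ← cj_eq_self_iff, cj_inf,
    cj_centralizer, cj_eq_self hg]

theorem exφ (l : UD d) (n : PE d E W Q p m) (f : Full E p) :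
    ∃ φ : G → (k × k) × K → (k × k) × K, ∀ g ∈ nor Q, ∀ x ∈ Q, φ g (p x) = p (g * x * g⁻¹) := by
  choose s hs es using surj l n f
  refine ⟨fun g v => p (g * s v * g⁻¹), fun g hg x hx => ?_⟩
  have ad : Ad Q p := n.p_mul
  have h1 : (s (p x))⁻¹ * x ∈ d.Z := (n.p_ker _ (mul_mem (inv_mem (hs _)) hx)).1 (by
    rw [ad _ (inv_mem (hs _)) _ hx, ad.inv (hs _), es, neg_add_cancel])
  have h2 := conj_mem_nor (norZ l n f hg) h1
  have h3 := ad _ (conj_mem_nor hg (hs (p x))) _ (UQ n (l.ZU h2))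
  rw [(n.p_ker _ (UQ n (l.ZU h2))).2 h2, add_zero, conj_mul, mul_inv_cancel_left] at h3
  exact h3.symm

theorem sim (l : LocE d E) (n : PE d E W Q p 0) (f : Full E p) {φ : G → (k × k) × K → (k × k) × K}
    (hφ : ∀ g ∈ nor Q, ∀ x ∈ Q, φ g (p x) = p (g * x * g⁻¹)) {g : G} (hg : g ∈ nor Q) :
    ∃ (σ : k ≃+* k) (c : k), c ≠ 0 ∧ (∀ (a : k) v, φ g (a • v) = σ a • φ g v) ∧
      (∀ v w, d.β (φ g v) (φ g w) = c * σ (d.β v w)) ∧
      ∀ v, v.1.1 * v.1.2 + d.N v.2 = 0 → (φ g v).1.1 * (φ g v).1.2 + d.N (φ g v).2 = 0 := by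
  have ud : UD d := l.toUD
  have hτ : ∀ g ∈ nor Q, ∀ a, ∃ b, d.ι b = g * d.ι a * g⁻¹ := fun g hg a =>
    (l.memZ _).1 (conj_mem_nor (norZ ud n f hg) (ud.ι_mem a))
  choose! τ hτ using hτ
  have i1 : ∀ g ∈ nor Q, ∀ v, φ g⁻¹ (φ g v) = v := fun g hg v => by
    obtain ⟨x, hx, rfl⟩ := surj ud n f v
    rw [hφ g hg x hx, hφ _ (inv_mem hg) _ (conj_mem_nor hg hx)]
    congr 1; group
  have i2 : ∀ g ∈ nor Q, ∀ v, τ g⁻¹ (τ g v) = v := fun g hg v => l.ι_inj (by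
    rw [hτ _ (inv_mem hg), hτ g hg]; group)
  let Φ : (k × k) × K ≃+ (k × k) × K :=
    { toFun := φ g, invFun := φ g⁻¹, left_inv := i1 g hg
      right_inv := fun v => by simpa using i1 _ (inv_mem hg) v
      map_add' := fun v w => by
        obtain ⟨x, hx, rfl⟩ := surj ud n f v
        obtain ⟨y, hy, rfl⟩ := surj ud n f w
        rw [← n.p_mul x hx y hy, hφ g hg x hx, hφ g hg y hy, hφ g hg _ (mul_mem hx hy),
          ← n.p_mul _ (conj_mem_nor hg hx) _ (conj_mem_nor hg hy), conj_mul] }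
  let T : k ≃+ k :=
    { toFun := τ g, invFun := τ g⁻¹, left_inv := i2 g hg
      right_inv := fun v => by simpa using i2 _ (inv_mem hg) v
      map_add' := fun a b => l.ι_inj (by rw [l.ι_add, hτ g hg, hτ g hg, hτ g hg, l.ι_add, conj_mul]) }
  have hβ : ∀ v w, d.β (Φ v) (Φ w) = T (d.β v w) := fun v w => l.ι_inj (by
    obtain ⟨x, hx, rfl⟩ := surj ud n f v
    obtain ⟨y, hy, rfl⟩ := surj ud n f w
    change d.ι (d.β (φ g _) (φ g _)) = d.ι (τ g _)
    have := n.comQ _ (conj_mem_nor hg hx) _ (conj_mem_nor hg hy)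
    rw [conj_mul, conj_mul, n.comQ x hx y hy, ← conj_mul, mul_right_inj] at this
    rw [hφ g hg x hx, hφ g hg y hy, hτ g hg, this])
  obtain ⟨σ, c, h1, h2⟩ := l.cent Φ T hβ
  refine ⟨σ, c, fun z => one_ne_zero (T.injective ?_), h1, fun v w => (hβ v w).trans (h2 _),
    fun v hv => ?_⟩
  · rw [h2, z, zero_mul, map_zero]
  obtain ⟨x, hx, rfl⟩ := surj ud n f v
  have a := n.sqQ x hx
  have b := n.sqQ _ (conj_mem_nor hg hx)
  rw [zero_add, hv, ud.ι_zero] at a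
  rw [zero_add, conj_mul, a, mul_one, mul_inv_cancel, eq_comm, ud.ι_eq_one] at b
  rwa [hφ g hg x hx]

/-- The preimage of a singular line. -/
def Line (n : PE d E W Q p m) (x : Option K) : Subgroup G :=
  Ad.pre (X := Q) n.p_mul (Submodule.span k {Pt d.toQE x}).toAddSubgroup

theorem mem_Line (n : PE d E W Q p m) {x : Option K} {y : G} :
    y ∈ Line n x ↔ y ∈ Q ∧ ∃ a : k, a • Pt d.toQE x = p y :=
  and_congr_right' Submodule.mem_span_singleton

theorem Line_F (l : UD d) (n : PE d E W Q p m) : Line n (some 0) = d.Z ⊔ E := Subgroup.ext fun y => by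
  rw [mem_Line]
  refine ⟨fun ⟨a, c, b⟩ => (n.memF y a).2 (by rw [← b]; simp [Pt]), fun a => ?_⟩
  have b : y ∈ Q := sup_le (l.ZU.trans (UQ n)) (EQ n) a
  have c := (n.memF y b).1 a
  exact ⟨b, (p y).1.2, Prod.ext (Prod.ext (by simp [Pt, c.1]) (by simp [Pt])) (by simp [Pt, c.2])⟩

theorem Line_W (n : PE d E W Q p m) : Line n none = W := Subgroup.ext fun y => by
  rw [mem_Line]
  refine ⟨fun ⟨a, c, b⟩ => (n.memW y a).2 (by rw [← b]; simp [Pt]), fun a => ?_⟩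
  have c := (n.memW y (WQ n a)).1 a
  exact ⟨WQ n a, (p y).1.1, Prod.ext (Prod.ext (by simp [Pt]) (by simp [Pt, c.1])) (by simp [Pt, c.2])⟩

theorem Line_inj (l : UD d) (n : PE d E W Q p m) (f : Full E p) {x y : Option K}
    (h : Line n x = Line n y) : x = y := by
  obtain ⟨z, hz, e⟩ := surj l n f (Pt d.toQE x)
  obtain ⟨-, a, ha⟩ := (mem_Line n).1 (h ▸ (mem_Line n).2 ⟨hz, 1, by rw [one_smul, e]⟩)
  exact Pt_inj d.toQE one_ne_zero (by rw [one_smul, ha, e])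

end EX

open EX in
theorem jobEX : JobEX.{u} := by
  intro G _ _ k K _ _ _ _ _ _ _ d E W Q p l n f hW g hg
  have ud : UD d := l.toUD
  obtain ⟨φ, hφ⟩ := exφ ud n f
  have hs := fun g : nor Q => sim l n f hφ g.2
  choose σ c c0 h1 h2 h3 using hs
  have mu : ∀ g g' : nor Q, ∀ v, φ (g * g' : nor Q) v = φ g (φ g' v) := fun g g' v => by
    obtain ⟨x, hx, rfl⟩ := surj ud n f v
    rw [hφ _ (g * g').2 x hx, hφ _ g'.2 x hx, hφ _ g.2 _ (conj_mem_nor g'.2 hx), coe_mul]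
    congr 1; group
  have on : ∀ v, φ (1 : nor Q) v = v := fun v => by
    obtain ⟨x, hx, rfl⟩ := surj ud n f v
    rw [hφ _ (1 : nor Q).2 x hx, OneMemClass.coe_one, one_mul, inv_one, mul_one]
  have ht : ∀ (g : nor Q) x, ∃ y, ∃ s : k, s ≠ 0 ∧ φ g (Pt d.toQE x) = s • Pt d.toQE y := fun g x =>
    sing d.toQE (h3 g _ (Pt_sing _ x)) fun z => Pt_ne d.toQE x (by
      have := h1 g⁻¹ 0 0
      rw [map_zero, zero_smul, zero_smul] at this
      rw [← on (Pt _ x), ← inv_mul_cancel g, mu, z, this])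
  choose θ s s0 hθ using ht
  let _ : MulAction (nor Q) (Option K) :=
    { smul := θ
      one_smul := fun x => show θ 1 x = x from
        Pt_inj d.toQE (s0 1 x) (by rw [← hθ 1 x, on, one_smul])
      mul_smul := fun g g' x => show θ (g * g') x = θ g (θ g' x) from
        Pt_inj d.toQE (s0 (g * g') x) (by rw [← hθ, mu, hθ g' x, h1, hθ g, smul_smul]) }
  have hle : ∀ (g : nor Q) x, cj (g : G) (Line n x) ≤ Line n (θ g x) := by
    rintro g x _ ⟨y, hy, rfl⟩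
    obtain ⟨a, b, e⟩ := (mem_Line n).1 hy
    exact (mem_Line n).2 ⟨conj_mem_nor g.2 a, σ g b * s g x, by
      rw [← smul_smul, ← hθ, ← h1, e, hφ _ g.2 y a]; rfl⟩
  have hcj : ∀ (g : nor Q) x, cj (g : G) (Line n x) = Line n (θ g x) := fun g x =>
    (hle g x).antisymm (le_cj_iff.2 (by
      have := hle g⁻¹ (θ g x)
      rwa [show θ g⁻¹ (θ g x) = x from inv_smul_smul g x] at this))
  have hn : ∀ (g : nor Q) x, θ g x = x ↔ (g : G) ∈ nor (Line n x) := fun g x => by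
    rw [← cj_eq_self_iff, hcj]
    exact ⟨fun e => by rw [e], Line_inj ud n f⟩
  have := swap_of l.toFA l.toFE (MulAction.toPermHom (nor Q) (Option K)) (fun g => ⟨σ g, ?_⟩)
    (fun g => ?_) (fun a a0 => ?_) ⟨g, hg⟩
  · refine this.imp (fun e => Line_F ud n ▸ (hn _ _).1 e) fun e => ⟨?_, ?_⟩
    · have := hcj ⟨g, hg⟩ (some 0)
      rwa [show θ ⟨g, hg⟩ (some 0) = none from e.1, Line_F ud, Line_W] at this
    · have := hcj ⟨g, hg⟩ none
      rwa [show θ ⟨g, hg⟩ none = some 0 from e.2, Line_F ud, Line_W] at this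
  · intro x y x' y'
    have key : ∀ x y, nn d.toQE (θ g x) (θ g y) = c g * σ g (nn d.toQE x y) / (s g x * s g y) :=
      fun x y => by
        rw [eq_div_iff (mul_ne_zero (s0 g x) (s0 g y)), nn, nn, ← h2, hθ, hθ]
        simp only [QE.β, Prod.smul_fst, Prod.smul_snd, smul_eq_mul, QE.B_smul_left, QE.B_smul_right]
        ring
    change CR d.toQE (θ g x) (θ g y) (θ g x') (θ g y') = _
    have := s0 g x; have := s0 g y; have := s0 g x'; have := s0 g y'; have := c0 g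
    rw [CR, CR, key, key, key, key, map_div₀, map_mul, map_mul]
    field_simp
  · change θ g (some 0) = some 0 ↔ θ g none = none
    rw [hn, hn, Line_F ud, Line_W]
    exact ⟨fun e => (n.nF _ e).2.1, fun e => hW ⟨g.2, e⟩⟩
  obtain ⟨h, hh, e⟩ := l.Hlam a a0
  have hE : ∀ e ∈ E, h * e * h⁻¹ = e := fun e he => by
    by_cases z : e = 1
    · rw [z, mul_one, mul_inv_cancel]
    · have : h ∈ cen1 e := l.cE e he z ▸ (l.Hle hh).1
      rw [mem_centralizer_singleton_iff.1 this, mul_inv_cancel_right]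
  have hF : h ∈ nor (d.Z ⊔ E) := normalizer_inf_normalizer_le_normalizer_sup _ _
    ⟨ud.mem_nor_Z (l.Hle hh).2, mem_normalizer_fintype fun e he => (hE e he).symm ▸ he⟩
  obtain ⟨hU, hw, hQ, -⟩ := n.nF h hF
  refine ⟨⟨h, hQ⟩, (hn ⟨h, hQ⟩ none).2 (by rwa [Line_W]), fun x => ?_⟩
  change θ ⟨h, hQ⟩ (some x) = _
  have t := hθ ⟨h, hQ⟩ (some x)
  obtain ⟨w, w1, e1, e2, u, u1, a1, a2, a3⟩ := dec ud n f (Pt d.toQE (some x))
  have b1 : Pt d.toQE (some x) = p (w * e1 * u) := by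
    rw [n.p_mul _ (mul_mem (WQ n w1) (EQ n e2)) _ (UQ n u1), n.p_mul _ (WQ n w1) _ (EQ n e2), a1, a2, a3]
    simp
  have w2 := conj_mem_nor hw w1
  have u2 := conj_mem_nor hU u1
  have b2 := (n.memW _ (WQ n w2)).1 w2
  have b3 := (n.memU _ (UQ n u2)).1 u2
  have b4 := (n.pU _ u2).trans (e u u1)
  rw [← n.pU u u1, a3] at b4
  rw [b1, hφ h hQ _ (mul_mem (mul_mem (WQ n w1) (EQ n e2)) (UQ n u1)), ← conj_mul, ← conj_mul,
    hE e1 e2, n.p_mul _ (mul_mem (WQ n w2) (EQ n e2)) _ (UQ n u2), n.p_mul _ (WQ n w2) _ (EQ n e2),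
    a2] at t
  have t1 := congrArg (fun v => v.1.2) t
  have t2 := congrArg (fun v => v.2) t
  simp only [Prod.fst_add, Prod.snd_add, b2.1, b2.2, b3, b4] at t1 t2
  rcases z : θ ⟨h, hQ⟩ (some x) with _ | y <;> rw [z] at t1 t2 <;> simp [Pt] at t1 t2
  rw [t2, ← t1, one_smul]

end H3.Bg
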