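import Cfsg.Agent.H3.SaFC

/-! STD-A: the facts `FC`, part 2 and assembly. -/

set_option autoImplicit false
set_option linter.unusedSectionVars false

namespace H3.SA

open H64.SG (O2 Syl Cz Cs Ns cjs Is2 Inv2 fx)
open Matrix H57 Subgroup H67.SA

section Gen

variable {G : Type*} [Group G]

/-- the elements of `N(Z)` that commute with `g` modulo `Z` -/
def cmS (g : G) (Z : Subgroup G) : Subgroup G where
  carrier := {u | u ∈ Ns Z ∧ cm g u ∈ Z}
  one_mem' := ⟨one_mem _, by simp [cm]⟩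
  mul_mem' := fun {u v} hu hv => ⟨mul_mem hu.1 hv.1, by
    rw [show cm g (u * v) = cm g u * (u * cm g v * u⁻¹) by simp only [cm]; group]
    exact mul_mem hu.2 (H98.conj_mem_of_mem_normalizer hu.1 hv.2)⟩
  inv_mem' := fun {u} hu => ⟨inv_mem hu.1, by
    rw [show cm g u⁻¹ = u⁻¹ * (cm g u)⁻¹ * u by simp only [cm]; group]
    exact H98.conj_mem_of_mem_normalizer' hu.1 (inv_mem hu.2)⟩

theorem cm_swap (a b : G) : cm a b = (cm b a)⁻¹ := by simp only [cm]; group

theorem comm_of_sq {E : Subgroup G} (h : ∀ u ∈ E, u * u = 1) {a b : G} (ha : a ∈ E) (hb : b ∈ E) :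
    cm a b = 1 := by
  rw [cm, inv_eq_of_mul_eq_one_right (h a ha), inv_eq_of_mul_eq_one_right (h b hb), mul_assoc,
    h _ (mul_mem ha hb)]

end Gen

variable {n : ℕ} {F : Type} [Field F] [Finite F] [CharP F 2]

theorem odd_hd (d : Fin (n + 1) → Fˣ) (h : ∏ i, d i = 1) : Odd (orderOf (hd d h)) := by
  refine Odd.of_dvd_nat (odd_card_sub_one (F := F)) (orderOf_dvd_of_pow_eq_one (Subtype.ext ?_))
  refine (Matrix.SpecialLinearGroup.coe_pow _ _).trans ?_
  change diagonal _ ^ _ = 1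
  rw [diagonal_pow, ← diagonal_one]
  congr 1
  ext i
  rw [Pi.pow_apply, ← Units.val_pow_eq_pow_val, ← Nat.card_units, pow_card_eq_one', Units.val_one]

theorem li (hp : Par n F) {E : Subgroup (SLn n F)} (hE : E ≤ QQ n F) (h2 : ∀ u ∈ E, u * u = 1)
    (hc : Nat.card F ^ n ≤ Nat.card E) (hN : O2 (Cs (ZZ n F)) ≤ Ns E) :
    E = Er n F ∨ E = Ec n F := by
  have hn : 1 ≤ n := hp.two_le.trans' one_le_two
  have h0 := zero_ne_la hn
  refine eq_Er_Ec (fun u hu => ?_) hc
  obtain ⟨a, b, c, rfl⟩ := (mem_QQ_iff hn).1 (hE hu)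
  have dot : a ⬝ᵥ b = 0 := (x_eq_one h0).1 ((qq_sq hn a b c).symm.trans (h2 _ hu))
  have cme : ∀ a' b' c', qq a' b' c' ∈ E → a ⬝ᵥ b' + a' ⬝ᵥ b = 0 := fun a' b' c' h =>
    (x_eq_one h0).1 ((qq_cm hn a b a' b' c c').symm.trans (comm_of_sq h2 hu h))
  have key : ∀ i j : Mid n, i ≠ j → a i * b j = 0 := fun i j hij => by
    have n3 : 3 ≤ n := by
      have := i.1.2; have := j.1.2
      have := i.2; have := j.2
      simp only [ne_eq, Subtype.ext_iff, Fin.ext_iff, Fin.val_zero, Fin.val_last] at *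
      omega
    have hP : P00 n F ≤ Ns E :=
      ((le_O2_of_perfect (pf0 hp n3)).trans (H64.SG.O2_mono P00_le_Cs)).trans hN
    have xE : ∀ {i j : Mid n}, i ≠ j → ∀ a b c, qq a b c ∈ E →
        qq (a + Pi.single j (a i * 1)) (b + Pi.single i (1 * b j)) c ∈ E := fun {i j} h a b c m =>
      x_qq hn h 1 a b c ▸ H98.conj_mem_of_mem_normalizer
        (hP (x_mem_Pat (S := fun a b => b ≠ 0 ∧ a ≠ la n) ⟨j.2.1, i.2.2⟩ 1)) m
    by_cases hk : ∃ k : Mid n, k ≠ i ∧ k ≠ j
    · obtain ⟨k, ki, kj⟩ := hk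
      have := cme _ _ _ (xE ki.symm _ _ _ (xE kj _ _ _ hu))
      simp only [dotProduct_add, add_dotProduct, dotProduct_single, single_dotProduct, dot,
        Pi.add_apply, Pi.single_eq_same, Pi.single_eq_of_ne hij] at this
      grind
    have hu4 : (Finset.univ : Finset (Fin (n + 1))) = {0, la n, i.1, j.1} := by
      ext k
      simp only [Finset.mem_univ, Finset.mem_insert, Finset.mem_singleton, true_iff]
      rcases idx k with r | r | ⟨l, rfl⟩
      · exact .inl r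
      · exact .inr (.inl r)
      · by_contra r
        simp only [not_or] at r
        exact hk ⟨l, fun e => r.2.2.1 (e ▸ rfl), fun e => r.2.2.2 (e ▸ rfl)⟩
    have n4 : n + 1 ≤ 4 := by
      have := Finset.card_le_four (a := (0 : Fin (n + 1))) (b := la n) (c := i.1) (d := j.1)
      rwa [← hu4, Finset.card_univ, Fintype.card_fin] at this
    obtain ⟨s, hs⟩ := exists_unit (hp.four (by omega))
    let d : Fin (n + 1) → Fˣ := fun r => if r = 0 ∨ r = la n then s else s⁻¹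
    have dm : ∀ k : Mid n, d k.1 = s⁻¹ := fun k => if_neg (not_or.2 k.2)
    have d0 : d 0 = s := if_pos (.inl rfl)
    have dl : d (la n) = s := if_pos (.inr rfl)
    have hd1 : ∏ r, d r = 1 := by
      rw [hu4, Finset.prod_insert (by simp [h0, i.2.1.symm, j.2.1.symm]),
        Finset.prod_insert (by simp [i.2.2.symm, j.2.2.symm]),
        Finset.prod_pair fun e => hij (Subtype.ext e), dm, dm, d0, dl]
      group
    have hC : hd d hd1 ∈ Cs (ZZ n F) := fun z hz => by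
      obtain ⟨c, rfl⟩ := mem_ZZ.1 hz
      rw [eq_comm, ← mul_inv_eq_iff_eq_mul, hd_conj, d0, dl, mul_comm (s : F), Units.mul_inv_cancel_right]
    have m := H98.conj_mem_of_mem_normalizer (hN (H64.SG.mem_O2_of_odd hC (odd_hd d hd1)))
      (xE hij _ _ _ hu)
    rw [hd_qq hn] at m
    simp only [dm, d0, dl, Units.val_inv_eq_inv_val, inv_inv] at m
    have e1 : ∀ (v : Mid n → F) (r t : F), (fun k => r * v k * t) = (r * t) • v := fun v r t => by
      ext k; simp; ring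
    rw [e1, e1] at m
    have := cme _ _ _ m
    simp only [dotProduct_add, add_dotProduct, dotProduct_single, single_dotProduct, dot,
      dotProduct_smul, smul_dotProduct, smul_eq_mul] at this
    have s4 := sq_ne_one (sq_ne_one hs)
    have s0 := s.ne_zero
    by_contra r
    refine s4 ?_
    have e2 : ((s : F) * s * (s * s) + 1) * (a i * b j) = 0 := by
      have := congrArg (fun t => (s : F) * s * t) this
      field_simp at this
      grind
    grind
  rw [qq_mem_Er hn, qq_mem_Ec hn]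
  by_contra h'
  obtain ⟨h2, h3⟩ := not_or.1 h'
  obtain ⟨j, hj⟩ := Function.ne_iff.1 h2
  obtain ⟨i, hi⟩ := Function.ne_iff.1 h3
  have z : ∀ k, k ≠ i → b k = 0 := fun k hk => (mul_eq_zero.1 (key i k hk.symm)).resolve_left hi
  rw [dotProduct, Finset.sum_eq_single i (fun k _ hk => by rw [z k hk, mul_zero]) (by simp)] at dot
  by_cases e : j = i
  · exact hj (e ▸ (mul_eq_zero.1 dot).resolve_left hi)
  · exact hj (z j e)

/-! ### the second centre of `U` -/

/-- the roots of the second centre -/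
def S2 (n : ℕ) (i j : Fin (n + 1)) : Prop := i < j ∧ i.val + n ≤ j.val + 1

theorem UU_le_Ns : UU n F ≤ Ns (ZZ n F) := UU_le_Cs.trans (centralizer_le_normalizer _)

theorem mem_S2 {y : SLn n F} (hy : y ∈ UU n F)
    (h : ∀ i j : Fin (n + 1), i < j → j.val + 1 < i.val + n → y.1 i j = 0) : y ∈ Pat n F (S2 n) := by
  refine (mem_Pat (uni_of_lt (fun _ _ _ h => h.1) fun i j k h1 h2 h3 h4 => ⟨h1.trans h2, by
    have := h3.2; have := Fin.lt_def.1 h2; omega⟩)).2 ⟨(mem_UU.1 hy).1, fun i j hij hs => ?_⟩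
  rcases lt_or_gt_of_ne hij with r | r
  · exact h i j r (by by_contra e; exact hs ⟨r, by omega⟩)
  · exact (mem_UU.1 hy).2 i j r

theorem cm_S2 {y u : SLn n F} (hy : y ∈ Pat n F (S2 n)) (hu : u ∈ UU n F) : cm y u ∈ ZZ n F := by
  have h1 : ∀ i j, S2 n i j → ∀ d : F, UU n F ≤ cmS (x i j d) (ZZ n F) := fun i j hs d =>
    Pat_le.2 fun a b _ hab c => ⟨UU_le_Ns (x_mem_UU hab c), by
      have e1 := Fin.lt_def.1 hs.1
      have e2 := hs.2
      have e3 := Fin.lt_def.1 hab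
      have := b.2; have := j.2
      by_cases r : j = a
      · subst r
        rw [x_cm hs.1.ne hab.ne (hs.1.trans hab).ne, show i = 0 from Fin.ext (show i.val = 0 by omega),
          show b = la n from Fin.ext (show b.val = n by omega)]
        exact x_mem_ZZ _
      by_cases r' : i = b
      · subst r'
        rw [cm_swap, x_cm hab.ne hs.1.ne (hab.trans hs.1).ne, 
          show a = 0 from Fin.ext (show a.val = 0 by omega),
          show j = la n from Fin.ext (show j.val = n by omega)]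
        exact inv_mem (x_mem_ZZ _)
      · rw [cm_eq_one.2 (x_comm r r' d c)]; exact one_mem _⟩
  have h2 : Pat n F (S2 n) ≤ cmS u (ZZ n F) := Pat_le.2 fun i j _ hs d =>
    ⟨UU_le_Ns (x_mem_UU hs.1 d), cm_swap u _ ▸ inv_mem (h1 i j hs d hu).2⟩
  exact cm_swap y u ▸ inv_mem (h2 hy).2

theorem z2 (hn : 1 ≤ n) {y : SLn n F} (hy : y ∈ UU n F) : (∀ u ∈ UU n F, cm y u ∈ ZZ n F) ↔
    ∀ i j : Fin (n + 1), i < j → j.val + 1 < i.val + n → y.1 i j = 0 := by
  refine ⟨fun h => ?_, fun h u hu => cm_S2 (mem_S2 hy h) hu⟩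
  have h0 := zero_ne_la hn
  have key : ∀ a b : Fin (n + 1), a < b → ∀ r s, r ≠ 0 ∨ s ≠ la n →
      (y.1 * single a b (1 : F)) r s = (single a b (1 : F) * y.1) r s := fun a b hab r s hrs => by
    obtain ⟨z, e⟩ := mem_ZZ.1 (h _ (x_mem_UU hab 1))
    rw [cm, mul_inv_eq_iff_eq_mul, mul_inv_eq_iff_eq_mul, mul_assoc] at e
    have hM := mem_UU.1 (mul_mem (x_mem_UU hab (1 : F)) hy)
    have e' := congrArg (fun g : SLn n F => g.1 r s) e
    have e2 : (x 0 (la n) z * (x a b 1 * y)).1 r s = (x a b 1 * y).1 r s := by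
      generalize x a b 1 * y = M at hM
      rw [val_mul, x_coe h0, add_mul, one_mul, Matrix.add_apply, add_eq_left]
      by_cases r0 : r = 0
      · subst r0
        rw [single_mul_apply_same, hM.2 _ _ (Fin.lt_last_iff_ne_last.2 (hrs.resolve_left (by simp))),
          mul_zero]
      · exact single_mul_apply_of_ne _ _ _ _ _ r0 _
    simp only [e2] at e'
    simpa [val_mul, x_coe hab.ne, mul_add, add_mul] using e'
  intro i j hij hlt
  have e1 := Fin.lt_def.1 hij
  by_cases hj : j = la n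
  · subst hj
    have e2 : (la n).val = n := Fin.val_last n
    let a : Fin (n + 1) := ⟨i.val - 1, by omega⟩
    have := key a i (Fin.lt_def.2 (show i.val - 1 < i.val by omega)) a (la n)
      (.inl fun e => absurd (show i.val - 1 = 0 from congrArg Fin.val e) (by omega))
    rw [mul_single_apply_of_ne _ _ _ _ _ hij.ne', single_mul_apply_same, one_mul] at this
    exact this.symm
  · have e2 : j.val ≠ n := fun e => hj (Fin.ext (by simpa using e))
    have := j.2
    let b : Fin (n + 1) := ⟨j.val + 1, by omega⟩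
    have := key j b (Fin.lt_def.2 (by simp [b])) i b (by
      simp only [b, ne_eq, Fin.ext_iff, Fin.val_zero, Fin.val_last]; omega)
    rwa [mul_single_apply_same, single_mul_apply_of_ne _ _ _ _ _ hij.ne, mul_one] at this

/-! ### abelian normal subgroups of `U` -/

theorem U_en {u : SLn n F} (hu : u ∈ UU n F) : ee (la n) ᵥ* u.1 = ee (la n) := by
  ext b; simp [mem_Pc.1 (P00_le_Pc (UU_le_P00 hu)), Pi.single_apply, eq_comm]

theorem U_tv {u : SLn n F} (hu : u ∈ UU n F) {w : Fin (n + 1) → F} (h : w (la n) = 0) :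
    u * tv w (ee (la n)) * u⁻¹ = tv (u.1 *ᵥ w) (ee (la n)) ∧ (u.1 *ᵥ w) (la n) = 0 := by
  refine ⟨tv_conj' u (by simpa using h) rfl (U_en hu), ?_⟩
  have : ee (la n) ⬝ᵥ (u.1 *ᵥ w) = 0 := by rw [dotProduct_mulVec, U_en hu]; simpa using h
  simpa using this

theorem qc1 {A : Subgroup (SLn n F)} (h1 : A ≤ UU n F) (h2 : UU n F ≤ Ns A) (h3 : A ≤ Cs A)
    {a : SLn n F} (ha : a ∈ A) {k : Fin (n + 1)} (k1 : k.val = 1) (kl : k ≠ la n) {β : F}
    (h : x k (la n) β * a ≠ a * x k (la n) β) : A ≤ QQ n F := fun b hb => by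
  by_contra hQ
  have K : ∀ w, w (la n) = 0 → tv w (ee (la n)) ∈ A → a.1 *ᵥ w = w := fun w hw m => by
    obtain ⟨e1, e2⟩ := U_tv (h1 ha) hw
    rw [← h3 ha _ m, mul_inv_cancel_right] at e1
    exact (tv_inj_l hw e2 e1).symm
  have fin : ∀ d : F, d ≠ 0 → a.1 *ᵥ Pi.single k d ≠ Pi.single k d := fun d hd e => h (by
    have e1 := (U_tv (h1 ha) (w := Pi.single k β) (by simp [kl.symm])).1
    have e2 : (Pi.single k β : Fin (n + 1) → F) = (β / d) • Pi.single k d := by
      rw [← Pi.single_smul, smul_eq_mul, div_mul_cancel₀ _ hd]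
    have e3 : a.1 *ᵥ Pi.single k β = Pi.single k β := by rw [e2, mulVec_smul, e]
    rw [e3, ← x_eq_tv' kl, mul_inv_eq_iff_eq_mul] at e1
    exact e1.symm)
  have hU := mem_UU.1 (h1 hb)
  obtain ⟨i, j, hij, i0, jl, hb'⟩ : ∃ i j, i ≠ j ∧ i ≠ 0 ∧ j ≠ la n ∧ b.1 i j ≠ 0 := by
    by_contra r
    push Not at r
    exact hQ (mem_QQ.2 ⟨hU.1, r⟩)
  have xj : x j (la n) (1 : F) ∈ UU n F := x_mem_UU (Fin.lt_last_iff_ne_last.2 jl) 1
  obtain ⟨e1, e2⟩ := U_tv (h1 hb) (w := ee j) (by simp [jl.symm])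
  have m0 : tv (b.1 *ᵥ ee j + ee j) (ee (la n)) ∈ A := by
    rw [← tv_mul_l (by simpa using e2) (by simp [jl.symm]), ← e1, ← x_eq_tv jl]
    have := mul_mem hb (H98.conj_mem_of_mem_normalizer (h2 xj) (inv_mem hb))
    rwa [x_inv, ← mul_assoc, ← mul_assoc] at this
  have w0 : (b.1 *ᵥ ee j + ee j : Fin (n + 1) → F) (la n) = 0 := by simpa [jl.symm] using e2
  have wi : (b.1 *ᵥ ee j + ee j : Fin (n + 1) → F) i ≠ 0 := by simpa [hij] using hb'
  generalize b.1 *ᵥ ee j + ee j = w at m0 w0 wi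
  by_cases hi : ∃ i', i' ≠ 0 ∧ i' ≠ k ∧ w i' ≠ 0
  · obtain ⟨i', a1, a2, a3⟩ := hi
    have ki : k < i' := by
      simp only [ne_eq, Fin.ext_iff, Fin.val_zero, Fin.lt_def] at *; omega
    obtain ⟨e3, e4⟩ := U_tv (x_mem_UU ki (1 : F)) w0
    have m := mul_mem (H98.conj_mem_of_mem_normalizer (h2 (x_mem_UU ki 1)) m0) m0
    rw [e3, tv_mul_l (by simpa using e4) (by simpa using w0)] at m
    have e5 : (x k i' (1 : F)).1 *ᵥ w + w = Pi.single k (w i') := by
      rw [x_eq_tv ki.ne, tv_mulVec (by simp [a2]), add_right_comm, vadd_self, zero_add]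
      simp [← Pi.single_smul]
    rw [e5] at m
    exact fin _ a3 (K _ (by simp [kl.symm]) m)
  · push Not at hi
    have k0 : k ≠ 0 := by simp [Fin.ext_iff, k1]
    have ik : i = k := by by_contra r; exact wi (hi i i0 r)
    subst ik
    have e5 : w = w 0 • ee 0 + Pi.single i (w i) := funext fun r => by
      by_cases r0 : r = 0
      · simp [r0, k0.symm]
      by_cases r1 : r = i
      · simp [r1, k0]
      · simp [r0, r1, hi r r0 r1]
    have := K w w0 m0
    rw [e5, mulVec_add, mulVec_smul, Pr_e0 (P00_le_Pr (UU_le_P00 (h1 ha))), add_right_inj] at this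
    exact fin _ wi this

theorem qc (hn : 2 ≤ n) {A : Subgroup (SLn n F)} (h1 : A ≤ UU n F) (h2 : UU n F ≤ Ns A)
    (h3 : A ≤ Cs A) {a : SLn n F} (ha : a ∈ A) {y : SLn n F} (hy : y ∈ UU n F)
    (h4 : ∀ u ∈ UU n F, cm y u ∈ ZZ n F) (h : a * y ≠ y * a) : A ≤ QQ n F := by
  have hS := mem_S2 hy ((z2 (by omega) hy).1 h4)
  obtain ⟨i, j, hs, d, e⟩ : ∃ i j, S2 n i j ∧ ∃ d : F, x i j d * a ≠ a * x i j d := by
    by_contra r
    push Not at r
    have : Pat n F (S2 n) ≤ Cz a := Pat_le.2 fun i j _ hs c => H64.SG.mem_Cz.2 (r i j hs c).symm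
    exact h (H64.SG.mem_Cz.1 (this hS))
  have e1 := Fin.lt_def.1 hs.1
  have e2 := hs.2
  have := j.2
  by_cases jl : j = la n
  · subst jl
    by_cases i0 : i = 0
    · subst i0
      exact absurd (UU_le_Cs (h1 ha) _ (x_mem_ZZ d)) e
    · exact qc1 h1 h2 h3 ha (by simp only [Fin.ext_iff, Fin.val_zero] at i0; omega) hs.1.ne e
  have j1 : j.val ≠ n := fun e => jl (Fin.ext (by simpa using e))
  have i0 : i = 0 := Fin.ext (show i.val = 0 by omega)
  subst i0
  let γ := gam n F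
  have := qc1 (A := A.map γ.toMonoidHom) (a := γ a) (k := j.rev) (β := d)
    (by rintro _ ⟨g, hg, rfl⟩; exact (gam_UU g).1 (h1 hg))
    ((mem_St_iff_map.1 gam_UU).ge.trans (H98.map_le_normalizer_map _ h2))
    (H98.map_le_centralizer_map _ h3) (mem_map_of_mem _ ha) (by rw [Fin.val_rev]; simp at e2; omega)
    (by simp only [ne_eq, Fin.ext_iff, Fin.val_rev, Fin.val_last]; simp at e2; omega) (fun r => e (by
      rw [show x j.rev (la n) d = γ (x 0 j d) by rw [gam_x, Fin.rev_zero], ← map_mul, ← map_mul] at r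
      exact γ.injective r))
  exact fun b hb => (gam_QQ b).2 (this (mem_map_of_mem _ hb))

theorem exists_QZ (hn : 2 ≤ n) : ∃ v ∈ QQ n F, v ∉ ZZ n F := by
  let k : Mid n := ⟨⟨1, by omega⟩, by simp [Fin.ext_iff], by simp [Fin.ext_iff]; omega⟩
  refine ⟨_, qq_mem (by omega) (Pi.single k 1) 0 0, fun h => ?_⟩
  simpa using congrFun ((qq_mem_ZZ (by omega)).1 h).1 k

theorem nzn (hn : 2 ≤ n) (A : FA n F) {β : Au n F} (h1 : β ∈ St (UU n F)) (h2 : β ∉ cI (ZZ n F))
    {N : Subgroup (SLn n F)} (h3 : UU n F ≤ Ns N) (h4 : ∀ u ∈ UU n F, β u * u⁻¹ ∈ N) :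
    ZZ n F ≤ N := fun z hz => by
  have hn' : 1 ≤ n := by omega
  by_cases h : N ⊓ UU n F ≤ ZZ n F
  · have h5 : ∀ u ∈ QQ n F, β u * u⁻¹ ∈ ZZ n F := fun u hu =>
      h ⟨h4 u (QQ_le_UU hu),
        (UU n F).mul_mem ((h1 u).1 (QQ_le_UU hu)) ((UU n F).inv_mem (QQ_le_UU hu))⟩
    obtain ⟨ζ, hζ, rfl⟩ := mem_cI.1 (A.n2 β h5 fun z hz => by
      obtain ⟨v, hv, v1⟩ := exists_QZ (F := F) hn
      obtain ⟨u, hu, rfl⟩ := qz hn' hv v1 hz
      obtain ⟨c, e⟩ := mem_ZZ.1 (h5 v hv)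
      obtain ⟨d, e'⟩ := mem_ZZ.1 (h5 u hu)
      obtain ⟨a, b, r, rfl⟩ := (mem_QQ_iff hn').1 hv
      obtain ⟨a', b', r', rfl⟩ := (mem_QQ_iff hn').1 hu
      rw [mul_inv_eq_iff_eq_mul, ← qq_z hn', qq_mul hn'] at e e'
      rw [show β (cm (qq a b r) (qq a' b' r')) = cm (β (qq a b r)) (β (qq a' b' r')) by simp [cm],
        e, e', qq_cm hn', qq_cm hn']
      simp)
    obtain ⟨u, hu, rfl⟩ := qz hn' hζ (fun r => h2 (mem_cI.2 ⟨ζ, r, rfl⟩)) hz
    exact h4 u (QQ_le_UU hu)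
  · obtain ⟨y, hy, y1, y2⟩ := exists_cm_mem (isP_UU.to_le inf_le_right) isP_UU
      (H98.le_normalizer_inf h3 le_normalizer) h
    have yQ : y ∈ QQ n F := by
      refine (QQ_eq (n := n) (F := F)).ge (Pat_mono (fun i j _ hs => ?_)
        (mem_S2 hy.2 ((z2 hn' hy.2).1 y2)))
      have := hs.2; have := j.2
      simp only [Fin.ext_iff, Fin.val_zero, Fin.val_last]; omega
    obtain ⟨u, hu, rfl⟩ := qz hn' yQ y1 hz
    have := mul_mem hy.1 (H98.conj_mem_of_mem_normalizer (h3 (QQ_le_UU hu)) (inv_mem hy.1))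
    rwa [← mul_assoc, ← mul_assoc] at this

theorem si1 (hn : 2 ≤ n) (A : FA n F) {β : Au n F} (h1 : β ∈ St (UU n F)) :
    β ∈ cI (ZZ n F) ∨ Nat.card F ≤ (fx β).relIndex (UU n F) := by
  rw [or_iff_not_imp_right]
  intro h
  have mono : ∀ K ≤ UU n F, ¬ Nat.card F ≤ (fx β).relIndex K := fun K hK r =>
    h (r.trans (relIndex_le_of_le_right hK FiniteIndex.index_ne_zero))
  rcases (A.nz β (A.nu β h1).1).2 with ⟨-, r1, r2⟩ | ⟨-, r⟩
  · refine A.ctQ β fun u hu => ?_
    have : QQ n F ≤ fx β := sup_le ((A.slr β r1).resolve_right (mono _ (Er_le_QQ.trans QQ_le_UU)))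
      ((A.slc β r2).resolve_right (mono _ (Ec_le_QQ.trans QQ_le_UU)))
    exact this hu
  · refine absurd ?_ (mono _ (Er_le_QQ.trans QQ_le_UU))
    have e1 : fx β ⊓ Er n F ≤ ZZ n F := fun u hu =>
      Er_inf_Ec.le ⟨hu.2, (H64.SG.mem_fx.1 hu.1) ▸ (r.1 u).1 hu.2⟩
    rw [← inf_relIndex_right]
    refine le_trans ?_ (relIndex_le_of_le_left e1 FiniteIndex.index_ne_zero)
    have e2 := card_mul_rel (ZZ_le_Er (n := n) (F := F))
    rw [card_ZZ (by omega), card_Er] at e2
    have q1 := one_lt_card (F := F)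
    refine Nat.le_of_mul_le_mul_left (c := Nat.card F) ?_ (by omega)
    rw [e2, ← pow_two]
    exact Nat.pow_le_pow_right (by omega) hn

theorem jobFC (hA : JobFA) : JobFC := fun n F _ _ _ hp =>
  have A := hA n F hp
  have hn := hp.two_le
  have hn' : 1 ≤ n := by omega
  { qz := fun _ hv h _ hz => qz hn' hv h hz
    li := fun _ hE h2 hc hN => li hp hE h2 hc hN
    tv := fun _ hE h hc => eq_Er_Ec (fun u hu => (h u hu).elim (fun e => .inl (e ▸ one_mem _))
      (root_Q hn' (hE hu))) hc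
    trr := fun _ hv _ hw v1 w1 => trr hn hv hw v1 w1
    trc := fun _ hv _ hw v1 w1 => trc hn hv hw v1 w1
    cpr := fun _ hc => cpr hn' hc
    pf0 := pf0 hp
    pfr := pfr hp
    pfc := pfc hp
    top := top hn
    qc := fun _ h1 h2 h3 _ ha _ hy h4 h => qc hn h1 h2 h3 ha hy h4 h
    z2 := fun _ hy => z2 hn' hy
    nzn := fun _ h1 h2 _ h3 h4 => nzn hn A h1 h2 h3 h4
    si1 := fun _ h1 => si1 hn A h1 }

end H3.SA
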