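import Cfsg.Agent.H3.HkK2
import Cfsg.Agent.H31.HKK2a
import Cfsg.Agent.H72.HKS1

/-! HKS kit 2, assembled. -/

set_option autoImplicit false

namespace H3.HK2

universe u

theorem kit2 : H7.HKS.Kit2.{u} :=
  kit2_of H72.HKS.kit1 ⟨H31.HK.k2_semi, H31.HK.k2_bas, H31.HK.k2_lx, H31.HK.k2_mu, H31.HK.k2_grp⟩

end H3.HK2
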