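import Cfsg.Agent.H2.PrSpec
import Cfsg.Agent.H7.NormTrick
import Cfsg.Agent.H87.Fix

/-! PRIME, job EV. -/

set_option autoImplicit false
set_option linter.unusedSectionVars false

namespace H3.Pr

open Module H2.PR H39 LinearMap

universe u

section lin

variable {k V R : Type*} [Field k] [AddCommGroup V] [Module k V] [FiniteDimensional k V]
  [AddCommGroup R] [Module k R]

theorem rk_map (f : V →ₗ[k] R) (S : Submodule k V) :
    finrank k (S.map f) + finrank k ↥(S ⊓ ker f) = finrank k S := by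
  rw [← finrank_range_add_finrank_ker (f.domRestrict S), range_domRestrict, ker_domRestrict,
    ← Submodule.finrank_map_subtype_eq S, Submodule.map_comap_subtype]

theorem exists_weight [IsAlgClosed k] {X : End k V} (hX : X.IsSemisimple) {U0 U : Submodule k V}
    (h0 : U0 ∈ X.invtSubmodule) (n : ¬ U0 ≤ U) : ∃ v ∈ U0, v ∉ U ∧ ∃ γ : k, X v = γ • v := by
  by_contra! a
  refine n fun v hv => ?_
  have : (⊤ : Submodule k U0) ≤ U.comap U0.subtype := by
    rw [← (hX.restrict h0).iSup_eigenspace_eq_top]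
    refine iSup_le fun γ w hw => ?_
    by_contra b
    exact a w w.2 b γ (congrArg Subtype.val (End.mem_eigenspace_iff.1 hw))
  exact this (Submodule.mem_top (x := ⟨v, hv⟩))

theorem chain [IsAlgClosed k] [FiniteDimensional k R] {X : End k V} (hX : X.IsSemisimple)
    {X' : End k R} {U0 : Submodule k V} (h0 : U0 ∈ X.invtSubmodule) {R0 : Submodule k R} {a : ℕ}
    (ha : ∀ γ, finrank k ↥(End.eigenspace X' γ ⊓ R0) ≤ a) (m : ℕ) : ∀ U : Submodule k V,
      finrank k ↥(U0 ⊔ U) ≤ finrank k U + m → ∀ 𝒦 : Submodule k (V →ₗ[k] R),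
      (∀ ψ ∈ 𝒦, (∀ v, ψ (X v) = X' (ψ v)) ∧ ∀ v ∈ U0, ψ v ∈ R0) →
      ∃ 𝒦' ≤ 𝒦, ∃ C, U0 ≤ U ⊔ C ∧ (∀ ψ ∈ 𝒦', C ≤ ker ψ) ∧ finrank k 𝒦 ≤ finrank k 𝒦' + m * a := by
  induction m with
  | zero =>
    intro U hU 𝒦 _
    exact ⟨𝒦, le_rfl, ⊥, le_sup_left.trans ((Submodule.eq_of_le_of_finrank_le le_sup_right hU).ge.trans
      le_sup_left), fun _ _ => bot_le, Nat.le_add_right _ _⟩
  | succ m ih =>
    intro U hU 𝒦 hK
    by_cases n : U0 ≤ U
    · exact ⟨𝒦, le_rfl, ⊥, n.trans le_sup_left, fun _ _ => bot_le, Nat.le_add_right _ _⟩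
    obtain ⟨v, hv, nv, γ, e⟩ := exists_weight hX h0 n
    have h1 : finrank k U < finrank k ↥(U ⊔ k ∙ v) := Submodule.finrank_lt_finrank_of_lt
      (left_lt_sup.2 fun z => nv (z (Submodule.mem_span_singleton_self v)))
    have h2 : U0 ⊔ (U ⊔ k ∙ v) = U0 ⊔ U := by
      rw [← sup_assoc, sup_eq_left]
      exact ((Submodule.span_singleton_le_iff_mem v U0).2 hv).trans le_sup_left
    obtain ⟨𝒦', b1, C, b2, b3, b4⟩ := ih (U ⊔ k ∙ v) (by rw [h2]; omega)
      (𝒦 ⊓ ker (LinearMap.applyₗ v)) fun ψ hψ => hK ψ hψ.1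
    refine ⟨𝒦', b1.trans inf_le_left, (k ∙ v) ⊔ C, by rwa [← sup_assoc], fun ψ hψ =>
      sup_le ((Submodule.span_singleton_le_iff_mem _ _).2 (b1 hψ).2) (b3 ψ hψ), ?_⟩
    have h3 := rk_map (LinearMap.applyₗ v) 𝒦
    have h4 : finrank k (𝒦.map (LinearMap.applyₗ v)) ≤ a := by
      refine le_trans (Submodule.finrank_mono ?_) (ha γ)
      rintro _ ⟨ψ, hψ, rfl⟩
      exact ⟨End.mem_eigenspace_iff.2 (by
        change X' (ψ v) = γ • ψ v
        rw [← (hK ψ hψ).1, e, map_smul]), (hK ψ hψ).2 v hv⟩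
    rw [add_mul, one_mul]
    omega

theorem range_succ (Y : End k V) (j : ℕ) : range (Y ^ (j + 1)) = (range (Y ^ j)).map Y := by
  rw [pow_succ', End.mul_eq_comp, range_comp]

theorem range_succ' (Y : End k V) (j : ℕ) : range (Y ^ (j + 1)) = (range Y).map (Y ^ j) := by
  rw [pow_succ, End.mul_eq_comp, range_comp]

theorem range_anti (Y : End k R) {i j : ℕ} (h : i ≤ j) : range (Y ^ j) ≤ range (Y ^ i) := by
  rw [← Nat.add_sub_cancel' h, pow_add, End.mul_eq_comp]
  exact range_comp_le_range _ _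

theorem jordan {Y : End k V} {p n s : ℕ} (hp : Y ^ p = 0) (hs : s < p)
    (h1 : finrank k (ker Y) ≤ finrank k (range (Y ^ (p - 1))) + 1) (h2 : finrank k V = n * p + s) :
    finrank k V ≤ finrank k ↥(ker (Y ^ s) ⊔ range Y) + n ∧
      finrank k ↥(ker (Y ^ s) ⊔ range Y) ≤ finrank k (range Y) + 1 := by
  have p1 : p - 1 + 1 = p := by omega
  constructor
  · have a1 := rk_map (Y ^ s) (ker (Y ^ s) ⊔ range Y)
    have a2 := finrank_range_add_finrank_ker (Y ^ s)
    rw [inf_eq_right.2 le_sup_left, Submodule.map_sup, ← range_succ',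
      le_ker_iff_map.1 le_rfl, bot_sup_eq] at a1
    have a3 : ∀ j, finrank k (range (Y ^ (j + 1))) + finrank k ↥(range (Y ^ j) ⊓ ker Y) =
        finrank k (range (Y ^ j)) := fun j => by rw [range_succ, rk_map]
    have a4 : ∀ i j, i ≤ j → finrank k ↥(range (Y ^ j) ⊓ ker Y) ≤ finrank k ↥(range (Y ^ i) ⊓ ker Y) :=
      fun i j h => Submodule.finrank_mono (inf_le_inf_right _ (range_anti Y h))
    have a5 := a3 (p - 1)
    rw [p1, hp, range_zero, finrank_bot] at a5
    have a6 : finrank k ↥(range (Y ^ s) ⊓ ker Y) ≤ finrank k (ker Y) :=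
      Submodule.finrank_mono inf_le_right
    have a7 := a3 s
    by_contra! b
    have : ∀ j, j ≤ p → finrank k (range (Y ^ j)) + j * n + min j (s + 1) ≤ finrank k V := fun j hj => by
      induction j with
      | zero => simpa using Submodule.finrank_le _
      | succ j ih =>
        have c1 := ih (by omega)
        have c2 := a3 j
        have c3 := a4 j (p - 1) (by omega)
        have c4 := a4 j s
        rw [add_mul, one_mul]
        omega
    have := this p le_rfl
    rw [mul_comm] at this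
    omega
  · have a1 : ker (Y ^ s) ⊔ range Y ≤ ker (Y ^ (p - 1)) := sup_le
      ((iterateKer Y).monotone (by omega : s ≤ p - 1))
      (by rw [range_le_ker_iff, ← End.mul_eq_comp, ← pow_succ, p1, hp])
    have a2 := Submodule.finrank_mono a1
    have a3 := finrank_range_add_finrank_ker (Y ^ (p - 1))
    have a4 := finrank_range_add_finrank_ker Y
    omega

theorem eq_zero_of {Y : End k V} {Y' : End k R} {p : ℕ} (hp : Y ^ p = 0) {ψ : V →ₗ[k] R}
    (h : ∀ v, ψ (Y v) = Y' (ψ v)) (t : ⊤ ≤ range Y ⊔ ker ψ) : ψ = 0 := by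
  have : ∀ j, ⊤ ≤ range (Y ^ j) ⊔ ker ψ := fun j => by
    induction j with
    | zero => exact fun v _ => Submodule.mem_sup_left ⟨v, rfl⟩
    | succ j ih =>
      refine t.trans (sup_le ?_ le_sup_right)
      rintro _ ⟨v, rfl⟩
      obtain ⟨a, ha, b, hb, rfl⟩ := Submodule.mem_sup.1 (ih (Submodule.mem_top (x := v)))
      rw [map_add]
      exact Submodule.add_mem_sup (range_succ Y j ▸ Submodule.mem_map_of_mem ha) (by
        rw [mem_ker, h, mem_ker.1 hb, map_zero])
  have := this p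
  rwa [hp, range_zero, bot_sup_eq, top_le_iff, ker_eq_top] at this

end lin

variable {k V R G : Type*} [Field k] [AddCommGroup V] [Module k V] [AddCommGroup R] [Module k R]
  [Group G]

theorem hom_range (ρ : Representation k G V) (σ : Representation k G R) (y : G) (φ : V →ₗ[k] R)
    (j : ℕ) : ∀ s v, ((ρ y - 1) ^ s) v = 0 →
      ((ρ.linHom σ y - 1) ^ j) φ v ∈ range ((σ y - 1) ^ (j + 1 - s)) := by
  have c1 : Commute (ρ y - 1) (ρ y⁻¹) := by
    refine Commute.sub_left ?_ (Commute.one_left _)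
    rw [Commute, SemiconjBy, ← map_mul, ← map_mul, mul_inv_cancel, inv_mul_cancel]
  induction j with
  | zero =>
    rintro (_ | s) v hv
    · rw [show v = 0 from hv, map_zero]; exact zero_mem _
    · exact ⟨φ v, by simp⟩
  | succ j ih =>
    rintro (_ | s) v hv
    · rw [show v = 0 from hv, map_zero]; exact zero_mem _
    have e : ((ρ.linHom σ y - 1) ^ (j + 1)) φ v = (σ y - 1) (((ρ.linHom σ y - 1) ^ j) φ (ρ y⁻¹ v)) -
        ((ρ.linHom σ y - 1) ^ j) φ (ρ y⁻¹ ((ρ y - 1) v)) := by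
      rw [pow_succ']
      simp [Representation.linHom_apply]
    have k1 : ∀ (s : ℕ) (v : V), ((ρ y - 1) ^ s) v = 0 → ((ρ y - 1) ^ s) (ρ y⁻¹ v) = 0 := fun s v hv => by
      rw [← End.mul_apply, (c1.pow_left s).eq, End.mul_apply, hv, map_zero]
    rw [e]
    refine sub_mem ?_ ?_
    · obtain ⟨w, hw⟩ := ih _ _ (k1 _ v hv)
      rw [← hw, ← End.mul_apply, ← pow_succ']
      exact range_anti _ (by omega) (mem_range_self _ w)
    · have := ih s _ (k1 s ((ρ y - 1) v) (by rwa [← End.mul_apply, ← pow_succ]))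
      rwa [show j + 1 + 1 - (s + 1) = j + 1 - s by omega]

theorem cast_p (p : ℕ) [CharP k p] : (p : End k V) = 0 := by
  rw [← map_natCast (algebraMap k (End k V)), CharP.cast_eq_zero, map_zero]

theorem sum_P [Finite G] {p : ℕ} [hp : Fact p.Prime] [CharP k p] {P : Subgroup G} [Fintype P] {y : G}
    (hP : Nat.card P = p) (hy : y ∈ P) (y1 : y ≠ 1) (ρ : Representation k G V) :
    y ^ p = 1 ∧ ∑ z : P, ρ z = (ρ y - 1) ^ (p - 1) := by
  have h1 : y ^ p = 1 := congrArg Subtype.val (hP ▸ pow_card_eq_one' (x := (⟨y, hy⟩ : P)))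
  have h2 : orderOf y = p := orderOf_eq_prime h1 y1
  have h3 : Subgroup.zpowers y = P :=
    Subgroup.eq_of_le_of_card_ge (Subgroup.zpowers_le.2 hy) (by rw [Nat.card_zpowers, h2, hP])
  refine ⟨h1, ?_⟩
  rw [← H7.geom_sum_eq_sub_one_pow p (cast_p p)]
  classical
  refine (Finset.sum_bij (fun i _ => ⟨y ^ i, pow_mem hy i⟩) (fun _ _ => Finset.mem_univ _)
    (fun i hi j hj e => pow_injOn_Iio_orderOf (x := y) (h2 ▸ Finset.mem_range.1 hi)
      (h2 ▸ Finset.mem_range.1 hj) (congrArg Subtype.val e)) (fun z _ => ?_)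
    fun i _ => (map_pow ρ y i).symm).symm
  obtain ⟨i, hi, e⟩ := Finset.mem_image.1 (mem_zpowers_iff_mem_range_orderOf.1 (h3.ge z.2))
  exact ⟨i, h2 ▸ hi, Subtype.ext e⟩

theorem jobEv : JobEv.{u} := by
  intro k _ _ p hp _ G _ _ P _ e h x y lo V _ _ _ ρ R _ _ _ σ τ n s a b sc h1 h2 hs hτ ha hb
  classical
  let _ : Fintype P := Fintype.ofFinite P
  obtain ⟨yp, -⟩ := sum_P lo.card lo.mem lo.ne ρ
  have Yp : (ρ y - 1) ^ p = 0 := by
    rw [← Nat.sub_add_cancel hp.out.one_le, pow_succ, ← H7.geom_sum_eq_sub_one_pow p (cast_p p),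
      geom_sum_mul, ← map_pow, yp, map_one, sub_self]
  have hz : ∀ m : ℕ, x ^ m * y * (x ^ m)⁻¹ = y ^ h ^ m := fun m => by
    induction m with
    | zero => simp
    | succ m ih => rw [pow_succ h, pow_mul, ← ih, conj_pow, ← lo.xy, pow_succ]; group
  have xN : x ∈ Nor P := by
    have h3 : Subgroup.zpowers y = P := Subgroup.eq_of_le_of_card_ge (Subgroup.zpowers_le.2 lo.mem)
      (by rw [Nat.card_zpowers, orderOf_eq_prime yp lo.ne, lo.card])
    refine Subgroup.mem_normalizer_fintype fun z hz => ?_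
    obtain ⟨i, rfl⟩ := (h3 ▸ hz : z ∈ Subgroup.zpowers y)
    beta_reduce
    rw [← conj_zpow, lo.xy]
    exact zpow_mem (pow_mem lo.mem h) i
  have hX : End.IsSemisimple (ρ x) := by
    obtain ⟨c, hc⟩ := sc _ lo.xe
    by_cases c0 : c = 0
    · have : ρ x = 0 := by
        rw [← mul_inv_cancel_left (x ^ e) x, map_mul, hc, c0, zero_smul, zero_mul]
      rw [this]
      exact End.isSemisimple_zero
    have : ¬ p ∣ e := fun z => by
      have h0 : (h : ZMod p) ≠ 0 := fun h0 => by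
        have := lo.two
        rw [← lo.oh, h0, orderOf_zero] at this
        omega
      have := Nat.le_of_dvd (Nat.sub_pos_of_lt hp.out.one_lt)
        (z.trans (lo.oh ▸ ZMod.orderOf_dvd_card_sub_one h0))
      have := hp.out.pos
      omega
    refine End.isSemisimple_of_squarefree_aeval_eq_zero
      (Polynomial.separable_X_pow_sub_C' p e c this c0).squarefree ?_
    rw [map_sub, Polynomial.aeval_X_pow, Polynomial.aeval_C, ← map_pow, hc,
      Algebra.algebraMap_eq_smul_one, sub_self]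
  have hinv : ker ((ρ y - 1) ^ s) ∈ End.invtSubmodule (ρ x) := by
    have e1 : y * x = x * y ^ h ^ (orderOf x - 1) := by
      rw [← hz, ← mul_assoc, ← mul_assoc, ← pow_succ', Nat.sub_add_cancel (orderOf_pos x),
        pow_orderOf_eq_one, one_mul, mul_right_inj, eq_inv_iff_mul_eq_one, ← pow_succ',
        Nat.sub_add_cancel (orderOf_pos x), pow_orderOf_eq_one]
    generalize h ^ (orderOf x - 1) = m at e1
    have e2 : SemiconjBy (ρ x) ((∑ i ∈ Finset.range m, ρ y ^ i) * (ρ y - 1)) (ρ y - 1) := by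
      rw [SemiconjBy, geom_sum_mul, mul_sub, sub_mul, ← map_pow, ← map_mul, ← map_mul, e1, mul_one,
        one_mul]
    have e3 : Commute (∑ i ∈ Finset.range m, ρ y ^ i) (ρ y - 1) :=
      Commute.sum_left _ _ _ fun i _ => ((Commute.refl _).pow_left i).sub_right (Commute.one_right _)
    intro v hv
    rw [Submodule.mem_comap, mem_ker, ← End.mul_apply, ← (e2.pow_right s).eq, e3.mul_pow,
      End.mul_apply, End.mul_apply, mem_ker.1 hv, map_zero, map_zero]
  have inv : ∀ ψ ∈ range (∑ g : Nor P, ρ.linHom σ g), ∀ g ∈ Nor P, ∀ v, ψ (ρ g v) = σ g (ψ v) := by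
    rintro _ ⟨φ, rfl⟩ g hg v
    simp only [LinearMap.sum_apply, map_sum, Representation.linHom_apply, comp_apply]
    refine (Fintype.sum_equiv (Equiv.mulLeft (⟨g, hg⟩ : Nor P)) _ _ fun q => ?_).symm
    simp only [Equiv.coe_mulLeft, Subgroup.coe_mul, mul_inv_rev, map_mul, End.mul_apply,
      Representation.inv_self_apply]
  have low : ∀ ψ ∈ range (∑ g : Nor P, ρ.linHom σ g), ∀ v ∈ ker ((ρ y - 1) ^ s),
      ψ v ∈ range ((σ y - 1) ^ (p - s)) := by
    rintro _ ⟨φ, rfl⟩ v hv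
    let _ : MulAction P (Nor P) := MulAction.compHom _ (Subgroup.inclusion Subgroup.le_normalizer)
    simp only [LinearMap.sum_apply]
    refine H87.sum_mem_of_free (P := P) (fun g : Nor P => ρ.linHom σ g φ v)
      (range ((σ y - 1) ^ (p - s))).toAddSubmonoid Finset.univ (fun _ _ _ => Finset.mem_univ _)
      (fun z q _ e => Subtype.ext (congrArg (fun t : Nor P => t.1) (mul_eq_right.1 e))) fun q _ => ?_
    have := hom_range ρ σ y (ρ.linHom σ q φ) (p - 1) s v hv
    rw [Nat.sub_add_cancel hp.out.one_le, ← (sum_P lo.card lo.mem lo.ne (ρ.linHom σ)).2] at this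
    simp only [LinearMap.sum_apply, ← End.mul_apply, ← map_mul] at this
    exact this
  obtain ⟨j1, j2⟩ := jordan Yp hs h1 h2
  let T : (V →ₗ[k] R) →ₗ[k] Dual k V := LinearMap.llcomp k V R k τ
  obtain ⟨K1, a1, C1, a2, a3, a4⟩ := chain hX (End.invtSubmodule.top_mem _) ha n
    (ker ((ρ y - 1) ^ s) ⊔ range (ρ y - 1)) (by rwa [top_sup_eq, finrank_top])
    (range (∑ g : Nor P, ρ.linHom σ g) ⊓ ker T) fun ψ hψ =>
      ⟨inv ψ hψ.1 x xN, fun v _ => LinearMap.congr_fun hψ.2 v⟩
  obtain ⟨K2, b1, C2, b2, b3, b4⟩ := chain hX hinv hb 1 _ j2 K1 fun ψ hψ =>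
    ⟨inv ψ (a1 hψ).1 x xN, low ψ (a1 hψ).1⟩
  have c1 : K2 = ⊥ := (Submodule.eq_bot_iff _).2 fun ψ hψ =>
    eq_zero_of (Y' := σ y - 1) Yp (fun v => by
      simp only [LinearMap.sub_apply, map_sub, End.one_apply,
        inv ψ (a1 (b1 hψ)).1 y (Subgroup.le_normalizer lo.mem)])
      (a2.trans (sup_le (sup_le (b2.trans (sup_le_sup_left (b3 ψ hψ) _)) le_sup_left)
        ((a3 ψ (b1 hψ)).trans le_sup_right)))
  have c2 := rk_map T (range (∑ g : Nor P, ρ.linHom σ g))
  have c3 : finrank k ((range (∑ g : Nor P, ρ.linHom σ g)).map T) ≤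
      finrank k (range (∑ g : Nor P, ρ g)) := by
    rw [← finrank_range_dualMap_eq_finrank_range]
    refine Submodule.finrank_mono ?_
    rintro _ ⟨_, ⟨φ, rfl⟩, rfl⟩
    refine ⟨τ ∘ₗ φ, LinearMap.ext fun v => ?_⟩
    simp only [T, dualMap_apply, llcomp_apply, LinearMap.sum_apply, map_sum,
      Representation.linHom_apply, comp_apply, hτ]
    exact Fintype.sum_equiv (Equiv.inv (Nor P)) _ _ fun q => by simp
  rw [c1, finrank_bot] at b4
  omega

end H3.Pr
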