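import Cfsg.Agent.H3.PrNTIa

/-! `blueprints/PRIME.md`, part 2, section NTI: `JobEm → JobSt → JobC → JobNTI`. -/

set_option autoImplicit false
set_option linter.unusedSectionVars false

namespace H3.PrN

open Cfsg H28 H2.PR Subgroup H98
open scoped commutatorElement

universe u

variable {G : Type u} [Group G] [Finite G] {p : ℕ} [hp : Fact p.Prime] {χ : G → ℂ} {P : Sylow p G}

/-- The centraliser of an element. -/
abbrev C1 (q : G) : Subgroup G := centralizer ({q} : Set G)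

theorem mem_C1 {q g : G} : g ∈ C1 q ↔ Commute g q := mem_centralizer_singleton_iff

/-- `q` has order `p` and two `p`-elements of its centraliser do not commute. -/
def Sp (p : ℕ) (q : G) : Prop :=
  q ≠ 1 ∧ q ^ p = 1 ∧ ∃ x y, Pe p x ∧ Pe p y ∧ Commute x q ∧ Commute y q ∧ ¬ Commute x y

theorem ab (h : Mc p P χ) {Q : Subgroup G} (hQ : IsPGroup p Q) {x y : G} (hx : x ∈ Q) (hy : y ∈ Q) :
    Commute x y := by
  obtain ⟨T, hT⟩ := hQ.exists_le_sylow
  exact H1.PR2.syl_comm h.irr.isCharacter h.ker h.lt T x (hT hx) y (hT hy)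

theorem nc (h : Mc p P χ) {q : G} (h1 : q ≠ 1) (h2 : Pe p q) : C1 q ≠ ⊤ := fun e => by
  have h3 : zpowers q ≤ center G :=
    zpowers_le.2 (mem_center_iff.2 fun g => mem_C1.1 (e.ge (mem_top g)))
  have h4 : (zpowers q).Normal := ⟨fun n hn g => by
    rwa [mem_center_iff.1 (h3 hn) g, mul_inv_cancel_right]⟩
  exact h1 (mem_bot.1 (h.core.le (H1.PR2.le_core h4 h2.zp (mem_zpowers q))))

theorem n2 (h : Mc p P χ) : 1 < charDegree χ := by
  have h1 := h.irr.charDegree_pos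
  by_contra h2
  have h3 := (h.irr.charDegree_eq_one_iff.1 (by omega)).trans h.ker.le
  have h4 : (P : Subgroup G).Normal := ⟨fun n hn g => by
    have := commutatorElement_eq_one_iff_commute.1
      (mem_bot.1 (h3 (commutator_mem_commutator (mem_top g) (mem_top n))))
    rwa [this.eq, mul_inv_cancel_right]⟩
  have h5 := h.big
  rw [le_bot_iff.1 ((H1.PR2.le_core h4 P.isPGroup').trans h.core.le), card_bot] at h5
  exact (Nat.one_lt_pow two_ne_zero hp.out.one_lt).ne' (Nat.dvd_one.1 h5)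

theorem p5 (h : Mc p P χ) : 5 ≤ p := by
  have h1 := n2 h
  have h2 := h.lt
  by_contra h3
  obtain rfl : p = 4 := by omega
  exact absurd hp.out (by norm_num)

theorem getSA (hE : JobEm.{u}) (hS : JobSt.{u}) (h : Mc p P χ) {L : Subgroup G} (hL : L ≠ ⊤)
    (hR : L ≤ Rp p L) {x y : G} (hx : x ∈ L) (hy : y ∈ L) (px : Pe p x) (py : Pe p y)
    (hxy : ¬ Commute x y) : ∃ d c a b, SA p χ L d c a b := by
  obtain ⟨T⟩ : Nonempty (Sylow p L) := inferInstance
  have hχ := h.irr.isCharacter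
  have pe : ∀ {N : Subgroup L}, N.Normal → (T : Subgroup L) ≤ N → ∀ g : L, Pe p (g : G) → g ∈ N :=
    fun hN hT g ⟨k, hk⟩ => H1.PR2.pel_mem hN hT (k := k) (Subtype.ext hk)
  obtain ⟨ψ, θ, h1⟩ := hS L p T _ (hχ.restrict L) (by rw [hχ.charKer_restrict, h.ker, bot_subgroupOf])
    h.lt (fun N hN hT g _ => by
      have : Rp p L ≤ N.map L.subtype :=
        (closure_le _).2 fun z hz => ⟨⟨z, hz.1⟩, pe hN hT _ hz.2, rfl⟩
      obtain ⟨g', h2, e⟩ := this (hR g.2)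
      exact Subtype.ext e ▸ h2)
    (fun hN => hxy (ab h (T.isPGroup'.map L.subtype) ⟨⟨x, hx⟩, pe hN le_rfl _ px, rfl⟩
      ⟨⟨y, hy⟩, pe hN le_rfl _ py, rfl⟩)) (h.sub L hL)
  exact sa_of_st hE hχ h1

theorem SA.dec {M : Subgroup G} {d c : ℕ} {a b : G → ℂ → ℕ} (A : SA p χ M d c a b) {u : G}
    (hu : u ∈ M) (h1 : u ^ p = 1) :
    ∃ s ∈ Dr M, ∃ q ∈ pCoreOf p M, u = s * q ∧ s ^ p = 1 ∧ q ^ p = 1 := by
  obtain ⟨s, hs, q, hq, rfl⟩ := A.sup u hu
  rw [(A.cen q hq s (Dr_le M hs)).mul_pow] at h1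
  have h2 := A.inf _ (pow_mem hs p) (eq_inv_of_mul_eq_one_left h1 ▸ inv_mem (pow_mem hq p))
  rw [h2, one_mul] at h1
  exact ⟨s, hs, q, hq, rfl, h2, h1⟩

theorem SA.le_one {M : Subgroup G} {d c : ℕ} {a b : G → ℂ → ℕ} (A : SA p χ M d c a b) {s q : G}
    (hs : s ∈ Dr M) (h1 : s ≠ 1) (h2 : s ^ p = 1) {l : ℂ} (hl : l ^ p = 1)
    (h : ∀ s ∈ M, ∀ ω, a (s * q) (ω * l) = a s ω) {ω : ℂ} (hω : ω ^ p = 1) : a (s * q) ω ≤ 1 := by
  have h0 : l ≠ 0 := by rintro rfl; simp [hp.out.ne_zero] at hl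
  rw [← div_mul_cancel₀ ω h0, h s (Dr_le M hs)]
  exact (A.eig s hs h1 h2).1 _ (by rw [div_pow, hω, hl, div_one])

theorem mem_core {q : G} (h : Pe p q) : q ∈ pCoreOf p (Rp p (C1 q)) := by
  refine le_pCoreOf h.zp (zpowers_le.2 (mem_Rp (mem_C1.2 (Commute.refl q)) h))
    ((Rp_le _).trans (le_normalizer_of_le_centralizer fun g hg z hz => ?_)) (mem_zpowers q)
  obtain ⟨k, rfl⟩ := mem_zpowers_iff.1 hz
  exact ((mem_C1.1 hg).zpow_right k).symm

/-- A Sylow subgroup of `Rp (C1 q)` is a Sylow subgroup of `G`. -/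
theorem syl_top (h : Mc p P χ) {q : G} (hq : Pe p q) {T : Subgroup G}
    (hT : IsSyl p T (Rp p (C1 q))) : IsSyl p T ⊤ := by
  obtain ⟨T0, h0, h1⟩ := exists_isSyl_le hq.zp le_top
  exact h0.of_card_ge hT.isPGroup le_top (hT.card_le h0.isPGroup fun t ht =>
    mem_Rp (mem_C1.2 (ab h h0.isPGroup ht (h1 (mem_zpowers q)))) (pe_of_mem h0.isPGroup ht))

/-- (U) of the blueprint. -/
theorem uu (h : Mc p P χ) {q : G} (hq : Sp p q) {C : Subgroup G} (h1 : Rp p (C1 q) ≤ C) (h2 : C ≠ ⊤)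
    {r : G} (hr : r ∈ C) (pr : Pe p r) : Commute r q := by
  obtain ⟨-, hq1, x, y, px, py, hx, hy, hxy⟩ := hq
  have pq := Pe.of_pow hq1
  have hMN := Rp_le_Rp h1
  obtain ⟨T, hT⟩ := exists_isSyl p (Rp p (C1 q))
  have hT' : IsSyl p T (Rp p C) := (syl_top h pq hT).of_le (hT.le.trans hMN) le_top
  have h3 := pCoreOf_le_pCoreOf (p := p) hMN (hT'.pCoreOf_le.trans hT.le)
  have h4 : ¬ T ≤ pCoreOf p (Rp p (C1 q)) := fun e => by
    have h5 : ∀ z, Pe p z → Commute z q → z ∈ T := fun z pz hz => by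
      have h6 := zpowers_le.2 (mem_Rp (mem_C1.2 hz) pz)
      refine hT.le_of_le_normalizer' pz.zp h6 ?_ (mem_zpowers z)
      rw [le_antisymm e hT.pCoreOf_le]
      exact h6.trans (self_le_normalizer_pCoreOf _)
    exact hxy (ab h hT.isPGroup (h5 x px hx) (h5 y py hy))
  obtain ⟨T', rfl⟩ := hT'.exists_sylow_map
  have h5 := h.sub _ (fun e => h2 (top_le_iff.1 (e.ge.trans (Rp_le C)))) T'
  rw [← card_map_of_injective (Rp p C).subtype_injective,
    ← card_map_of_injective (Rp p C).subtype_injective] at h5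
  change _ ∣ p * Nat.card (pCoreOf p (Rp p C)) at h5
  obtain ⟨i, hi⟩ := IsPGroup.iff_card.1 (isPGroup_pCoreOf (p := p) (Rp p (C1 q)))
  obtain ⟨j, hj⟩ := IsPGroup.iff_card.1 hT.isPGroup
  have h6 : i < j := by
    by_contra h6
    exact h4 (eq_of_le_of_card_ge hT.pCoreOf_le (by
      rw [hi, hj]; exact Nat.pow_le_pow_right hp.out.pos (not_lt.1 h6))).ge
  have h7 := eq_of_le_of_card_ge h3 (by
    refine Nat.le_of_mul_le_mul_left (le_trans ?_ (Nat.le_of_dvd
      (Nat.mul_pos hp.out.pos Nat.card_pos) h5)) hp.out.pos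
    rw [hi, hj, ← pow_succ']
    exact Nat.pow_le_pow_right hp.out.pos h6)
  obtain ⟨U, hU, h8⟩ := exists_isSyl_le pr.zp (zpowers_le.2 (mem_Rp hr pr))
  exact ab h hU.isPGroup (h8 (mem_zpowers r)) (hU.pCoreOf_le (h7.ge (mem_core pq)))

theorem exists_conj (h : Mc p P χ) {q : G} (h1 : q ≠ 1) (h2 : q ^ p = 1) :
    ∃ g, ¬ Commute (g * q * g⁻¹) q := by
  by_contra h3
  push Not at h3
  have h0 : ∀ z ∈ Group.conjugatesOfSet {q}, ∃ g, g * q * g⁻¹ = z := fun z hz => by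
    obtain ⟨w, e, h4⟩ := Group.mem_conjugatesOfSet_iff.1 hz
    rw [Set.mem_singleton_iff.1 e] at h4
    exact isConj_iff.1 h4
  have h4 : normalClosure {q} ≤ centralizer (normalClosure {q} : Set G) := by
    have h5 : normalClosure {q} ≤ C1 q := (closure_le _).2 fun z hz => by
      obtain ⟨g, rfl⟩ := h0 z hz
      exact mem_C1.2 (h3 g)
    exact normalClosure_le_normal (Set.singleton_subset_iff.2 fun z hz => mem_C1.1 (h5 hz))
  have h5 : IsPGroup p (normalClosure {q}) := isPGroup_iff_forall.2 fun x hx => ⟨1, by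
    rw [pow_one]
    induction hx using closure_induction with
    | mem z hz =>
      obtain ⟨g, rfl⟩ := h0 z hz
      rw [conj_pow, h2, mul_one, mul_inv_cancel]
    | one => exact one_pow p
    | mul a b ha hb ea eb => rw [Commute.mul_pow (h4 hb a ha), ea, eb, one_mul]
    | inv a _ ea => rw [inv_pow, ea, inv_one]⟩
  exact h1 (mem_bot.1 (h.core.le (H1.PR2.le_core inferInstance h5 (subset_normalClosure rfl))))

theorem spSA (hE : JobEm.{u}) (hS : JobSt.{u}) (h : Mc p P χ) {q : G} (hq : Sp p q) :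
    ∃ d c a b, SA p χ (Rp p (C1 q)) d c a b := by
  obtain ⟨h1, h2, x, y, px, py, hx, hy, hxy⟩ := hq
  exact getSA hE hS h (fun e => nc h h1 (.of_pow h2) (top_le_iff.1 (e.ge.trans (Rp_le _))))
    (Rp_le_Rp le_rfl) (mem_Rp (mem_C1.2 hx) px) (mem_Rp (mem_C1.2 hy) py) px py hxy

theorem SA.low {M : Subgroup G} {d c : ℕ} {a b : G → ℂ → ℕ} (A : SA p χ M d c a b) {q : G}
    (hq : q ∈ pCoreOf p M) (h1 : q ^ p = 1) {l : ℂ} (hl : l ^ p = 1)
    (h : ∀ s ∈ M, ∀ ω, a (s * q) (ω * l) = a s ω) : em p χ q l = d + b q l := by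
  have := h 1 M.one_mem 1
  rw [one_mul, one_mul, A.a1] at this
  rw [A.add q (pCoreOf_le M hq) h1 l hl, this]

/-- (Cf) of the blueprint. -/
theorem cf (hE : JobEm.{u}) (hS : JobSt.{u}) (h : Mc p P χ) {q : G} (hq : Sp p q) :
    charDegree χ + 2 = p ∧ (∃ l : ℂ, 2 * em p χ q l + 1 = p ∧
      ∀ ω : ℂ, ω ^ p = 1 → ω ≠ l → em p χ q ω ≤ 1) ∧ ∃ (r q' : G) (c : ℂ), Pe p r ∧ ¬ Commute r q ∧
      q' ≠ 1 ∧ q' ^ p = 1 ∧ Commute q' q ∧ Commute r q' ∧ c ^ p = 1 ∧ p ≤ 2 * em p χ q' c + 1 := by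
  obtain ⟨d, c, a, b, A⟩ := spSA hE hS h hq
  obtain ⟨h1, h2, -⟩ := hq
  have pq := Pe.of_pow h2
  have hχ := h.irr.isCharacter
  have h0 := hp.out.pos
  obtain ⟨l, hl, h3⟩ := A.scal q (mem_core pq) h2
  have h4 := A.low (mem_core pq) h2 hl h3
  obtain ⟨g, hg⟩ := exists_conj h h1 h2
  have h5 := h.lt
  have h6 := A.big
  have hq : q ∈ closure {q, g * q * g⁻¹} := subset_closure (by simp)
  have hr : g * q * g⁻¹ ∈ closure {q, g * q * g⁻¹} := subset_closure (by simp)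
  obtain ⟨d', c', a', b', B⟩ := getSA hE hS h (L := closure {q, g * q * g⁻¹}) (fun e => by
    have := (hE _ p _ hχ).2.2.1 q _ l l h2 (by rw [conj_pow, h2, mul_one, mul_inv_cancel]) hl hl
      h.irr (n2 h) e
    rw [em_conj hχ] at this
    omega) ((closure_le _).2 (by
      rintro _ (rfl | rfl)
      · exact mem_Rp hq pq
      · exact mem_Rp hr (pq.conj g))) hr hq (pq.conj g) pq hg
  obtain ⟨s, hs, q', hq', e, s1, q1⟩ := B.dec hq h2
  have h7 : s ≠ 1 := by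
    rintro rfl
    rw [one_mul] at e
    exact hg (B.cen q (e ▸ hq') _ hr)
  obtain ⟨l', hl', h8⟩ := B.scal q' hq' q1
  have h9 : ∀ ω : ℂ, ω ^ p = 1 → a' q ω ≤ 1 := fun ω hω => by
    have := B.le_one hs h7 s1 hl' h8 hω
    rwa [← e] at this
  have h10 := B.add q hq h2 l hl
  have h11 := h9 l hl
  have h12 := one_le h0 (B.sb q hq h2) hl
  have h13 := B.deg
  have h14 := B.big
  have h15 := p5 h
  refine ⟨by omega, ⟨l, by omega, fun ω hω hne => ?_⟩, _, q', l', pq.conj g, hg, ?_, q1,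
    (B.cen q' hq' q hq).symm, B.cen q' hq' _ hr, hl', ?_⟩
  · have := two_le h0 (B.sb q hq h2) hω hl hne
    have := h9 ω hω
    have := B.add q hq h2 ω hω
    omega
  · rintro rfl
    have h16 := B.kb s hs 1 hq' l
    rw [← e] at h16
    rw [mul_one] at e
    subst e
    by_cases h17 : l = 1
    · subst h17
      have := (B.eig q hs h1 h2).2 (by omega)
      omega
    · have := two_le h0 (B.sb 1 (one_mem _) (one_pow p)) hl (one_pow p) h17
      have := B.b1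
      omega
  · have := B.low hq' q1 hl' h8
    omega

/-- The case `p = 5`: an involution centralising a Sylow subgroup centralises `M`. -/
theorem cz (hC : JobC.{u}) (h : Mc p P χ) {M T : Subgroup G} {d c : ℕ} {a b : G → ℂ → ℕ}
    (A : SA p χ M d c a b) (hT : IsSyl p T M) {z : G} (h2 : z * z = 1)
    (hz : z ∈ normalizer (M : Set G)) (hc : T ≤ C1 z) : M ≤ C1 z := by
  have hχ := h.irr.isCharacter
  have h5 := p5 h
  have hn : zpowers z ≤ normalizer (Dr M : Set G) :=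
    zpowers_le.2 (normalizer_le_normalizer_map_subtype _ hz)
  have hS := hT.inf_of_le_normalizer (Dr_le M) (hT.le.trans (le_normalizer_map_subtype _))
  have h3 : ∀ y ∈ Dr M ⊔ zpowers z, y ^ 2 ∈ Dr M := fun y hy => by
    obtain ⟨n, h3, w, hw, rfl⟩ := (mem_sup_right_norm hn).1 hy
    have h4 : w * w = 1 := by
      obtain ⟨k, rfl⟩ := mem_zpowers_iff.1 hw
      rw [← (Commute.refl z).mul_zpow, h2, one_zpow]
    rw [show (n * w) ^ 2 = n * (w * n * w⁻¹) * (w * w) by rw [pow_two]; group, h4, mul_one]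
    exact mul_mem h3 (conj_mem_of_mem_normalizer (hn hw) h3)
  have h4 : ∀ y : G, Pe p y → (orderOf y).Coprime 2 := fun y ⟨k, hk⟩ =>
    Nat.Coprime.coprime_dvd_left (orderOf_dvd_of_pow_eq_one hk)
      (((Nat.coprime_primes hp.out Nat.prime_two).2 (by omega)).pow_left k)
  have hS' : IsSyl p (T ⊓ Dr M) (Dr M ⊔ zpowers z) :=
    ⟨inf_le_right.trans le_sup_left, hS.isPGroup, fun Q hQ q1 q2 => hS.eq_of_le hQ q1 fun y hy =>
      mem_of_pow_mem_of_coprime (h3 y (q2 hy)) (h4 y (pe_of_mem hQ hy))⟩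
  obtain ⟨S, eS⟩ := hS'.exists_sylow_map
  have h6 : Nat.card (S : Subgroup ↥(Dr M ⊔ zpowers z)) = p := by
    have k1 := (hp.out.pow_dvd_iff_le_factorization (k := 1) Nat.card_pos.ne').1
      (by simpa using A.dvd)
    have k2 := mt (hp.out.pow_dvd_iff_le_factorization (k := 2) Nat.card_pos.ne').2 A.syl
    rw [← card_map_of_injective (Subgroup.subtype_injective _), eS, hS.card_eq,
      show (Nat.card (Dr M)).factorization p = 1 by omega, pow_one]
  have hz' : z ∈ Dr M ⊔ zpowers z := mem_sup_right (mem_zpowers z)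
  have h7 := hC _ p S h6 _ (hχ.restrict _) (by rw [hχ.charKer_restrict, h.ker, bot_subgroupOf]) h.lt
    ⟨z, hz'⟩ (fun y hy => Subtype.ext (mem_C1.1 (hc (eS.le ⟨y, hy, rfl⟩).1))) (fun e => by
      have := Nat.le_of_dvd two_pos (e.trans (orderOf_dvd_of_pow_eq_one
        (Subtype.ext ((pow_two z).trans h2))))
      omega)
  have h8 : Dr M ≤ C1 z := A.gen.trans ((closure_le _).2 fun s hs => mem_C1.2
    (congrArg Subtype.val (h7 ⟨s, mem_sup_left hs.1⟩ ((Subgroup.orderOf_coe _).symm.trans hs.2)).symm))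
  intro g hg
  obtain ⟨s, hs, q, hq, rfl⟩ := A.sup g hg
  exact mul_mem (h8 hs) (hc (hT.pCoreOf_le hq))

theorem not_sp (hE : JobEm.{u}) (hS : JobSt.{u}) (hC : JobC.{u}) (h : Mc p P χ) {q : G}
    (hq : Sp p q) : False := by
  obtain ⟨hn, ⟨l, hl1, hl2⟩, r, q', c0, pr, hr, q1, q2, q3, q4, hc, hb⟩ := cf hE hS h hq
  obtain ⟨d, c, a, b, A⟩ := spSA hE hS h hq
  have pq := Pe.of_pow hq.2.1
  have pq' := Pe.of_pow q2
  have h0 := hp.out.pos
  have h5 := p5 h
  have h1 := A.big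
  have h2 := A.deg
  have h3 : 2 * d + 1 = p := by
    obtain ⟨l', hl', h3⟩ := A.scal q (mem_core pq) hq.2.1
    have h4 := A.low (mem_core pq) hq.2.1 hl' h3
    by_cases e : l' = l
    · subst e; omega
    · have := hl2 l' hl' e; omega
  have hq' := mem_Rp (mem_C1.2 q3) pq'
  obtain ⟨m, hm, q'', hq'', e, m1, q5⟩ := A.dec hq' q2
  have h4 := A.add q' hq' q2 c0 hc
  have h6 := A.kb m hm q'' hq'' c0
  rw [← e] at h6
  by_cases hm1 : m = 1
  · rw [hm1, one_mul] at e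
    exact hr (uu h hq (fun g hg => mem_C1.2 (A.cen q' (e ▸ hq'') g hg)) (nc h q1 pq') (mem_C1.2 q4) pr)
  by_cases hq1 : q'' = 1
  · rw [hq1, mul_one] at e
    subst e hq1
    have h7 := A.eig q' hm hm1 m1
    have h8 := A.b1
    by_cases e : c0 = 1
    · subst e
      have := h7.2 h3
      omega
    · have := two_le h0 (A.sb 1 (one_mem _) (one_pow p)) hc (one_pow p) e
      have := h7.1 c0 hc
      omega
  obtain ⟨-, ⟨l', hl3, hl4⟩, -⟩ := cf hE hS h (q := q'') (by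
    obtain ⟨-, -, x, y, px, py, hx, hy, hxy⟩ := hq
    exact ⟨hq1, q5, x, y, px, py, A.cen _ hq'' _ (mem_Rp (mem_C1.2 hx) px),
      A.cen _ hq'' _ (mem_Rp (mem_C1.2 hy) py), hxy⟩)
  obtain ⟨l0, hl0, h7⟩ := A.scal q'' hq'' q5
  have h8 := A.low hq'' q5 hl0 h7
  have h9 := A.le_one hm hm1 m1 hl0 h7 hc
  rw [← e] at h9
  have h10 : b q'' c0 ≤ 1 := by
    have h10 := A.add q'' (pCoreOf_le _ hq'') q5 c0 hc
    by_cases e1 : c0 = l'
    · obtain rfl : l0 = l' := by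
        by_contra e2
        have := hl4 l0 hl0 e2
        omega
      subst e1
      omega
    · have := hl4 c0 hc e1
      omega
  obtain ⟨z, hz, z2, z3, z4⟩ := A.inv (by omega)
  have z5 : C1 z ≠ ⊤ := fun e => by
    have h11 := h.irr.mem_charCenter.1 (h.irr.center_le_charCenter
      (mem_center_iff.2 fun g => mem_C1.1 (e.ge (mem_top g))))
    rw [z4, h.irr.isCharacter.re_apply_one, show c = 1 by omega, show charDegree χ = 3 by omega] at h11
    norm_num at h11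
  obtain ⟨T, hT, hT'⟩ := exists_isSyl_le pq'.zp (zpowers_le.2 hq')
  have sp : Sp p q' := ⟨q1, q2, r, q, pr, pq, q4, q3.symm, hr⟩
  obtain ⟨d', c', a', b', B⟩ := spSA hE hS h sp
  have hM : Rp p (C1 q) ≤ C1 z := fun g hg => mem_C1.2 (z3 g hg)
  exact hr (uu h hq hM z5 (cz hC h B ((syl_top h pq hT).of_le (fun t ht => mem_Rp (mem_C1.2
    (ab h hT.isPGroup ht (hT' (mem_zpowers _)))) (pe_of_mem hT.isPGroup ht)) le_top) z2
    (le_norm_Rp _ (mem_C1.2 (z3 q' hq').symm)) (hT.le.trans hM) (mem_Rp (mem_C1.2 q4) pr)) pr)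

theorem jobNTI (hE : JobEm.{u}) (hS : JobSt.{u}) (hC : JobC.{u}) : JobNTI.{u} := by
  intro G _ _ p hp P χ h x hx h1 c hc
  obtain ⟨q, hq, q1, q2⟩ : ∃ q ∈ zpowers x, q ≠ 1 ∧ q ^ p = 1 := by
    have h2 := (pe_of_mem P.isPGroup' hx).zp
    have := (nontrivial_iff_ne_bot _).2 (zpowers_ne_bot.2 h1)
    obtain ⟨k, h3, hk⟩ := h2.nontrivial_iff_card.1 inferInstance
    obtain ⟨q, hq⟩ := exists_prime_orderOf_dvd_card' (G := zpowers x) p (hk ▸ dvd_pow_self p h3.ne')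
    refine ⟨q, q.2, fun e => ?_, ?_⟩
    · rw [show q = 1 from Subtype.ext e, orderOf_one] at hq
      exact hp.out.one_lt.ne hq
    · rw [← Subgroup.coe_pow, ← hq, pow_orderOf_eq_one, Subgroup.coe_one]
  have h2 : Commute c q := by
    obtain ⟨k, rfl⟩ := mem_zpowers_iff.1 hq
    exact (mem_C1.1 hc).zpow_right k
  have h3 : ∀ y ∈ (P : Subgroup G), Commute y q := fun y hy =>
    ab h P.isPGroup' hy (zpowers_le.2 hx hq)
  refine mem_normalizer_of_cj_le ((isSyl_sylow P).le_of_le_normalizer' (isPGroup_cj c P.isPGroup')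
    le_top (le_normalizer_of_le_centralizer fun y hy w hw => ?_))
  by_contra h4
  refine not_sp hE hS hC h ⟨q1, q2, w, y, pe_of_mem P.isPGroup' hw,
    pe_of_mem (isPGroup_cj c P.isPGroup') hy, h3 w hw, ?_, h4⟩
  rw [show y = c * (c⁻¹ * y * c) * c⁻¹ by group]
  exact (h2.mul_left (h3 _ (mem_cj.1 hy))).mul_left h2.inv_left

end H3.PrN
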