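import Cfsg.Agent.H2.PrSpec2
import Cfsg.Agent.S5711
import Cfsg.Agent.H93.PRLift
import Cfsg.Agent.H93.PRLat
import Cfsg.Agent.H85.U3Syl
import Cfsg.Agent.H57.SLCard
import Cfsg.Agent.H88.Moebius
import Cfsg.Agent.H61.PSLMax2
import Cfsg.Agent.H55.Basic

/-! PRIME, job P5. -/

set_option autoImplicit false

namespace H3.Pr

open Cfsg H28 H35 H2.PR Module
open scoped MatrixGroups

universe u

theorem exists_finite_subfield' {k : Type*} [Field k] (p : ℕ) [Fact p.Prime] [CharP k p]
    (f : AlgInt →+* k) (hf : Function.Surjective f) {S : Set k} (hS : S.Finite) :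
    ∃ K : Subfield k, Finite K ∧ S ⊆ K := by
  let _ : Algebra (ZMod p) k := ZMod.algebra _ p
  have := hS.to_subtype
  have : FiniteDimensional (ZMod p) (IntermediateField.adjoin (ZMod p) S) :=
    IntermediateField.finiteDimensional_adjoin fun x _ => by
      obtain ⟨a, rfl⟩ := hf x
      exact ((integralClosure.isIntegral a).map f.toIntAlgHom).tower_top
  exact ⟨(IntermediateField.adjoin (ZMod p) S).toSubfield,
    Module.finite_of_finite (ZMod p) (M := IntermediateField.adjoin (ZMod p) S),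
    IntermediateField.subset_adjoin _ _⟩

theorem exists_finite_subfield {p : ℕ} {M : Ideal AlgInt} [M.IsMaximal] (hM : IsPModular p M)
    {S : Set (F M)} (hS : S.Finite) : ∃ K : Subfield (F M), Finite K ∧ S ⊆ K := by
  have : Fact p.Prime := ⟨hM.1⟩
  have := charP_F hM
  exact exists_finite_subfield' p ((res M).comp (algIntToS M)) (fun x =>
    let ⟨a, e⟩ := exists_algInt_red_eq x; ⟨a, (red_coe (algIntToS M a)).symm.trans e⟩) hS

theorem exists_psl {G : Type*} [Group G] [Finite G] {θ : G → ℂ} (hG : commutator G = ⊤)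
    (h : IsIrrCharacter G θ) (hk : charKer θ = ⊥) {n : ℕ} (hn : charDegree θ = n) {p : ℕ} (hp : p.Prime)
    (hc : ¬ p ∣ Nat.card G) : ∃ (K : Type) (_ : Field K) (_ : Finite K) (_ : CharP K p)
      (H : Subgroup PSL(n, K)), Nonempty (G ⧸ Subgroup.center G ≃* H) := by
  obtain ⟨M, hM⟩ := exists_isPModular p hp
  have := hM.2.1
  have := charP_F hM
  obtain ⟨m, ρ, hρ, -⟩ := H93.PR.jobLat G p M hM θ h
  obtain ⟨⟨-, a1⟩, -, a2, -, a3, -⟩ := H93.PR.jobLift G p M hM _ ρ θ hρ
  obtain rfl : m = n := by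
    rw [← h.cast_charDegree, hn, finrank_fin_fun] at a1
    exact_mod_cast a1
  let D : G →* Matrix (Fin m) (Fin m) (F M) := (LinearMap.toMatrixAlgEquiv' (R := F M)).toMonoidHom.comp ρ
  have d1 : ∀ g, (D g).det = 1 := fun g => congrArg Units.val
    (Abelianization.commutator_subset_ker (Matrix.detMonoidHom.comp D).toHomUnits
      (hG ▸ Subgroup.mem_top g))
  have d2 : Function.Injective D := (injective_iff_map_eq_one D).2 fun g e =>
    Subgroup.mem_bot.1 (hk ▸ h.mem_charKer.2 (a3 g (fun z => hc (z.trans (orderOf_dvd_natCard g)))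
      ((LinearMap.toMatrixAlgEquiv' (R := F M)).injective (e.trans (map_one _).symm))))
  obtain ⟨K, hK, hS⟩ := exists_finite_subfield hM
    (Set.finite_range fun x : G × Fin m × Fin m => D x.1 x.2.1 x.2.2)
  have inj : Function.Injective (K.subtype.mapMatrix (m := Fin m)) :=
    Matrix.map_injective K.subtype_injective
  let D0 : G → Matrix (Fin m) (Fin m) K := fun g => Matrix.of fun i j => ⟨D g i j, hS ⟨(g, i, j), rfl⟩⟩
  have e0 : ∀ g, K.subtype.mapMatrix (D0 g) = D g := fun _ => rfl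
  let D' : G →* SL(m, K) := MonoidHom.mk' (fun g => ⟨D0 g, K.subtype_injective (by
    rw [RingHom.map_det, e0, d1, map_one])⟩) fun a b => Subtype.ext (inj (by
      change K.subtype.mapMatrix (D0 _) = K.subtype.mapMatrix (D0 a * D0 b)
      rw [map_mul, e0, e0, e0, map_mul]))
  let φ := (QuotientGroup.mk' (Subgroup.center SL(m, K))).comp D'
  have e1 : Subgroup.center G = φ.ker := Subgroup.ext fun g => by
    rw [MonoidHom.mem_ker, show φ g = 1 ↔ D' g ∈ Subgroup.center _ from QuotientGroup.eq_one_iff _,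
      Subgroup.mem_center_iff, Subgroup.mem_center_iff]
    refine ⟨fun z A => Subtype.ext (inj ?_), fun z x => d2 ?_⟩
    · obtain ⟨c, e⟩ := a2 g (by
        rw [h.mem_charCenter.1 (h.center_le_charCenter (Subgroup.mem_center_iff.2 z)),
          ← h.cast_charDegree]; simp)
      have : D g = c • 1 := by
        change LinearMap.toMatrixAlgEquiv' (ρ g) = _
        rw [e, map_smul, map_one]
      change K.subtype.mapMatrix (A.1 * D0 g) = K.subtype.mapMatrix (D0 g * A.1)
      rw [map_mul, map_mul, e0, this, mul_smul_comm, smul_mul_assoc, mul_one, one_mul]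
    · rw [← e0, ← e0]
      have := z (D' x)
      rw [← map_mul, ← map_mul] at this
      exact congrArg _ (congrArg Subtype.val this)
  exact ⟨K, inferInstance, hK, inferInstance, φ.range,
    ⟨(QuotientGroup.quotientMulEquivOfEq e1).trans (QuotientGroup.quotientKerEquivRange φ)⟩⟩

theorem dvd_of_card {K : Type*} [Field K] [Fintype K] {p β : ℕ} (h : Fintype.card K = p ^ β) :
    p ∣ Fintype.card K :=
  h ▸ dvd_pow_self p fun z => by
    have := Fintype.one_lt_card (α := K)
    rw [h, z] at this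
    exact lt_irrefl _ this

theorem dvd_psl3 {K : Type*} [Field K] [Fintype K] {p β : ℕ} (hp : p.Prime) (h3 : 3 < p)
    (h : Fintype.card K = p ^ β) : p ∣ Nat.card PSL(3, K) := by
  have a := dvd_of_card h
  have b := H57.card_psl_fin (F := K) (n := 3) (by omega)
  have c : p ∣ ∏ i : Fin 3, (Fintype.card K ^ 3 - Fintype.card K ^ (i : ℕ)) :=
    Dvd.dvd.trans (Nat.dvd_sub (dvd_pow a (by omega)) (dvd_pow a (by simp)))
      (Finset.dvd_prod_of_mem _ (Finset.mem_univ (1 : Fin 3)))
  rw [← b, hp.dvd_mul, hp.dvd_mul] at c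
  refine (c.resolve_left fun z => ?_).resolve_left fun z => ?_
  · have := Nat.le_of_dvd (by omega) (z.trans (Nat.gcd_dvd_left _ _))
    omega
  · exact hp.one_lt.ne' (Nat.dvd_one.1 ((Nat.dvd_sub_iff_right Fintype.card_pos a).1 z))

theorem dvd_psu3 {K : Type*} [Field K] [Fintype K] {p β γ : ℕ} (h : Fintype.card K = p ^ (2 * β))
    (e : γ = p ^ β) : p ∣ Nat.card (PSU 3 K γ) := by
  subst e
  obtain ⟨m, hm, -⟩ := H85.card_PSU_three' (E := K) (q := p ^ β) (by rw [h, mul_comm, pow_mul])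
  have : β ≠ 0 := fun z => by
    have := Fintype.one_lt_card (α := K)
    rw [h, z] at this
    exact lt_irrefl _ this
  exact hm ▸ (dvd_pow (dvd_pow_self p this) (by omega)).mul_right _

theorem jobP5 : JobP5.{u} := by
  intro G _ _ _ θ hG hs h5 h hk hn
  obtain ⟨p, p1, hp⟩ := Nat.exists_infinite_primes (Nat.card G + 6)
  have c0 := Nat.card_pos (α := G)
  have hc : ¬ p ∣ Nat.card G := fun z => by have := Nat.le_of_dvd c0 z; omega
  obtain ⟨K, _, _, _, H, ⟨e⟩⟩ := exists_psl hG h hk hn hp hc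
  have := Fact.mk hp
  have := Fintype.ofFinite K
  obtain ⟨α, -, hα⟩ := FiniteField.card K p
  have : IsSimpleGroup H := e.symm.isSimpleGroup
  have nd : ¬ p ∣ Nat.card H := fun z =>
    hc (z.trans (Nat.card_congr e.toEquiv ▸ Subgroup.card_quotient_dvd_card _))
  have nd' : ∀ {X : Type} [Group X] (L : Subgroup H), L ≃* X → ¬ p ∣ Nat.card X := fun L f z =>
    nd ((Nat.card_congr f.toEquiv ▸ z).trans (Subgroup.card_subgroup_dvd_card L))
  rcases Cfsg.Agent.S5711.result p α (by omega) α.2 hα H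
    ((Subgroup.nontrivial_iff_ne_bot H).1 inferInstance) (fun N n c _ =>
      n.eq_bot_or_eq_top.resolve_right fun z => by
        subst z
        have a : commutator H = ⊤ := by
          rw [commutator_def, ← Subgroup.map_top_of_surjective (e.toMonoidHom.comp
            (QuotientGroup.mk' _)) (e.surjective.comp (QuotientGroup.mk'_surjective _)),
            ← Subgroup.map_commutator, ← commutator_def, hG]
        rw [commutator_def, Subgroup.commutator_eq_bot_iff_le_centralizer.2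
          (Subgroup.le_centralizer _)] at a
        exact bot_ne_top a) with
    ⟨k, _, _, β, a, -, ⟨f⟩⟩ | ⟨k, _, _, β, a, -, ⟨f⟩⟩ | ⟨k, _, _, β, a, -, -, L, -, ⟨f⟩⟩ |
    ⟨k, _, _, β, a, -, -, L, -, ⟨f⟩⟩ | ⟨k, _, _, β, a, -, -, ⟨⟨f⟩⟩ | ⟨⟨f⟩⟩⟩ | ⟨-, k, _, _, a, ⟨f⟩⟩ |
    ⟨-, k, _, _, a, ⟨f⟩⟩ | ⟨a, -⟩ | ⟨-, ⟨f⟩⟩
  · exact absurd (dvd_psl3 hp (by omega) a) (nd' ⊤ (Subgroup.topEquiv.trans f))
  · exact absurd (dvd_psu3 a rfl) (nd' ⊤ (Subgroup.topEquiv.trans f))
  · exact absurd (dvd_psl3 hp (by omega) a) (nd' L f)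
  · exact absurd (dvd_psu3 a rfl) (nd' L f)
  · exact absurd ((dvd_of_card a).trans (Nat.card_eq_fintype_card (α := k) ▸ H61.card_dvd_card_psl))
      (nd' ⊤ (Subgroup.topEquiv.trans f))
  · exact absurd ((dvd_of_card a).trans ⟨_, H88.card_pgl_two⟩) (nd' ⊤ (Subgroup.topEquiv.trans f))
  · exact Or.inl ⟨(e.trans f).trans (H55.pslCongr (FiniteField.ringEquivOfCardEq (by rw [a, ZMod.card])))⟩
  · have := H88.two_mul_card_psl_two (F := k) (by rw [a]; decide)
    rw [a, ← Nat.card_congr (e.trans f).toEquiv] at this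
    omega
  · omega
  · exact Or.inr ⟨e.trans f⟩

end H3.Pr
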