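import Cfsg.Agent.H86.SPGDef
import Cfsg.Agent.H62.SPFC

/-! STD-SP (row S3129), type I fusion, slot BO: `O₂` of the perfect core of `C(a_l)`. -/

set_option autoImplicit false
set_option linter.unusedSectionVars false

namespace H3.SpBO

open H64.SG (Cz Cs Ns IsO2 mem_Cz isO2_pCoreOf isPGroup_iff_is2)
open H67.UA hiding Par
open H67.SP H86.SPG
open H62.SPFC (fixmod mvfix hfc hfs tr0 mv eq_of_add ns_Pc)

variable {n : ℕ} {F : Type} [Field F] [StarRing F] [TrivialStar F] [CharP F 2] [Finite F]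

variable (n F) in
/-- `W_j` -/
def WS (j : ℕ) : Submodule F (Vn n F) where
  carrier := {v | Wk j v}
  add_mem' := fun h h' i hi => by simp [h i hi, h' i hi]
  zero_mem' := fun _ _ => rfl
  smul_mem' := fun c x h i hi => by simp [h i hi]

/-- the vectors fixed by `R` modulo `A` -/
def Fx (R : Subgroup (XU n F)) (A : Submodule F (Vn n F)) : Submodule F (Vn n F) where
  carrier := {v | ∀ r ∈ R, ac r v + v ∈ A}
  add_mem' := fun h h' r hr => by
    rw [ac_add, add_add_add_comm]; exact add_mem (h r hr) (h' r hr)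
  zero_mem' := fun r _ => by simp
  smul_mem' := fun c x h r hr => by rw [ac_smul, ← smul_add]; exact A.smul_mem c (h r hr)

theorem spread {U B : Submodule F (Vn n F)} {f : Vn n F → Vn n F}
    (ad : ∀ y z, f (y + z) = f y + f z) {w y0 : Vn n F} (hw : w ∈ U) (h0 : y0 ∈ B)
    (h1 : hf w y0 ≠ 0) (h : ∀ y ∈ B, w + hf w y • f y ∈ U) : ∀ y ∈ B, f y ∈ U := fun y hy => by
  have k : ∀ y ∈ B, hf w y ≠ 0 → f y ∈ U := fun y hy k =>
    (U.smul_mem_iff k).1 ((U.add_mem_iff_right hw).1 (h y hy))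
  by_cases k' : hf w y = 0
  · have := k (y + y0) (add_mem hy h0) (by rw [hf_add_right, k', zero_add]; exact h1)
    rw [ad] at this
    exact (U.add_mem_iff_left (k y0 h0 h1)).1 this
  · exact k y hy k'

theorem jobBO : JobBO := fun n F _ _ _ _ _ p b bp x l hx h4 hl => by
  have mq : ∀ g, g ∈ Qk n F l ↔ (∀ v ∈ WS n F l, ac g v = v) ∧
      ∀ v ∈ WS n F (n + 1 - l), ac g v + v ∈ WS n F l := FV.mem_Qk l hl
  have pp : ∀ v, v ∈ WS n F (n + 1 - l) ↔ ∀ w ∈ WS n F l, hf v w = 0 := FV.wk_perp l (by omega)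
  have pq : ∀ v, v ∈ WS n F l ↔ ∀ w ∈ WS n F (n + 1 - l), hf v w = 0 := by
    have := FV.wk_perp (n := n) (F := F) (n + 1 - l) (by omega)
    rwa [show n + 1 - (n + 1 - l) = l by omega] at this
  have im : ∀ w, w ∈ WS n F l ↔ ∃ y, w = ac x y + y := fun w => (hx.im w).symm
  have AB : ∀ w ∈ WS n F l, w ∈ WS n F (n + 1 - l) := fun w hw i hi => hw i (by omega)
  generalize WS n F l = A at *
  generalize WS n F (n + 1 - l) = B at *
  have xi : x⁻¹ = x := inv_eq_of_mul_eq_one_right hx.sq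
  have cA : ∀ g ∈ Cz x, ∀ w ∈ A, ac g w ∈ A := fun g hg w hw => by
    obtain ⟨y, rfl⟩ := (im w).1 hw
    exact (im _).2 ⟨ac g y, by rw [ac_add, ← ac_mul, ← ac_mul, mem_Cz.1 hg]⟩
  have cB : ∀ g ∈ Cz x, ∀ v ∈ B, ac g v ∈ B := fun g hg v hv => (pp _).2 fun w hw => by
    rw [hf_ac_left, (pp v).1 hv _ (cA _ (inv_mem hg) w hw)]
  have xB : ∀ v ∈ B, ac x v = v := fun v hv => eq_of_hf fun z => by
    have := (pp v).1 hv _ ((im _).2 ⟨z, rfl⟩)
    rw [hf_add_right] at this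
    rw [hf_ac_left, xi]
    linear_combination this - hf v z * two0 F
  have isQ : IsPGroup 2 (Qk n F l) := isPGroup_iff_is2.2 fun g hg => ⟨2, ac_ext fun v => by
    obtain ⟨q1, q2⟩ := (mq g).1 hg
    have h1 : ac g (ac g v) + v ∈ A := by
      have := q2 _ ((pp _).2 fun w hw => mv (q1 w hw) v)
      rwa [ac_add, add_assoc, ← add_assoc (ac g v), v_add_self, zero_add] at this
    have h2 := q1 _ h1
    have h3 := (congrArg (ac g) h2).trans h2
    rw [ac_add, ac_add] at h3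
    rw [show g ^ 2 ^ 2 = g * (g * (g * g)) by simp [pow_succ, mul_assoc], ac_mul, ac_mul, ac_mul,
      ac_one]
    exact add_right_cancel (h3.trans (add_comm _ _))⟩
  have nsQ : Cz x ≤ Ns (Qk n F l) := fun c hc => H98.mem_normalizer_of_cj_le (by
    rintro _ ⟨g, hg, rfl⟩
    obtain ⟨q1, q2⟩ := (mq g).1 hg
    refine (mq (c * g * c⁻¹)).2 ⟨fun w hw => ?_, fun v hv => ?_⟩
    · rw [ac_mul, ac_mul, q1 _ (cA _ (inv_mem hc) w hw), ac_ac_inv]
    · simpa [ac_add, ac_mul] using cA c hc _ (q2 _ (cB _ (inv_mem hc) v hv)))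
  refine ⟨bp x l hx h4 hl, (Pc_le _).trans nsQ, isQ,
    fun R h1 h2 h3 => ((isO2_pCoreOf _).2.2.2 R h1 h2 h3).trans ?_⟩
  obtain ⟨k1, -, k2, -⟩ := isO2_pCoreOf (Pc (Cz x))
  have k3 := (ns_Pc (Cz x)).trans (H98.normalizer_le_normalizer_pCoreOf (p := 2) _)
  generalize Cfsg.pCoreOf 2 (Pc (Cz x)) = O at *
  have k4 := k1.trans (Pc_le _)
  have f1 : ∀ w ∈ A, w ∈ Fx O ⊥ := fun w hw => by
    by_cases h0 : A ≤ ⊥
    · rw [(Submodule.mem_bot F).1 (h0 hw)]; exact zero_mem _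
    obtain ⟨y, y1, y2, y3⟩ := fixmod k2 (A := ⊥) (by simp) (fun g hg => cA g (k4 hg)) h0
    obtain ⟨z, hz⟩ : ∃ z, hf y z ≠ 0 := by_contra fun k => y2 ((Submodule.mem_bot F).2
      (eq_of_hf fun z => by rw [hf_zero_left]; exact by_contra fun k' => k ⟨z, k'⟩))
    obtain ⟨v, rfl⟩ := (im w).1 hw
    refine spread (U := Fx O ⊥) (B := ⊤) (f := fun v => ac x v + v)
      (fun v v' => by rw [ac_add, add_add_add_comm]) y3 trivial hz (fun v _ => ?_) v trivial
    have a1 : ac x v + v ∈ A := (im _).2 ⟨v, rfl⟩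
    have o : Ok (ac x v + v) v 0 := FV.ok _ _ _ (by
      rw [hf_add_right, hfc v, hx.alt v, FV.iso v, add_zero])
    have a2 : EE (ac x v + v) v 0 ∈ Cz x := by
      rw [mem_Cz, ← mul_inv_eq_iff_eq_mul, EE_conj o, xB _ (AB _ a1)]
      have := EE_shift 1 (ac x v + v) v 0
      rw [tr0, add_zero, one_smul, add_comm (ac x v) v, ← add_assoc, v_add_self, zero_add] at this
      rw [add_comm (ac x v) v, this]
    have := mvfix (A := ⊥) (k3 a2) (by simp) y3
    rwa [ac_EE_perp o ((pp _).1 (AB _ y1) _ a1)] at this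
  have f2 : ∀ v ∈ B, v ∈ Fx O A := fun v hv => by
    by_cases h0 : B ≤ A
    · exact fun r hr => add_mem (cA r (k4 hr) v (h0 hv)) (h0 hv)
    obtain ⟨y, y1, y2, y3⟩ := fixmod k2 (fun g hg => cA g (k4 hg)) (fun g hg => cB g (k4 hg)) h0
    obtain ⟨z, hz, hz'⟩ : ∃ z ∈ B, hf y z ≠ 0 := by_contra fun k => y2 ((pq y).2
      fun z hz => by_contra fun k' => k ⟨z, hz, k'⟩)
    refine spread (U := Fx O A) (f := fun v => v) (fun _ _ => rfl) y3 hz hz' (fun u hu => ?_) v hv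
    have a2 : TT u ∈ Cz x := by
      rw [mem_Cz, ← mul_inv_eq_iff_eq_mul, Tc_conj (FV.iso u) (star_one F), xB _ hu]
    have := mvfix (k3 a2) (cA _ a2) y3
    rwa [ac_Tc (FV.iso u) (star_one F), one_mul] at this
  exact fun r hr => (mq r).2 ⟨fun w hw => eq_of_add (f1 w hw r hr), fun v hv => f2 v hv r hr⟩

end H3.SpBO
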