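import Cfsg.Agent.H3.SaFC2

/-! STD-A: the facts `FE` on automorphisms of `Q`. -/

set_option autoImplicit false
set_option linter.unusedSectionVars false

namespace H3.SA

open H64.SG (O2 Syl Cz Cs Ns cjs Is2 Inv2 fx)
open Matrix H57 Subgroup H67.SA Function

section Alg

variable {F : Type} [Field F] [Finite F] {ι : Type} [Fintype ι] [DecidableEq ι]

theorem semi (i₀ : ι) {A B : (ι → F) →+ (ι → F)} {C : F →+ F} (hA : Surjective A)
    (hB : Surjective B) (hC : Injective C) (h : ∀ v w, A v ⬝ᵥ B w = C (v ⬝ᵥ w)) :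
    ∃ τ : RingAut F, (∀ c, C c = C 1 * τ c) ∧ (∀ a v, A (a • v) = τ a • A v) ∧
      ∀ a w, B (a • w) = τ a • B w := by
  have c1 : C 1 ≠ 0 := fun e => one_ne_zero (hC (e.trans (map_zero C).symm))
  have key : ∀ a c, C (a * c) = C a / C 1 * C c := fun a => by
    obtain ⟨w₀, hw⟩ := hB (Pi.single i₀ 1)
    have k : ∀ c, C (a * c) = B (a • w₀) i₀ * C c := fun c => by
      obtain ⟨v, hv⟩ := hA (Pi.single i₀ (C c))
      have e : v ⬝ᵥ w₀ = c := hC (by rw [← h, hv, hw]; simp)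
      have := h v (a • w₀)
      rw [hv, dotProduct_smul, e, single_dotProduct, smul_eq_mul] at this
      rw [← this, mul_comm]
    intro c
    rw [k c, ← mul_one a, k 1, mul_div_cancel_right₀ _ c1, mul_one]
  let t : F →+* F :=
    { toFun := fun a => C a / C 1
      map_one' := div_self c1
      map_mul' := fun a b => by rw [key, mul_div_assoc]
      map_zero' := by simp
      map_add' := fun a b => by rw [map_add, add_div] }
  refine ⟨RingEquiv.ofBijective t (Finite.injective_iff_bijective.1 t.injective),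
    fun c => (mul_div_cancel₀ _ c1).symm, fun a v => dotProduct_eq _ _ fun y => ?_,
    fun a w => dotProduct_eq _ _ fun y => ?_⟩
  · obtain ⟨w, rfl⟩ := hB y
    rw [h, smul_dotProduct, smul_dotProduct, h, smul_eq_mul, key]; rfl
  · obtain ⟨v, rfl⟩ := hA y
    rw [dotProduct_comm, h, smul_dotProduct, dotProduct_comm (B w), h, dotProduct_smul, smul_eq_mul,
      key]; rfl

theorem lin_dot (f : (ι → F) → F) (h1 : ∀ v w, f (v + w) = f v + f w)
    (h2 : ∀ (a : F) v, f (a • v) = a * f v) : ∃ s, ∀ v, f v = v ⬝ᵥ s := by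
  let L : (ι → F) →ₗ[F] F := { toFun := f, map_add' := h1, map_smul' := h2 }
  refine ⟨fun i => f (Pi.single i 1), fun v => ?_⟩
  have := L.pi_apply_eq_sum_univ v
  simp only [smul_eq_mul] at this
  refine this.trans (Finset.sum_congr rfl fun i _ => congrArg (fun y => v i * f y) ?_)
  ext j; simp [Pi.single_apply, eq_comm]

theorem semi_dot {Θ : (ι → F) →+ (ι → F)} {τ : RingAut F} (hs : Surjective Θ)
    (h : ∀ a v, Θ (a • v) = τ a • Θ v) (i : ι) : ∃ s, ∀ r, Θ r ⬝ᵥ s = τ (r i) := by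
  let e := AddEquiv.ofBijective Θ (Finite.surjective_iff_bijective.1 hs)
  obtain ⟨s, h2⟩ := lin_dot (fun y => τ (e.symm y i)) (fun v w => by simp) fun a y => by
    obtain ⟨v, rfl⟩ := e.surjective y
    obtain ⟨b, rfl⟩ := τ.surjective a
    rw [show τ b • e v = e (b • v) from (h b v).symm]
    simp
  exact ⟨s, fun r => by rw [← h2, show Θ r = e r from rfl, e.symm_apply_apply]⟩

variable [CharP F 2]

theorem ex_sq (a : F) : ∃ r, a = r * r := FiniteField.isSquare_of_char_two (ringChar.eq F 2) a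

theorem hua {W : Type} [AddCommGroup W] [Module F W] (f : F → W → F)
    (h1 : ∀ m u v, f m (u + v) = f m u + f m v)
    (h3 : ∀ m m' (a : F) u, f (m + m') (a • u) + f m (a • u) + f m' (a • u) =
      a * (f (m + m') u + f m u + f m' u))
    (h4 : ∀ m (b a : F) u, b ≠ 0 → f (b ^ 2 * m) (b • a • u) + b ^ 2 * f m (a • u) =
      a * (f (b ^ 2 * m) (b • u) + b ^ 2 * f m u)) (m a : F) (u : W) :
    f m (a • u) = a * f m u := by
  let D : F → F → W → F := fun m a u => f m (a • u) + a * f m u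
  have f0 : ∀ m, f m 0 = 0 := fun m => by have := h1 m 0 0; rw [add_zero] at this; grind
  have D1 : ∀ m m' a u, D (m + m') a u = D m a u + D m' a u := fun m m' a u => by
    have := h3 m m' a u; simp only [D]; grind
  have D2 : ∀ m a u v, D m a (u + v) = D m a u + D m a v := fun m a u v => by
    simp only [D, smul_add, h1]; ring
  have D3 : ∀ m a u (b : F), D (b ^ 2 * m) a (b • u) = b ^ 2 * D m a u := fun m a u b => by
    by_cases hb : b = 0
    · simp [D, hb, f0]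
    · have := h4 m b a u hb
      simp only [D, smul_comm a b u]; grind
  have E1 : ∀ a u (b s c : F), D ((b * s) ^ 2) a (c • u) = D (s ^ 2) a ((b * c) • u) :=
    fun a u b s c => by
      have e1 := D3 (s ^ 2) a (c • u) (b + 1)
      have e2 := D3 (s ^ 2) a (c • u) b
      rw [show (b + 1) ^ 2 * s ^ 2 = b ^ 2 * s ^ 2 + s ^ 2 by grind, add_smul, one_smul, D1, D2, D2,
        e2] at e1
      rw [mul_pow, mul_smul]
      grind
  have E2 : ∀ a u (c : F), D 1 a (c • u) = c * D 1 a u := fun a u c => by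
    obtain ⟨r, rfl⟩ := ex_sq c
    have e1 := E1 a u r 1 r
    have e2 := D3 1 a u r
    rw [mul_one, one_pow] at e1
    rw [mul_one] at e2
    rw [← e1, e2, pow_two]
  have E3 : ∀ a u, D 1 a u = 0 := fun a u => by
    obtain ⟨r, rfl⟩ := ex_sq a
    have e1 := E2 r u r
    simp only [D, ← mul_smul] at e1 ⊢
    grind
  obtain ⟨s, rfl⟩ := ex_sq m
  have := E1 a u s 1 1
  rw [mul_one, one_smul, one_pow, E3, pow_two] at this
  simp only [D] at this
  grind

end Alg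

variable {n : ℕ} {F : Type} [Field F] [Finite F] [CharP F 2]

/-- the index `1` -/
def m1 (hn : 2 ≤ n) : Mid n := ⟨⟨1, by omega⟩, by simp [Fin.ext_iff], by simp [Fin.ext_iff]; omega⟩

/-- coordinates of an automorphism of `Q` -/
structure Co (θ : SLn n F → SLn n F) (A B : (Mid n → F) →+ (Mid n → F)) (φ ψ : (Mid n → F) →+ F)
    (l : F) (τ : RingAut F) : Prop where
  l0 : l ≠ 0
  all : ∀ v w c, θ (qq v w c) = qq (A v) (B w) (l * τ c + (ψ w + φ v))
  dot : ∀ v w, A v ⬝ᵥ B w = l * τ (v ⬝ᵥ w)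
  sA : ∀ a v, A (a • v) = τ a • A v
  sB : ∀ a w, B (a • w) = τ a • B w
  oA : Surjective A

theorem exists_co (hn : 2 ≤ n) {θ : SLn n F → SLn n F} (h : QA n F θ) :
    ∃ A B φ ψ l τ, Co θ A B φ ψ l τ := by
  have hn' : 1 ≤ n := by omega
  have mul : ∀ v w c v' w' c', θ (qq (v + v') (w + w') (c + c' + v ⬝ᵥ w')) =
      θ (qq v w c) * θ (qq v' w' c') := fun v w c v' w' c' => by
    rw [← qq_mul hn', h.mul _ (qq_mem hn' _ _ _) _ (qq_mem hn' _ _ _)]
  choose A φ hA using fun v => (mem_Er_iff hn').1 (h.er (qq v 0 0) ((qq_mem_Er hn').2 rfl))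
  choose B ψ hB using fun w => (mem_Ec_iff hn').1 (h.ec (qq 0 w 0) ((qq_mem_Ec hn').2 rfl))
  choose C hC using fun c => mem_ZZ.1 (Er_inf_Ec.le
    ⟨h.er (qq 0 0 c) ((qq_mem_Er hn').2 rfl), h.ec (qq 0 0 c) ((qq_mem_Ec hn').2 rfl)⟩)
  simp only [← qq_z hn'] at hC
  have a1 : ∀ v v', A (v + v') = A v + A v' ∧ φ (v + v') = φ v + φ v' := fun v v' => by
    have := mul v 0 0 v' 0 0
    simp only [add_zero, dotProduct_zero, hA, qq_mul hn', qq_inj hn'] at this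
    exact ⟨this.1, this.2.2⟩
  have a2 : ∀ v v', B (v + v') = B v + B v' ∧ ψ (v + v') = ψ v + ψ v' := fun v v' => by
    have := mul 0 v 0 0 v' 0
    simp only [add_zero, zero_dotProduct, hB, qq_mul hn', qq_inj hn'] at this
    exact ⟨this.2.1, this.2.2⟩
  have a3 : ∀ c c', C (c + c') = C c + C c' := fun c c' => by
    have := mul 0 0 c 0 0 c'
    simp only [add_zero, zero_dotProduct, hC, qq_mul hn', qq_inj hn'] at this
    exact this.2.2
  have all : ∀ v w c, θ (qq v w c) = qq (A v) (B w) (C c + (ψ w + φ v)) := fun v w c => by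
    have e1 := mul 0 w 0 v 0 0
    have e2 := mul 0 0 c v w 0
    simp only [add_zero, zero_add, zero_dotProduct, hA, hB, qq_mul hn'] at e1
    simp only [add_zero, zero_add, zero_dotProduct, hC, e1, qq_mul hn'] at e2
    exact e2
  have dot : ∀ v w, A v ⬝ᵥ B w = C (v ⬝ᵥ w) := fun v w => by
    have e1 := mul v 0 0 0 w 0
    rw [all, hA, hB, qq_mul hn', qq_inj hn'] at e1
    have := e1.2.2
    simp only [add_zero, zero_add] at this
    grind
  have sj : ∀ v' w', ∃ v w, A v = v' ∧ B w = w' := fun v' w' => by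
    obtain ⟨u, hu, e⟩ := h.bij.surjOn (qq_mem hn' v' w' 0)
    obtain ⟨v, w, c, rfl⟩ := (mem_QQ_iff hn').1 hu
    rw [all, qq_inj hn'] at e
    exact ⟨v, w, e.1, e.2.1⟩
  have oA : Surjective A := fun v' => (sj v' 0).imp fun _ ⟨_, r⟩ => r.1
  have oB : Surjective B := fun w' => (sj 0 w').elim fun _ ⟨w, r⟩ => ⟨w, r.2⟩
  have iC : Injective C := fun c c' e => ((qq_inj hn').1 (h.bij.injOn (qq_mem hn' 0 0 c)
    (qq_mem hn' 0 0 c') (by rw [hC, hC, e]))).2.2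
  obtain ⟨τ, t1, t2, t3⟩ := semi (m1 hn) (A := .mk' A fun v w => (a1 v w).1)
    (B := .mk' B fun v w => (a2 v w).1) (C := .mk' C a3) oA oB iC dot
  have c0 : C 0 = 0 := by have := a3 0 0; rw [add_zero] at this; grind
  exact ⟨.mk' A fun v w => (a1 v w).1, .mk' B fun v w => (a2 v w).1, .mk' φ fun v w => (a1 v w).2,
    .mk' ψ fun v w => (a2 v w).2, C 1, τ, fun e => one_ne_zero (iC (e.trans c0.symm)),
    fun v w c => (all v w c).trans (congrArg (fun y => qq (A v) (B w) (y + (ψ w + φ v))) (t1 c)),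
    fun v w => (dot v w).trans (t1 _), t2, t3, oA⟩

theorem cz (hn : 2 ≤ n) {θ : SLn n F → SLn n F} (h : QA n F θ) : ∃ (l : F) (τ : RingAut F), l ≠ 0 ∧
    ∀ c, θ (x 0 (la n) c) = x 0 (la n) (l * τ c) := by
  obtain ⟨A, B, φ, ψ, l, τ, k⟩ := exists_co hn h
  refine ⟨l, τ, k.l0, fun c => ?_⟩
  rw [← qq_z (by omega), k.all, ← qq_z (by omega)]
  simp

theorem c2 (hn : 2 ≤ n) {θ : SLn n F → SLn n F} (h : QA n F θ) (h1 : ∀ z ∈ ZZ n F, θ z = z)
    (h2 : ∃ k : ℕ, ∀ u ∈ QQ n F, θ^[2 ^ k] u = u) :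
    ∃ p ∈ P00 n F, ∀ u ∈ QQ n F, θ u * (p * u * p⁻¹)⁻¹ ∈ ZZ n F := by
  have hn' : 1 ≤ n := by omega
  obtain ⟨A, B, φ, ψ, l, τ, k⟩ := exists_co hn h
  have e1 : ∀ c, l * τ c = c := fun c => by
    have := h1 _ (x_mem_ZZ c)
    rw [← qq_z hn', k.all, qq_inj hn'] at this
    simpa using this.2.2
  have l1 : l = 1 := by simpa using e1 1
  have t1 : ∀ c, τ c = c := fun c => by simpa [l1] using e1 c
  let L : (Mid n → F) →ₗ[F] (Mid n → F) :=
    { toFun := B, map_add' := B.map_add, map_smul' := fun a w => by rw [k.sB, t1]; rfl }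
  let M := LinearMap.toMatrix' L
  have hM : ∀ w, M *ᵥ w = B w := fun w => LinearMap.toMatrix'_mulVec L w
  have it : ∀ (j : ℕ) w, ∃ c, θ^[j] (qq 0 w 0) = qq 0 (M ^ j *ᵥ w) c := fun j w => by
    induction j with
    | zero => exact ⟨0, by simp⟩
    | succ j ih =>
      obtain ⟨c, e⟩ := ih
      exact ⟨_, by rw [iterate_succ_apply', e, k.all, map_zero, pow_succ', ← mulVec_mulVec, hM]⟩
  obtain ⟨j, hj⟩ := h2
  have e2 : M ^ 2 ^ j = 1 := ext_iff_mulVec.2 fun w => by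
    obtain ⟨c, e⟩ := it (2 ^ j) w
    rw [hj _ (qq_mem hn' _ _ _), qq_inj hn'] at e
    rw [← e.2.1, one_mulVec]
  have e3 : M.det = 1 := by
    have : (M.det + 1) ^ 2 ^ j = 0 := by
      rw [add_pow_char_pow, ← det_pow, e2, det_one, one_pow, CharTwo.add_self_eq_zero]
    have := pow_eq_zero_iff (by positivity) |>.1 this
    grind
  obtain ⟨p, hp, e4⟩ := exists_levi hn' M e3
  refine ⟨p, hp, fun u hu => ?_⟩
  obtain ⟨v, w, c, rfl⟩ := (mem_QQ_iff hn').1 hu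
  rw [e4 v (A v) w c (dotProduct_eq _ _ fun y => by rw [← dotProduct_mulVec, hM, k.dot, e1]), hM,
    k.all]
  exact qq_modZ hn' _ _ _ _

theorem hu (hn : 2 ≤ n) (φ : F → SLn n F → F)
    (h1 : ∀ m, ∀ u ∈ QQ n F, ∀ v ∈ QQ n F, φ m (u * v) = φ m u + φ m v)
    (h2 : ∀ m, ∀ z ∈ ZZ n F, φ m z = 0)
    (h3 : ∀ m m', ∃ ζ ∈ QQ n F, ∀ u ∈ QQ n F,
      x 0 (la n) (φ (m + m') u + φ m u + φ m' u) = cm ζ u)
    (h4 : ∀ m (b : F) (h : SLn n F), b ≠ 0 →
      h.1 = diagonal (fun i => if i = 0 then b else if i = la n then b⁻¹ else 1) →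
      ∃ ζ ∈ QQ n F, ∀ u ∈ QQ n F,
        x 0 (la n) (φ (b ^ 2 * m) (h * u * h⁻¹) + b ^ 2 * φ m u) = cm ζ u) (m : F) :
    ∃ ζ ∈ QQ n F, ∀ u ∈ QQ n F, x 0 (la n) (φ m u) = cm ζ u := by
  have hn' : 1 ≤ n := by omega
  have h0 := zero_ne_la hn'
  have mul : ∀ m v w c v' w' c', φ m (qq (v + v') (w + w') (c + c' + v ⬝ᵥ w')) =
      φ m (qq v w c) + φ m (qq v' w' c') := fun m v w c v' w' c' => by
    rw [← qq_mul hn', h1 m _ (qq_mem hn' _ _ _) _ (qq_mem hn' _ _ _)]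
  have cor : ∀ m v w c, φ m (qq v w c) = φ m (qq v w 0) := fun m v w c => by
    have := mul m 0 0 c v w 0
    rw [h2 m (qq 0 0 c) ((qq_mem_ZZ hn').2 ⟨rfl, rfl⟩)] at this
    simpa using this
  obtain ⟨f, hf⟩ : ∃ f : F → (Mid n → F) × (Mid n → F) → F, ∀ m p, f m p = φ m (qq p.1 p.2 0) :=
    ⟨_, fun _ _ => rfl⟩
  have f1 : ∀ m u v, f m (u + v) = f m u + f m v := fun m u v => by
    rw [hf, hf, hf, ← mul, cor m _ _ (0 + 0 + _)]; rfl
  have lin : ∀ g : (Mid n → F) × (Mid n → F) → F, (∃ ζ ∈ QQ n F, ∀ p,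
      x 0 (la n) (g p) = cm ζ (qq p.1 p.2 0)) → ∀ (a : F) p, g (a • p) = a * g p :=
    fun g ⟨ζ, hζ, e⟩ a p => by
      obtain ⟨α, β, γ, rfl⟩ := (mem_QQ_iff hn').1 hζ
      simp only [qq_cm hn'] at e
      rw [x_inj h0 (e _), x_inj h0 (e _)]
      simp [mul_add]
  have g3 : ∀ m m' (a : F) u, f (m + m') (a • u) + f m (a • u) + f m' (a • u) =
      a * (f (m + m') u + f m u + f m' u) := fun m m' => by
    refine lin (fun u => f (m + m') u + f m u + f m' u) ?_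
    obtain ⟨ζ, r1, r2⟩ := h3 m m'
    exact ⟨ζ, r1, fun p => by rw [← r2 _ (qq_mem hn' _ _ _), hf, hf, hf]⟩
  have g4 : ∀ m (b a : F) u, b ≠ 0 → f (b ^ 2 * m) (b • a • u) + b ^ 2 * f m (a • u) =
      a * (f (b ^ 2 * m) (b • u) + b ^ 2 * f m u) := fun m b a u hb => by
    refine lin (fun u => f (b ^ 2 * m) (b • u) + b ^ 2 * f m u) ?_ a u
    obtain ⟨ζ, r1, r2⟩ := h4 m b (hh 0 (la n) (Units.mk0 b hb)) hb (by
      rw [hh_eq h0]
      refine congrArg diagonal (funext fun i => ?_)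
      by_cases i0 : i = 0 <;> by_cases il : i = la n <;> simp [i0, il, h0.symm])
    refine ⟨ζ, r1, fun p => ?_⟩
    have e : hh 0 (la n) (Units.mk0 b hb) * qq p.1 p.2 0 * (hh 0 (la n) (Units.mk0 b hb))⁻¹ =
        qq (b • p.1) (b • p.2) 0 := by
      rw [hh_eq h0, hd_qq hn', qq_inj hn']
      refine ⟨?_, ?_, by simp⟩
      · ext k; simp [k.2.1, k.2.2]
      · ext k; simp [k.2.1, k.2.2, h0.symm, mul_comm]
    rw [← r2 _ (qq_mem hn' _ _ _), e, hf, hf]; rfl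
  have := hua f f1 g3 g4 m
  obtain ⟨β, e1⟩ := lin_dot (fun v => f m (v, 0)) (fun v w => by simpa using f1 m (v, 0) (w, 0))
    fun a v => by simpa using this a (v, 0)
  obtain ⟨α, e2⟩ := lin_dot (fun w => f m (0, w)) (fun v w => by simpa using f1 m (0, v) (0, w))
    fun a v => by simpa using this a (0, v)
  refine ⟨qq α β 0, qq_mem hn' _ _ _, fun u hu => ?_⟩
  obtain ⟨v, w, c, rfl⟩ := (mem_QQ_iff hn').1 hu
  have := f1 m (0, w) (v, 0)
  simp only [e1, e2, Prod.mk_add_mk, zero_add, add_zero] at this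
  rw [qq_cm hn', cor, dotProduct_comm α, ← this, hf]

/-- the hypothesis of `FE.sem` -/
def SH (θ : SLn n F → SLn n F) : Prop := ∀ p ∈ Cs (ZZ n F), ∀ p' ∈ Cs (ZZ n F),
  (∀ u ∈ QQ n F, θ (p * u * p⁻¹) * (p' * θ u * p'⁻¹)⁻¹ ∈ ZZ n F) →
  ∃ ζ ∈ QQ n F, ∀ u ∈ QQ n F, θ (p * u * p⁻¹) = ζ * (p' * θ u * p'⁻¹) * ζ⁻¹

section Sem

variable {θ : SLn n F → SLn n F} {A B : (Mid n → F) →+ (Mid n → F)} {φ ψ : (Mid n → F) →+ F}
  {l : F} {τ : RingAut F}

theorem semH (hn : 1 ≤ n) (k : Co θ A B φ ψ l τ) (H : SH θ) {p p' : SLn n F} (hp : p ∈ Cs (ZZ n F))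
    (hp' : p' ∈ Cs (ZZ n F)) {f g : (Mid n → F) → Mid n → F} (g0 : g 0 = 0)
    (h1 : ∀ v w c, p * qq v w c * p⁻¹ = qq (f v) (g w) c)
    (h2 : ∀ v w c, p' * qq (A v) (B w) c * p'⁻¹ = qq (A (f v)) (B (g w)) c) :
    ∃ β, ∀ v, φ (f v) = φ v + A (f v) ⬝ᵥ β := by
  obtain ⟨ζ, hζ, e⟩ := H p hp p' hp' fun u hu => by
    obtain ⟨v, w, c, rfl⟩ := (mem_QQ_iff hn).1 hu
    rw [h1, k.all, k.all, h2]
    exact qq_modZ hn _ _ _ _
  obtain ⟨α, β, γ, rfl⟩ := (mem_QQ_iff hn).1 hζ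
  refine ⟨β, fun v => ?_⟩
  have := e _ (qq_mem hn v 0 0)
  rw [h1, k.all, k.all, h2, qq_qq hn, qq_inj hn, g0] at this
  simpa using this.2.2

theorem exists_cube (h : 8 ≤ Nat.card F) : ∃ a : Fˣ, a ^ 3 ≠ 1 := by
  obtain ⟨g, hg⟩ := IsCyclic.exists_generator (α := Fˣ)
  refine ⟨g, fun e => ?_⟩
  have := Nat.le_of_dvd (by norm_num) (orderOf_dvd_of_pow_eq_one e)
  rw [orderOf_eq_card_of_forall_mem_zpowers hg, Nat.card_units] at this
  omega

theorem phi_semi (hn : 2 ≤ n) (hq : 8 ≤ Nat.card F ∨ 3 ≤ n) (k : Co θ A B φ ψ l τ) (H : SH θ)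
    (a : F) (v : Mid n → F) : φ (a • v) = τ a * φ v := by
  have hn' : 1 ≤ n := by omega
  have h0 := zero_ne_la hn'
  have l0 := k.l0
  by_cases n3 : 3 ≤ n
  · have key : ∀ j : Mid n, ∃ κ, ∀ c, φ (Pi.single j c) = τ c * κ := fun j => by
      obtain ⟨i, hi⟩ : ∃ i : Mid n, i ≠ j := by
        by_cases e : j = m1 hn
        · exact ⟨⟨⟨2, by omega⟩, by simp [Fin.ext_iff], by simp [Fin.ext_iff]; omega⟩, by
            simp [e, m1]⟩
        · exact ⟨_, Ne.symm e⟩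
      have sg : ∀ (i : Mid n) (c : F), (Pi.single i c : Mid n → F) = c • Pi.single i 1 :=
        fun i c => by rw [← Pi.single_smul, smul_eq_mul, mul_one]
      have ts : A (Pi.single j 1) ⬝ᵥ (l⁻¹ • B (Pi.single i 1)) = 0 := by
        rw [dotProduct_smul, k.dot]; simp [hi]
      obtain ⟨β, e⟩ := semH hn' k H (P00_le_Cs (x_mem_Pat (S := fun a b => b ≠ 0 ∧ a ≠ la n)
        ⟨j.2.1, i.2.2⟩ 1)) (P00_le_Cs (tv_mem_P00 hn' ts)) (by simp) (x_qq hn' hi 1) fun v w c => by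
          rw [tv_qq hn' ts, map_add, map_add, sg j (v i * 1), sg i (1 * w j), k.sA, k.sB,
            dotProduct_smul, k.dot, k.dot, smul_smul]
          congr 3
          · simp [l0]
          · simp [mul_comm l, l0]
      refine ⟨A (Pi.single i 1 + Pi.single j 1) ⬝ᵥ β, fun c => ?_⟩
      have := e (Pi.single i c)
      rw [map_add φ, add_right_inj, Pi.single_eq_same, mul_one, sg i c, sg j c, ← smul_add, k.sA,
        ← sg j c] at this
      rw [this, smul_dotProduct, smul_eq_mul]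
    choose κ hκ using key
    rw [← Finset.univ_sum_single (a • v), map_sum]
    conv_rhs => rw [← Finset.univ_sum_single v, map_sum, Finset.mul_sum]
    exact Finset.sum_congr rfl fun j _ => by rw [hκ, hκ, Pi.smul_apply, smul_eq_mul, map_mul, mul_assoc]
  obtain ⟨s, hs⟩ := exists_cube (hq.resolve_right n3)
  obtain rfl : n = 2 := by omega
  let d : Fˣ → Fin (2 + 1) → Fˣ := fun s r => if r = 0 ∨ r = la 2 then s else s⁻¹ * s⁻¹
  have dm : ∀ s, ∀ k : Mid 2, d s k.1 = s⁻¹ * s⁻¹ := fun s k => if_neg (not_or.2 k.2)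
  have d0 : ∀ s, d s 0 = s := fun s => if_pos (.inl rfl)
  have dl : ∀ s, d s (la 2) = s := fun s => if_pos (.inr rfl)
  have d1 : ∀ s, ∏ r, d s r = 1 := fun s => by
    rw [Fin.prod_univ_three, d0, show d s 1 = _ from dm s (m1 le_rfl), show d s 2 = _ from dl s]
    group
  have hC : ∀ s, hd (d s) (d1 s) ∈ Cs (ZZ 2 F) := fun s z hz => by
    obtain ⟨c, rfl⟩ := mem_ZZ.1 hz
    rw [eq_comm, ← mul_inv_eq_iff_eq_mul, hd_conj, d0, dl, mul_comm (s : F),
      Units.mul_inv_cancel_right]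
  have cj : ∀ (s : Fˣ) v w c, hd (d s) (d1 s) * qq v w c * (hd (d s) (d1 s))⁻¹ =
      qq (((s : F) ^ 3) • v) (((s : F) ^ 3)⁻¹ • w) c := fun s v w c => by
    have s0 := s.ne_zero
    rw [hd_qq hn', qq_inj hn']
    simp only [dm, d0, dl, Units.val_mul, Units.val_inv_eq_inv_val]
    refine ⟨funext fun k => ?_, funext fun k => ?_, by field_simp⟩
    · rw [Pi.smul_apply, smul_eq_mul]; field_simp
    · rw [Pi.smul_apply, smul_eq_mul]; field_simp
  obtain ⟨β, e⟩ := semH hn' k H (hC s) (hC (Units.map (τ : F →* F) s)) (smul_zero _) (cj s)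
    fun v w c => by rw [cj, k.sA, k.sB]; simp
  have s3 : (s : F) ^ 3 + 1 ≠ 0 := fun r => hs (Units.ext (by
    rw [Units.val_pow_eq_pow_val, Units.val_one]; grind))
  have e2 : ∀ v, φ (((s : F) ^ 3 + 1) • v) = τ (s ^ 3) * (A v ⬝ᵥ β) := fun v => by
    rw [add_smul, one_smul, map_add, e, k.sA, smul_dotProduct, smul_eq_mul]; grind
  obtain ⟨v, rfl⟩ : ∃ w, ((s : F) ^ 3 + 1) • w = v := ⟨_, smul_inv_smul₀ s3 v⟩
  rw [smul_comm, e2, e2, k.sA, smul_dotProduct, smul_eq_mul]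
  ring

theorem sem_row (hn : 2 ≤ n) (hq : 8 ≤ Nat.card F ∨ 3 ≤ n) (h : QA n F θ) (H : SH θ) :
    ∀ p ∈ Pr n F, ∃ p' ∈ Pr n F, ∀ u ∈ Er n F, θ (p * u * p⁻¹) = p' * θ u * p'⁻¹ := by
  have hn' : 1 ≤ n := by omega
  have h0 := zero_ne_la hn'
  obtain ⟨A, B, φ, ψ, l, τ, k⟩ := exists_co hn h
  have hφ := phi_semi hn hq k H
  let rs : (Fin (n + 1) → F) → Mid n → F := fun r i => r i.1
  let Θ : (Fin (n + 1) → F) →+ (Fin (n + 1) → F) := .mk' (fun r => Pi.single 0 (τ (r 0)) +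
    (ex (A (rs r)) + Pi.single (la n) (l * τ (r (la n)) + φ (rs r)))) fun r r' => by
      rw [show rs (r + r') = rs r + rs r' from rfl]
      simp only [Pi.add_apply, map_add, ex_add, mul_add, Pi.single_add]
      abel
  have Θe : ∀ r, Θ r = Pi.single 0 (τ (r 0)) +
    (ex (A (rs r)) + Pi.single (la n) (l * τ (r (la n)) + φ (rs r))) := fun _ => rfl
  have Θs : ∀ a r, Θ (a • r) = τ a • Θ r := fun a r => by
    rw [Θe, Θe, show rs (a • r) = a • rs r from rfl, hφ, k.sA, ex_smul]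
    simp only [smul_add, ← Pi.single_smul, Pi.smul_apply, smul_eq_mul, map_mul]
    congr 3; ring
  have Θ0 : ∀ r, Θ r 0 = τ (r 0) := fun r => by simp [Θe, h0]
  have Θo : Surjective Θ := fun y => by
    obtain ⟨v, hv⟩ := k.oA (rs y)
    refine ⟨Pi.single 0 (τ.symm (y 0)) +
      (ex v + Pi.single (la n) (τ.symm ((y (la n) + φ v) / l))), ?_⟩
    have e : rs (Pi.single 0 (τ.symm (y 0)) +
        (ex v + Pi.single (la n) (τ.symm ((y (la n) + φ v) / l)))) = v := by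
      ext i; simp [rs, i.2.1, i.2.2]
    rw [Θe, e, hv]
    ext i
    rcases idx i with rfl | rfl | ⟨i, rfl⟩
    · simp [h0]
    · simp [h0.symm, mul_div_cancel₀ _ k.l0, add_assoc, CharTwo.add_self_eq_zero]
    · simp [rs, i.2.1, i.2.2]
  have Θt : ∀ r, r 0 = 0 → θ (tv (ee 0) r) = tv (ee 0) (Θ r) := fun r hr => by
    have e : r = ex (rs r) + Pi.single (la n) (r (la n)) := by
      ext i
      rcases idx i with rfl | rfl | ⟨i, rfl⟩
      · simp [h0, hr]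
      · simp
      · simp [rs, i.2.2]
    rw [Θe, hr]
    nth_rw 1 [e]
    rw [← qq_r hn', k.all, map_zero, map_zero, map_zero, qq_r hn']
    simp
  let S : Subgroup (SLn n F) :=
    { carrier := {p | p ∈ Pr n F ∧ ∃ p' ∈ Pr n F, ∀ u ∈ Er n F, θ (p * u * p⁻¹) = p' * θ u * p'⁻¹}
      one_mem' := ⟨one_mem _, 1, one_mem _, fun u _ => by simp⟩
      mul_mem' := fun {a b} ⟨a1, a', a2, a3⟩ ⟨b1, b', b2, b3⟩ =>
        ⟨mul_mem a1 b1, a' * b', mul_mem a2 b2, fun u hu => by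
          rw [show a * b * u * (a * b)⁻¹ = a * (b * u * b⁻¹) * a⁻¹ by group,
            a3 _ (H98.conj_mem_of_mem_normalizer (Pr_le_Ns b1) hu), b3 u hu]
          group⟩
      inv_mem' := fun {a} ⟨a1, a', a2, a3⟩ => ⟨inv_mem a1, a'⁻¹, inv_mem a2, fun u hu => by
        have := a3 _ (H98.conj_mem_of_mem_normalizer' (Pr_le_Ns a1) hu)
        rw [show a * (a⁻¹ * u * a) * a⁻¹ = u by group] at this
        rw [this, inv_inv]
        group⟩ }
  have : Pr n F ≤ S := Pat_le.2 fun a b hab hb d => ⟨xPr a hb d, by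
    obtain ⟨s, hs⟩ := semi_dot Θo Θs a
    have ts : Θ (Pi.single b d) ⬝ᵥ s = 0 := by rw [hs]; simp [hab]
    have t0 : Θ (Pi.single b d) 0 = 0 := by rw [Θ0]; simp [Ne.symm hb]
    have m : tv s (Θ (Pi.single b d)) ∈ Pr n F := mem_Pr.2 fun r => by simp [tv_apply ts, t0]
    refine ⟨_, m, fun u hu => ?_⟩
    obtain ⟨r, hr, rfl⟩ := mem_Row_tv.1 hu
    have e1 : x a b d * tv (ee 0) r * (x a b d)⁻¹ = tv (ee 0) (r + r a • Pi.single b d) :=
      tv_conj' _ (by simpa using hr) (Pr_e0 (xPr a hb d)) (by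
        rw [x_eq_tv hab, vecMul_tv (by simp [hab.symm])]
        simp [hab, add_assoc, vadd_self])
    rw [e1, Θt r hr, Θt _ (by simp [hr, Ne.symm hb]), eq_comm]
    refine tv_conj' _ (by simpa [Θ0] using hr) (Pr_e0 m) ?_
    rw [vecMul_tv ts, hs, map_add Θ, Θs]
    simp [hab, add_assoc, vadd_self]⟩
  exact fun p hp => (this hp).2

theorem sem_col (hn : 2 ≤ n) (hq : 8 ≤ Nat.card F ∨ 3 ≤ n) (h : QA n F θ) (H : SH θ) :
    ∀ p ∈ Pc n F, ∃ p' ∈ Pc n F, ∀ u ∈ Ec n F, θ (p * u * p⁻¹) = p' * θ u * p'⁻¹ := by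
  let γ := gam n F
  have gg : ∀ s, γ (γ s) = s := gam_gam
  have gQ : ∀ u ∈ QQ n F, γ u ∈ QQ n F := fun u => (gam_QQ u).1
  have bj : Set.BijOn γ (QQ n F) (QQ n F) :=
    ⟨gQ, γ.injective.injOn, fun u hu => ⟨γ u, gQ u hu, gg u⟩⟩
  have gC : ∀ p ∈ Cs (ZZ n F), γ p ∈ Cs (ZZ n F) := fun p hp z hz => by
    rw [← gg z, ← map_mul, hp _ ((gam_ZZ z).1 hz), map_mul]
  have := sem_row (θ := fun u => γ (θ (γ u))) hn hq
    ⟨bj.comp (h.bij.comp bj), fun a ha b hb => by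
      simp only [map_mul, h.mul _ (gQ a ha) _ (gQ b hb)],
      fun a ha => (gam_Er.2 _).1 (h.ec _ ((gam_Er.1 a).1 ha)),
      fun a ha => (gam_Er.1 _).1 (h.er _ ((gam_Er.2 a).1 ha))⟩ fun p hp p' hp' r => by
      obtain ⟨ζ, h1, h2⟩ := H _ (gC p hp) _ (gC p' hp') fun u hu => by
        have := (gam_ZZ _).1 (r _ (gQ u hu))
        simpa only [map_mul, map_inv, gam_gam, γ] using this
      refine ⟨γ ζ, gQ ζ h1, fun u hu => ?_⟩
      simp only [map_mul, map_inv, h2 _ (gQ u hu), gg]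
  intro p hp
  obtain ⟨p', h1, h2⟩ := this _ ((gam_Pr.2 p).1 hp)
  refine ⟨γ p', (gam_Pr.1 p').1 h1, fun u hu => ?_⟩
  have := congrArg γ (h2 _ ((gam_Er.2 u).1 hu))
  simpa only [map_mul, map_inv, gam_gam, γ] using this

end Sem

theorem jobFE : JobFE := fun _ _ _ _ _ hp =>
  { cz := fun _ h => cz hp.two_le h
    c2 := fun _ h => c2 hp.two_le h
    hu := hu hp.two_le
    sem := fun hq _ h H => ⟨sem_row hp.two_le hq h H, sem_col hp.two_le hq h H⟩ }

end H3.SA
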