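/- Left Engel elements (Baer) and the hypercentre. -/
import Cfsg.Agent.H18.Subnormal
import Cfsg.Agent.H2.Fitting
import Cfsg.Agent.H83.BaerSuzuki
import Cfsg.Agent.H26.NilpComm
import Cfsg.Agent.H9.PBasic

set_option autoImplicit false

namespace H3
open Subgroup

universe u
variable {G : Type u} [Group G]

theorem foldl_replicate_eq (g x : G) (n : ℕ) :
    (List.replicate n g).foldl (fun a b => a * b * a⁻¹ * b⁻¹) x =
      (fun a => a * g * a⁻¹ * g⁻¹)^[n] x := by
  induction n generalizing x with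
  | zero => rfl
  | succ n ih => rw [List.replicate_succ, List.foldl_cons, ih]; rfl

theorem subN_zpowers_of_engel [Finite G] {g : G}
    (h : ∀ x : G, ∃ n : ℕ, (fun a => a * g * a⁻¹ * g⁻¹)^[n] x = 1) (H : Subgroup G) (hg : g ∈ H) :
    H98.SubN (zpowers g) H := by
  induction H using WellFoundedLT.induction with
  | ind H ih =>
  by_contra hn
  obtain ⟨M, hMH, hgM, hM⟩ := H18.zipper (zpowers_le.mpr hg)
    (fun V hV hA => ih V hV (zpowers_le.mp hA)) hn
  have hgM' : g ∈ M := zpowers_le.mp hgM
  have hN : H ⊓ normalizer (M : Set G) ≤ M := by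
    refine hM _ (lt_of_le_of_ne inf_le_left fun e => hn ?_)
      (hgM.trans (le_inf hMH.le le_normalizer))
    exact (ih M hMH hgM').trans (H98.SubN.of_normal hMH.le (e ▸ inf_le_right))
  have step : ∀ x ∈ H, x * g * x⁻¹ * g⁻¹ ∈ M → x ∈ M := by
    intro x hx e
    have e1 : x * g * x⁻¹ ∈ M := (M.mul_mem_cancel_right (M.inv_mem hgM')).mp e
    have e2 : H98.cj x⁻¹ M ≤ M := by
      refine hM _ ?_ (zpowers_le.mpr (H98.mem_cj.mpr (by simpa using e1)))
      have := (H98.cj_lt_cj_iff (g := x⁻¹)).mpr hMH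
      refine this.trans_le fun y hy => ?_
      have := H98.mem_cj.mp hy
      rw [inv_inv] at this
      exact (H.mul_mem_cancel_left hx).mp ((H.mul_mem_cancel_right (H.inv_mem hx)).mp this)
    refine hN ⟨hx, (normalizer (M : Set G)).inv_mem_iff.mp (mem_normalizer_fintype fun m hm => e2 (H98.conj_mem_cj hm))⟩
  have key : ∀ n : ℕ, ∀ x ∈ H, (fun a => a * g * a⁻¹ * g⁻¹)^[n] x ∈ M → x ∈ M := by
    intro n
    induction n with
    | zero => exact fun x _ e => e
    | succ n ihn =>
      exact fun x hx e => step x hx (ihn _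
        (H.mul_mem (H.mul_mem (H.mul_mem hx hg) (H.inv_mem hx)) (H.inv_mem hg)) e)
  refine hMH.not_ge fun x hx => ?_
  obtain ⟨n, e⟩ := h x
  exact key n x hx (e ▸ M.one_mem)

/-- Baer's theorem. -/
theorem mem_fitting_iff_engel [Finite G] (g : G) : g ∈ Cfsg.fittingSubgroup G ↔
    ∀ x : G, ∃ n : ℕ, (fun a => a * g * a⁻¹ * g⁻¹)^[n] x = 1 := by
  constructor
  · intro hg x
    have := H2.fitting_isNilpotent G
    have hN : (Cfsg.fittingSubgroup G).Normal := inferInstance
    have key : ∀ n : ℕ, ∀ y : Cfsg.fittingSubgroup G, y ∈ Subgroup.upperCentralSeries _ n →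
        (fun a => a * g * a⁻¹ * g⁻¹)^[n] (y : G) = 1 := by
      intro n
      induction n with
      | zero => exact fun y hy => congrArg Subtype.val (mem_bot.mp hy)
      | succ n ih => exact fun y hy => ih _ (Subgroup.mem_upperCentralSeries_succ_iff.mp hy ⟨g, hg⟩)
    obtain ⟨n, hn⟩ := Group.IsNilpotent.nilpotent (Cfsg.fittingSubgroup G)
    exact ⟨n + 1, key n ⟨_, mul_mem (hN.conj_mem g hg x) (inv_mem hg)⟩ (hn ▸ mem_top _)⟩
  · intro h
    have : Group.IsNilpotent (zpowers g) :=
      @CommGroup.isNilpotent _ (IsCyclic.commGroup (α := zpowers g))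
    exact H2.le_fitting_of_isSubnormal
      (H98.subN_top_iff.mp (subN_zpowers_of_engel h ⊤ trivial)) (mem_zpowers g)

theorem isNilpotent_closure_pair_of_mem_ucs {n : ℕ} {g : G} (hg : g ∈ Subgroup.upperCentralSeries G n)
    (x : G) : Group.IsNilpotent (closure ({x, g} : Set G)) := by
  set K := closure ({x, g} : Set G)
  have hx : x ∈ K := subset_closure (by simp)
  have hgK : g ∈ K := subset_closure (by simp)
  have le : ∀ n : ℕ, ∀ y : K, (y : G) ∈ Subgroup.upperCentralSeries G n → y ∈ Subgroup.upperCentralSeries K n := by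
    intro n
    induction n with
    | zero => exact fun y hy => mem_bot.mpr (Subtype.ext (mem_bot.mp hy))
    | succ n ih =>
      exact fun y hy => Subgroup.mem_upperCentralSeries_succ_iff.mpr fun z =>
        ih _ (Subgroup.mem_upperCentralSeries_succ_iff.mp hy z)
  refine ⟨n + 1, ?_⟩
  have gen : closure ({⟨x, hx⟩, ⟨g, hgK⟩} : Set K) = ⊤ := by
    rw [← closure_closure_coe_preimage]
    congr 1
    ext y
    simp [Subtype.ext_iff]
  have h1 : (QuotientGroup.mk' (Subgroup.upperCentralSeries K n)) ⟨g, hgK⟩ = 1 :=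
    (QuotientGroup.eq_one_iff _).mpr (le n _ hg)
  have hc : IsCyclic (K ⧸ Subgroup.upperCentralSeries K n) := by
    refine isCyclic_iff_exists_zpowers_eq_top.mpr
      ⟨QuotientGroup.mk' (Subgroup.upperCentralSeries K n) ⟨x, hx⟩, ?_⟩
    rw [← map_top_of_surjective _ (QuotientGroup.mk'_surjective (Subgroup.upperCentralSeries K n)), ← gen,
      MonoidHom.map_closure, Set.image_pair, h1, zpowers_eq_closure, Set.pair_comm,
      closure_insert_one]
  rw [eq_top_iff]
  intro y _
  refine Subgroup.mem_upperCentralSeries_succ_iff.mpr fun z => ?_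
  rw [← QuotientGroup.eq_one_iff]
  have := hc.commGroup.mul_comm (y : K ⧸ Subgroup.upperCentralSeries K n) z
  simp only [commutatorElement_def, QuotientGroup.mk_mul, QuotientGroup.mk_inv]
  rw [show (y : K ⧸ Subgroup.upperCentralSeries K n) * z = z * y from this]
  group

/-- A `p`-element of `O_p(G)` that commutes with all `p'`-elements gives a nontrivial centre. -/
theorem center_ne_bot_of_pair_nilpotent [Finite G] {g : G} (h1 : g ≠ 1)
    (h : ∀ x : G, Group.IsNilpotent (closure ({x, g} : Set G))) : center G ≠ ⊥ := by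
  obtain ⟨p, hp, hd⟩ := Nat.exists_prime_and_dvd (fun e => h1 (orderOf_eq_one_iff.mp e))
  have := Fact.mk hp
  set a := g ^ (orderOf g / p) with ha
  have oa : orderOf a = p := orderOf_pow_orderOf_div (orderOf_pos g).ne' hd
  have haF : a ∈ Cfsg.fittingSubgroup G := by
    refine pow_mem ((mem_fitting_iff_engel g).mpr fun x => ?_) _
    have := h x
    have hx : x ∈ closure ({x, g} : Set G) := subset_closure (by simp)
    have hg : g ∈ closure ({x, g} : Set G) := subset_closure (by simp)
    obtain ⟨n, hn⟩ := (mem_fitting_iff_engel (⟨g, hg⟩ : closure ({x, g} : Set G))).mp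
      (H2.fitting_eq_top_of_isNilpotent (closure ({x, g} : Set G)) ▸ mem_top _) ⟨x, hx⟩
    refine ⟨n, ?_⟩
    have k : ∀ (n : ℕ) (y : closure ({x, g} : Set G)),
        (((fun a => a * ⟨g, hg⟩ * a⁻¹ * ⟨g, hg⟩⁻¹)^[n] y : closure ({x, g} : Set G)) : G) =
          (fun a => a * g * a⁻¹ * g⁻¹)^[n] (y : G) := by
      intro n
      induction n with
      | zero => exact fun _ => rfl
      | succ n ih => exact fun y => ih _
    exact (k n ⟨x, hx⟩).symm.trans (congrArg Subtype.val hn)
  have haO : a ∈ Cfsg.pCore p G := H2.le_pCore_of_le_fitting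
    (IsPGroup.of_card (n := 1) (by rw [Nat.card_zpowers, oa, pow_one])) (zpowers_le.mpr haF)
    (mem_zpowers a)
  set S : Set G := {y | ¬ p ∣ orderOf y}
  set N := Cfsg.pCore p G ⊓ centralizer S
  have hC : (centralizer S).Normal := ⟨fun c hc m y hy => by
    have := hc (m⁻¹ * y * m) (by
      show ¬ p ∣ _
      rw [show m⁻¹ * y * m = MulAut.conj m⁻¹ y by simp, MulEquiv.orderOf_eq]; exact hy)
    calc y * (m * c * m⁻¹) = m * (m⁻¹ * y * m * c) * m⁻¹ := by group
      _ = _ := by rw [this]; group⟩
  have haN : a ∈ N := ⟨haO, fun y hy => (H26.commute_of_coprime_orderOf_of_mem (h y)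
    (subset_closure (by simp)) (pow_mem (subset_closure (by simp)) _) (by
      rw [oa]; exact ((Nat.Prime.coprime_iff_not_dvd hp).mpr hy).symm)).eq⟩
  obtain ⟨P⟩ : Nonempty (Sylow p G) := inferInstance
  have hNP : N ≤ P := inf_le_left.trans
    (IsPGroup.le_sylow_of_normal (H98.isPGroup_pCore p G) P)
  have hne : N.subgroupOf P ≠ ⊥ := by
    intro e
    have : (⟨a, hNP haN⟩ : P) ∈ N.subgroupOf P := haN
    rw [e, mem_bot] at this
    have : a = 1 := congrArg Subtype.val this
    rw [this, orderOf_one] at oa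
    exact hp.one_lt.ne oa
  obtain ⟨z, hzN, hzc, hz1⟩ := H9.exists_mem_center_orderOf_eq P.2 hne
  intro e
  have : (z : G) ∈ center G := by
    have hi : (centralizer {(z : G)}).index = 1 := by
      by_contra hi
      obtain ⟨q, hq, hqd⟩ := Nat.exists_prime_and_dvd hi
      have := Fact.mk hq
      obtain ⟨Q, hQ⟩ : ∃ Q : Sylow q G, (Q : Subgroup G) ≤ centralizer {(z : G)} := by
        by_cases hqp : q = p
        · subst hqp
          exact ⟨P, fun y hy => mem_centralizer_singleton_iff.mpr
            (congrArg Subtype.val (mem_center_iff.mp hzc ⟨y, hy⟩))⟩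
        · obtain ⟨Q⟩ : Nonempty (Sylow q G) := inferInstance
          refine ⟨Q, fun y hy => mem_centralizer_singleton_iff.mpr (hzN.2 y fun hpy => ?_)⟩
          obtain ⟨k, hk⟩ := IsPGroup.iff_orderOf.mp Q.2 ⟨y, hy⟩
          rw [← Subgroup.orderOf_coe] at hk
          rw [show orderOf y = q ^ k from hk] at hpy
          exact hqp ((Nat.prime_dvd_prime_iff_eq hp hq).mp (hp.dvd_of_dvd_pow hpy)).symm
      exact Q.not_dvd_index (hqd.trans (index_dvd_of_le hQ))
    rw [index_eq_one] at hi
    exact mem_center_iff.mpr fun y => mem_centralizer_singleton_iff.mp (hi ▸ mem_top y)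
  rw [e, mem_bot] at this
  rw [show z = 1 from Subtype.ext this, orderOf_one] at hz1
  exact hp.one_lt.ne hz1

theorem mem_ucs_of_pair_nilpotent [Finite G] {g : G}
    (h : ∀ x : G, Group.IsNilpotent (closure ({x, g} : Set G))) :
    ∃ n, g ∈ Subgroup.upperCentralSeries G n := by
  induction hn : Nat.card G using Nat.strong_induction_on generalizing G with
  | _ n ih =>
  by_cases h1 : g = 1
  · exact ⟨0, h1 ▸ one_mem _⟩
  have hZ := center_ne_bot_of_pair_nilpotent h1 h
  have hlt : Nat.card (G ⧸ center G) < n := by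
    rw [← hn, card_eq_card_quotient_mul_card_subgroup (center G)]
    exact lt_mul_of_one_lt_right Nat.card_pos ((center G).one_lt_card_iff_ne_bot.mpr hZ)
  obtain ⟨k, hk⟩ := ih _ hlt (G := G ⧸ center G) (g := QuotientGroup.mk' _ g) (fun x => by
    obtain ⟨x, rfl⟩ := QuotientGroup.mk'_surjective (center G) x
    have := h x
    rw [← Set.image_pair, ← MonoidHom.map_closure]
    exact Group.nilpotent_of_surjective _
      (MonoidHom.subgroupMap_surjective (QuotientGroup.mk' (center G)) _)) rfl
  exact ⟨k + 1, (Subgroup.comap_upperCentralSeries_quotient_center (G := G) k).le hk⟩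

end H3
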