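/- Tower A12: jobs STAR, LF, FRM, HOLT. -/
import Cfsg.Agent.H51.A12Spec
import Cfsg.Agent.S2901

set_option autoImplicit false

namespace H3.A12

open Cfsg Subgroup H98 H1.Gold H51.X12 H20.X16.BV Function Equiv
open H20.X16 (BV pw)
open H20.AF (P12 t0)

universe u

/-! ### STAR -/

/-- the fifteen pairs -/
def prs : Fin 15 → Finset (Fin 6) := ![{0, 1}, {0, 2}, {0, 3}, {0, 4}, {0, 5}, {1, 2}, {1, 3}, {1, 4},
  {1, 5}, {2, 3}, {2, 4}, {2, 5}, {3, 4}, {3, 5}, {4, 5}]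

/-- two pairs meet in one point -/
def mt (i j : Fin 15) : Bool :=
  Nat.testBit 0xf662daa66ccce656aa9e3368f1aad2ce947e1e90fa92ec96c71e81fe (15 * i.1 + j.1)

theorem prs_all : ∀ P : Finset (Fin 6), P.card = 2 → ∃ i, P = prs i := by decide +kernel

theorem mt_of : ∀ i j, (symmDiff (prs i) (prs j)).card = 2 → mt i j = true := by decide +kernel

set_option synthInstance.maxSize 1000 in
theorem star5 : ∀ a b, mt a b = true → ∀ c, mt a c = true ∧ mt b c = true → ∀ d,
    mt a d = true ∧ mt b d = true ∧ mt c d = true → ∀ e,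
      mt a e = true ∧ mt b e = true ∧ mt c e = true ∧ mt d e = true →
        ∃ x, x ∈ prs a ∧ x ∈ prs b ∧ x ∈ prs c ∧ x ∈ prs d ∧ x ∈ prs e := by decide +kernel

/-- the pair `{0, k}` if `k ∈ I` -/
def qk (I : Finset (Fin 6)) (k : Fin 5) : Finset (Fin 6) := if k.succ ∈ I then {0, k.succ} else ∅

theorem even_eq : ∀ I : Finset (Fin 6), Even I.card → I =
    symmDiff (qk I 0) (symmDiff (qk I 1) (symmDiff (qk I 2) (symmDiff (qk I 3) (qk I 4)))) := by
  decide +kernel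

theorem even_sd : ∀ I : Finset (Fin 6), Even I.card → ∀ J : Finset (Fin 6), Even J.card →
    Even (symmDiff I J).card := by decide +kernel

theorem jobSTAR : JobSTAR := by
  intro f h1 h2
  have e0 : ∀ k : Fin 5, ({0, k.succ} : Finset (Fin 6)).card = 2 := by decide
  have e1 : ∀ k l : Fin 5, k ≠ l →
      (symmDiff ({0, k.succ} : Finset (Fin 6)) {0, l.succ}).card = 2 := by decide
  have a1 : ∀ k l : Fin 5, k ≠ l → (symmDiff (f {0, k.succ}) (f {0, l.succ})).card = 2 :=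
    fun k l h => by
      rw [← h1 _ _ (by rw [e0]; decide) (by rw [e0]; decide)]; exact h2 _ (e1 k l h)
  choose i hi using fun k : Fin 5 => prs_all _ (h2 _ (e0 k))
  have a2 : ∀ k l, k ≠ l → mt (i k) (i l) = true := fun k l h => mt_of _ _ (by
    rw [← hi, ← hi]; exact a1 k l h)
  obtain ⟨x, hx⟩ := star5 (i 0) (i 1) (a2 _ _ (by decide)) (i 2)
    ⟨a2 _ _ (by decide), a2 _ _ (by decide)⟩ (i 3)
    ⟨a2 _ _ (by decide), a2 _ _ (by decide), a2 _ _ (by decide)⟩ (i 4)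
    ⟨a2 _ _ (by decide), a2 _ _ (by decide), a2 _ _ (by decide), a2 _ _ (by decide)⟩
  have a3 : ∀ k : Fin 5, ∃ y, y ≠ x ∧ f {0, k.succ} = {x, y} := fun k => by
    have : x ∈ prs (i k) := by
      fin_cases k
      exacts [hx.1, hx.2.1, hx.2.2.1, hx.2.2.2.1, hx.2.2.2.2]
    rw [hi]
    exact (by decide +kernel : ∀ x j, x ∈ prs j → ∃ y, y ≠ x ∧ prs j = {x, y}) x _ this
  choose y hy hy' using a3
  have inj : Injective (Fin.cons x y : Fin 6 → Fin 6) := Fin.cons_injective_iff.2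
    ⟨fun ⟨k, e⟩ => hy k e, fun k l e => by_contra fun n => by
      have := a1 k l n
      rw [hy', hy', e, symmDiff_self] at this
      exact absurd this (by decide)⟩
  refine ⟨Equiv.ofBijective _ (Finite.injective_iff_bijective.1 inj), fun I hI => ?_⟩
  generalize hσ : Equiv.ofBijective _ (Finite.injective_iff_bijective.1 inj) = σ
  have cl : ∀ {I J : Finset (Fin 6)}, Even I.card ∧ f I = I.map σ.toEmbedding →
      Even J.card ∧ f J = J.map σ.toEmbedding →
      Even (symmDiff I J).card ∧ f (symmDiff I J) = (symmDiff I J).map σ.toEmbedding :=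
    fun a b => ⟨even_sd _ a.1 _ b.1, by
      rw [h1 _ _ a.1 b.1, a.2, b.2, Finset.map_eq_image, Finset.map_eq_image, Finset.map_eq_image,
        Finset.image_symmDiff _ _ σ.toEmbedding.injective]⟩
  have q : ∀ k, Even (qk I k).card ∧ f (qk I k) = (qk I k).map σ.toEmbedding := fun k => by
    unfold qk
    split_ifs
    · refine ⟨by rw [e0]; decide, ?_⟩
      rw [hy', Finset.map_insert, Finset.map_singleton, ← hσ]; rfl
    · have := h1 ∅ ∅ (by decide) (by decide)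
      rw [symmDiff_self, symmDiff_self] at this
      exact ⟨by decide, this⟩
  rw [even_eq I hI]
  exact (cl (q 0) (cl (q 1) (cl (q 2) (cl (q 3) (q 4))))).2

/-! ### LF -/

theorem jobLF : JobLF.{u} := by
  intro ps G _ _ φ N p c yw n₀ U hU
  have : Fact (Nat.Prime 2) := ⟨Nat.prime_two⟩
  have hN : ∀ m, φ m ∈ N := fun m => by rw [yw.eq, ← range_iE]; exact (ind_acE φ m).nor
  have nO : N ≤ nor (p.ker.map N.subtype) := by
    refine (normal_subgroupOf_iff_le_normalizer (map_subtype_le _)).1 ?_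
    rw [subgroupOf, comap_map_eq_self_of_injective N.subtype_injective]
    infer_instance
  obtain ⟨y, hy, hle⟩ := (c.syl.of_le (K := φ.range ⊔ p.ker.map N.subtype) le_sup_left
    le_top).exists_cj_le (isPGroup_cj (n₀ : G) (c.pg U)) (by
      rintro _ ⟨_, ⟨x, hx, rfl⟩, rfl⟩
      obtain ⟨y, e⟩ := hU x hx
      have := mul_mem (mem_sup_left ⟨y, rfl⟩ : φ y ∈ φ.range ⊔ p.ker.map N.subtype)
        (mem_sup_right (mem_map_of_mem N.subtype (x := (⟨φ y, hN y⟩ : N)⁻¹ * (n₀ * ⟨φ x, hN x⟩ * n₀⁻¹))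
          (by rw [MonoidHom.mem_ker, map_mul, map_mul, map_mul, map_inv, map_inv, yw.val, yw.val, e,
            inv_mul_cancel])))
      exact (mul_inv_cancel_left (φ y) _).subst this)
  obtain ⟨s, hs, _, ⟨d, hd, rfl⟩, rfl⟩ := (mem_sup_left_norm (by
    rintro _ ⟨m, rfl⟩; exact nO (hN m))).1 hy
  rw [← cj_cj, cj_le_iff, cj_eq_self_of_mem (inv_mem hs), cj_cj] at hle
  have e : p (d * n₀) = p n₀ := by rw [map_mul, show p d = 1 from hd, one_mul]
  refine ⟨d * n₀, e, fun x hx y h => ?_⟩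
  obtain ⟨q, hq⟩ := hle (conj_mem_cj (mem_map_of_mem φ hx))
  have e1 : (⟨φ q, hN q⟩ : N) = d * n₀ * ⟨φ x, hN x⟩ * (d * n₀)⁻¹ := Subtype.ext hq
  have e2 := congrArg p e1
  rw [map_mul, map_mul, map_inv, e, yw.val, yw.val, h] at e2
  exact ps.inj e2 ▸ hq.symm

/-! ### FRM -/

theorem tau_inj : Injective tau := by decide +kernel

theorem jobFRM : JobFRM.{u} := by
  rintro G _ _ φ c wc fr ⟨g0, hg0⟩
  have tA : ∀ i, tau i = iA (tau i).a := fun _ => rfl
  have perm : ∀ g ∈ nor (A.map φ), ∃ σ : Perm (Fin 7), ∀ i, Cj φ g (tau i) (tau (σ i)) :=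
    fun g hg => by
      obtain ⟨F, hF⟩ := c.indA (cj_eq_self hg).le
      choose σ hσ using fun i => (fr _).1 (((fr _).2 ⟨i, rfl⟩).trans (hF (tau i).a).fu)
      have h : ∀ i, Cj φ g (tau i) (tau (σ i)) := fun i => hσ i ▸ hF (tau i).a
      exact ⟨Equiv.ofBijective σ (Finite.injective_iff_bijective.1 fun i j e =>
        tau_inj (c.uniq' (h i) (e ▸ h j))), h⟩
  have it : ∀ e : ℕ, Ind φ iA (g0 ^ e) rot^[e] := fun e => by
    induction e with
    | zero => exact fun x => by simp [Cj]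
    | succ e ih => rw [pow_succ]; exact hg0.comp ih
  have one : ∀ i j, i ≠ j → ∃ g ∈ nor (A.map φ), Cj φ g (tau i) (tau 0) ∧ Cj φ g (tau j) (tau 1) :=
    fun i j ij => by
      obtain ⟨g, hg⟩ := Fu.ex ((fr _).2 ⟨i, rfl⟩).symm
      have cA : ∀ i, ∀ w ∈ A, w * tau i = tau i * w := by decide +kernel
      obtain ⟨n, hn, h⟩ := wc_ctl wc.a (I := Unit) (p := fun _ => tau i) (q := fun _ => tau 0)
        (fun _ => hg) (fun _ => cA i) fun _ => cA 0
      obtain ⟨σ, hσ⟩ := perm n (cj_eq_self_iff.1 hn)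
      have e0 : σ i = 0 := tau_inj (c.uniq (hσ i) (h ()))
      obtain ⟨r, e, e1, e2⟩ := (by decide +kernel : ∀ m : Fin 7, m ≠ 0 → ∃ r : R, ∃ e : Fin 3,
        act r (rot^[e] (tau m).a) = (tau 1).a ∧ act r (rot^[e] (tau 0).a) = (tau 0).a) (σ j)
        fun k => ij (σ.injective (e0.trans k.symm))
      have k := (it e).comp (ind_act φ (iR r))
      refine ⟨_, mul_mem (range_iA ▸ k.nor) (cj_eq_self_iff.1 hn), (h ()).trans ?_, (hσ j).trans ?_⟩
      · exact (congrArg iA e2).subst (k (tau 0).a)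
      · exact (congrArg iA e1).subst (k (tau (σ j)).a)
  refine ⟨c, wc.a, fr, perm, fun i j k l ij kl => ?_⟩
  obtain ⟨g, hg, h1, h2⟩ := one i j ij
  obtain ⟨g', hg', h3, h4⟩ := one k l kl
  exact ⟨_, mul_mem (inv_mem hg') hg, h1.trans h3.symm, h2.trans h4.symm⟩

/-! ### HOLT -/

theorem jobHOLT : JobHOLT.{u} := by
  intro G _ _ _ φ fr H hC hN
  have : Fact (Nat.Prime 2) := ⟨Nat.prime_two⟩
  have c := fr.toSy
  have SH : φ.range ≤ H := (range_le_cen_t φ).trans hC
  have ot : orderOf (φ tM) = 2 := c.ord (by decide +kernel) (by decide +kernel)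
  have nc : ∃ m, m * tau 1 ≠ tau 1 * m := by decide +kernel
  refine or_iff_not_imp_left.2 fun hH => ?_
  rcases Cfsg.Agent.S2901.result (fun h => by
      obtain ⟨m, hm⟩ := nc
      exact hm (c.inj (by rw [map_mul, map_mul]; exact h.is_comm.comm _ _))) H hH (φ tM) (SH ⟨_, rfl⟩)
    ⟨ot, c.syl.toSylowTop, ⟨_, rfl⟩, fun x hx => mem_cen1.1 (range_le_cen_t φ hx)⟩ hC (fun g hg => by
      obtain ⟨h, hh, l⟩ := (c.syl.of_le SH le_top).exists_cj_le
        (isPGroup_zpowers (x := g * φ tM * g⁻¹) (k := 1) (by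
          rw [conj_pow, pow_one, ← ot, pow_orderOf_eq_one]; simp)) (zpowers_le.2 hg)
      obtain ⟨x, hx⟩ := l (conj_mem_cj (mem_zpowers _))
      obtain ⟨i, rfl⟩ := (fr.cls x).1 (isConj_iff.2 ⟨h * g, by rw [hx]; group⟩)
      obtain ⟨n, hn, h1, -⟩ := fr.two 0 1 i (i + 1) (by decide) ((by decide : ∀ i : Fin 7, i ≠ i + 1) i)
      refine ⟨h⁻¹ * n, mul_mem (inv_mem hh) (hN hn), ?_⟩
      rw [show h⁻¹ * n * φ tM * (h⁻¹ * n)⁻¹ = h⁻¹ * (n * φ (tau 0) * n⁻¹) * h by rw [tau_zero]; group,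
        show _ = φ (tau i) from h1, hx]
      group) with ⟨-, S, rfl⟩ | ⟨n, h5, ⟨e⟩, -⟩
  · obtain ⟨n, hn, h1, -⟩ := fr.two 0 1 1 0 (by decide) (by decide)
    have e : φ.range = S := (isSyl_sylow S).eq_of_le c.syl.isPGroup
      (c.syl.le_of_le_normalizer S.isPGroup' le_top SH) le_top
    obtain ⟨m, hm⟩ := nc
    obtain ⟨m', hm'⟩ : n⁻¹ * φ m * n ∈ φ.range := by
      rw [e]; exact conj_mem_of_mem_normalizer' (hN hn) (e ▸ ⟨m, rfl⟩)
    exact absurd (c.comm (g := n) (x := m') (by rw [Cj, hm']; group) h1 (cen_t m')) hm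
  · have : Nontrivial (Fin n) := Fin.nontrivial_iff_two_le.2 (by omega)
    have h1 := two_mul_nat_card_alternatingGroup (α := Fin n)
    have h2 := H12.card_mul_relIndex (le_top : φ.range ≤ ⊤)
    rw [c.card, card_top, Nat.card_congr e.toEquiv] at h2
    rw [Nat.card_perm, Nat.card_eq_fintype_card (α := Fin n), Fintype.card_fin, ← h2] at h1
    have h3 : ¬ n ≤ 11 := fun h => absurd (((Dvd.intro _ (by rw [← h1, mul_assoc 2]) :
      2 * 512 ∣ _)).trans (Nat.factorial_dvd_factorial h)) (by decide)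
    have h4 : ¬ 14 ≤ n := fun h => c.syl.not_dvd_relIndex (by
      have := (show 2048 ∣ Nat.factorial 14 by decide).trans (Nat.factorial_dvd_factorial h)
      rw [← h1] at this
      omega)
    obtain rfl | rfl : n = 12 ∨ n = 13 := by omega
    exacts [.inl ⟨e⟩, .inr ⟨e⟩]

end H3.A12
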