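/- Two elements of large prime orders generate an alternating group. -/
import Cfsg.Agent.H3.Deg13
import Cfsg.Agent.H3.TwoPrimes
import Cfsg.Agent.H93.S2BA1
import Cfsg.Agent.H83.LocMouf

set_option autoImplicit false

namespace H3.TP

open Equiv Equiv.Perm MulAction Subgroup H25

variable {α : Type*} [Fintype α] [DecidableEq α]

theorem isPreprimitive_of_long_cycle {G : Subgroup (Perm α)} [IsPretransitive G α] {q : ℕ}
    (hq : q.Prime) {g : Perm α} (hgc : g.IsCycle) (hgq : g.support.card = q) (hg : g ∈ G)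
    (hc : Fintype.card α < 2 * q) : IsPreprimitive G α := by
  classical
  have := isPretransitive_of_isCycle_mem hgc hg
  have hcard : Nat.card (SubMulAction.ofFixingSubgroup G (g.support : Set α)ᶜ) = q := by
    rw [Nat.card_eq_fintype_card, Fintype.card_subtype, ← hgq]
    apply congr_arg
    ext x
    simp [SubMulAction.mem_ofFixingSubgroup_iff]
  have : IsPreprimitive (fixingSubgroup G (g.support : Set α)ᶜ)
      (SubMulAction.ofFixingSubgroup G (g.support : Set α)ᶜ) :=
    IsPreprimitive.of_prime_card (hcard ▸ hq)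
  refine IsPreprimitive.of_card_lt
    (f := SubMulAction.ofFixingSubgroup_equivariantMap G (g.support : Set α)ᶜ) ?_
  rw [← Nat.card_coe_set_eq, Nat.card_range_of_injective
    SubMulAction.ofFixingSubgroup_equivariantMap_injective, hcard, Nat.card_eq_fintype_card]
  exact hc

theorem isPretransitive_of_two {G : Subgroup (Perm α)} {p : ℕ} (hp : p.Prime) {x y : Perm α}
    (hx : x ∈ G) (hy : y ∈ G) (hxp : x ^ p = 1) (hyc : y.IsCycle)
    (hs : ∀ a, a ∈ x.support ∨ a ∈ y.support) (hc : Fintype.card α < p + y.support.card) :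
    IsPretransitive G α := by
  classical
  have := Fact.mk hp
  obtain ⟨a, ha, hall⟩ := hyc
  let O : Finset α := Finset.univ.filter fun b => b ∉ orbit G a
  have hO : ∀ b, b ∈ O ↔ b ∉ orbit G a := fun b => by simp [O]
  have h1 : O ⊆ y.supportᶜ := by
    intro b hb
    rw [Finset.mem_compl]
    intro h
    obtain ⟨i, hi⟩ := hall (mem_support.1 h)
    exact (hO b).1 hb ⟨⟨y ^ i, G.zpow_mem hy i⟩, hi⟩
  have h2 : p ∣ O.card := by
    refine prime_dvd_card_of_invariant hxp (fun b hb => ?_) (fun b hb => ?_)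
    · rw [hO] at hb ⊢
      intro h
      obtain ⟨g, hg⟩ := h
      refine hb ⟨(⟨x, hx⟩ : G)⁻¹ * g, ?_⟩
      simp only at hg ⊢
      rw [mul_smul, hg, inv_smul_eq_iff]
      rfl
    · exact (hs b).resolve_right (Finset.mem_compl.1 (h1 hb))
  have h3 := Finset.card_le_card h1
  rw [Finset.card_compl] at h3
  have h5 := Finset.card_le_univ y.support
  have h4 : O.card = 0 := Nat.eq_zero_of_dvd_of_lt h2 (by omega)
  rw [Finset.card_eq_zero] at h4
  rw [isPretransitive_iff_base a]
  intro b
  by_contra h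
  have : b ∈ O := (hO b).2 h
  simp [h4] at this

theorem four_dvd_card_closure {X : Type*} [Group X] [Finite X] {x y : X} (hx : Odd (orderOf x))
    (hy : Odd (orderOf y)) (h2 : 2 ∣ Nat.card (closure ({x, y} : Set X))) :
    4 ∣ Nat.card (closure ({x, y} : Set X)) := by
  by_contra h
  obtain ⟨σ, hσ⟩ := H83.loc_exists_sign h
  have h1 : ∀ g (hg : g ∈ closure ({x, y} : Set X)), σ ⟨g, hg⟩ = 1 := by
    intro g hg
    induction hg using closure_induction with
    | mem g hg =>
      rw [hσ, ← Subgroup.orderOf_coe]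
      rcases hg with rfl | rfl <;> assumption
    | one => exact map_one σ
    | mul a b ha hb iha ihb =>
      exact (map_mul σ ⟨a, ha⟩ ⟨b, hb⟩).trans (by rw [iha, ihb, one_mul])
    | inv a ha iha => exact (map_inv σ ⟨a, ha⟩).trans (by rw [iha, inv_one])
  have := Fact.mk Nat.prime_two
  obtain ⟨t, ht⟩ := exists_prime_orderOf_dvd_card' 2 h2
  have h3 := (hσ t).1 (h1 t t.2)
  rw [ht] at h3
  exact absurd h3 (by decide)

omit [DecidableEq α] in
theorem exists_dvd_card_of_multiply {G : Subgroup (Perm α)} {t : ℕ}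
    (hT : IsMultiplyPretransitive G α t) (ht : t ≤ Fintype.card α) :
    ∃ k, k * (Fintype.card α - t).factorial = (Fintype.card α).factorial ∧ k ∣ Nat.card G := by
  obtain ⟨s, -, hs⟩ := Finset.exists_subset_card_eq (s := (Finset.univ : Finset α)) (n := t)
    (by simpa using ht)
  have h1 := hT.index_of_fixingSubgroup_mul (s := (s : Set α)) (by simpa using hs)
  rw [Nat.card_eq_fintype_card] at h1
  exact ⟨_, h1, index_dvd_card _⟩

theorem stabilizer_equiv_alt5 {X Ω : Type*} [Group X] [MulAction X Ω] [Finite X] [Finite Ω]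
    (hf : ∀ g : X, (∀ c : Ω, g • c = c) → g = 1) (a : Ω) (hi : Nat.card Ω = 6)
    (hc : Nat.card (stabilizer X a) = 60) :
    Nonempty (stabilizer X a ≃* alternatingGroup (Fin 5)) := by
  classical
  have hX : Nat.card (SubMulAction.ofStabilizer X a) = 5 := by
    have := SubMulAction.nat_card_ofStabilizer_add_one_eq X a
    omega
  have hinj : Function.Injective (toPermHom (stabilizer X a) (SubMulAction.ofStabilizer X a)) := by
    rw [injective_iff_map_eq_one]
    intro g hg
    refine Subtype.ext (hf _ fun c => ?_)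
    by_cases hc : c = a
    · rw [hc]; exact g.2
    · exact congrArg Subtype.val (congrArg (fun f : Perm _ => f ⟨c, hc⟩) hg)
  rcases H93.S2B.alt_or_sym hX _ hinj (by rw [hc]; norm_num [Nat.factorial]) with h | h
  · exact h.2
  · rw [hc] at h
    exact absurd h.1 (by norm_num [Nat.factorial])

theorem equiv_alt5_of_index_six {X : Type*} [Group X] [Finite X] [IsSimpleGroup X]
    {K : Subgroup X} (hi : K.index = 6) (hc : Nat.card K = 60) :
    Nonempty (K ≃* alternatingGroup (Fin 5)) := by
  have hK : stabilizer X ((1 : X) : X ⧸ K) = K := stabilizer_quotient K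
  have hcore : K.normalCore = ⊥ := by
    refine (normalCore_normal K).eq_bot_or_eq_top.resolve_right fun h => ?_
    have : K = ⊤ := top_le_iff.1 (h ▸ normalCore_le K)
    rw [this, index_top] at hi
    omega
  obtain ⟨e⟩ := stabilizer_equiv_alt5 (X := X) (Ω := X ⧸ K) (fun g hg => by
    rw [← mem_bot, ← hcore, normalCore_eq_ker, MonoidHom.mem_ker]
    ext c
    exact hg c) ((1 : X) : X ⧸ K) hi (by rw [hK, hc])
  exact ⟨(MulEquiv.subgroupCongr hK.symm).trans e⟩

theorem core {x y : alternatingGroup α} {p q : ℕ} (hp : p.Prime) (hq : q.Prime)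
    (hx : orderOf x = p) (hy : orderOf y = q)
    (hs : ∀ a, a ∈ (x : Perm α).support ∨ a ∈ (y : Perm α).support)
    (hd : Fintype.card α ≤ 2 * p)
    (hc : (5 ≤ q ∧ p + 3 ≤ q ∧ (Fintype.card α = 2 * p → q + 3 ≤ 2 * p)) ∨ (p = 3 ∧ q = 5) ∨
      (p = 5 ∧ q = 7) ∨ (p = 11 ∧ q = 13)) :
    ∃ d : ℕ, 5 ≤ d ∧
      Nonempty (closure ({x, y} : Set (alternatingGroup α)) ≃* alternatingGroup (Fin d)) := by
  have := Fact.mk hp
  set K := closure ({x, y} : Set (alternatingGroup α)) with hK
  set G := K.map (alternatingGroup α).subtype with hG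
  have hxG : (x : Perm α) ∈ G := mem_map_of_mem _ (subset_closure (by simp))
  have hyG : (y : Perm α) ∈ G := mem_map_of_mem _ (subset_closure (by simp))
  have hx' : orderOf (x : Perm α) = p := by rw [Subgroup.orderOf_coe, hx]
  have hy' : orderOf (y : Perm α) = q := by rw [Subgroup.orderOf_coe, hy]
  have hyc : (y : Perm α).IsCycle := isCycle_of_prime_order' (hy' ▸ hq) (by omega)
  have hys := card_support_of_isCycle hyc hy'
  have hqd : q ≤ Fintype.card α := hys ▸ Finset.card_le_univ _
  have hxp : (x : Perm α) ^ p = 1 := hx' ▸ pow_orderOf_eq_one _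
  have : IsPretransitive G α := isPretransitive_of_two hp hxG hyG hxp hyc hs (by omega)
  have hP : IsPreprimitive G α := isPreprimitive_of_long_cycle hq hyc hys hyG (by omega)
  have hcG : Nat.card G = Nat.card K := card_map_of_injective (subtype_injective _)
  have h5 : 5 ≤ Fintype.card α := by omega
  have fin1 : K = ⊤ → ∃ d : ℕ, 5 ≤ d ∧ Nonempty (K ≃* alternatingGroup (Fin d)) := fun h =>
    ⟨Fintype.card α, h5, ⟨((MulEquiv.subgroupCongr h).trans topEquiv).trans
      (Fintype.equivFin α).altCongrHom⟩⟩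
  have fin2 : alternatingGroup α ≤ G → ∃ d : ℕ, 5 ≤ d ∧
      Nonempty (K ≃* alternatingGroup (Fin d)) := fun h => fin1 (by
    rw [eq_top_iff]
    intro g _
    obtain ⟨k, hk, hkg⟩ := h g.2
    exact (Subtype.ext hkg : k = g) ▸ hk)
  have : Nontrivial α := Fintype.one_lt_card_iff_nontrivial.1 (by omega)
  have hA := two_mul_nat_card_alternatingGroup (α := α)
  rw [Nat.card_perm, Nat.card_eq_fintype_card (α := α), ← K.index_mul_card] at hA
  by_cases hxc : (x : Perm α).IsCycle
  · have hxs := card_support_of_isCycle hxc hx'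
    by_cases h3 : p + 3 ≤ Fintype.card α
    · exact fin2 (jordan_prime_cycle hP hp h3 hxc hxs hxG)
    have hT := multiply_of_isCycle_prime hP hp hxc hxs hxG
    rw [show Fintype.card α - p + 1 = 3 by omega] at hT
    rcases hc with hc | ⟨rfl, rfl⟩ | ⟨rfl, rfl⟩ | ⟨rfl, rfl⟩
    · omega
    · exact fin2 (alt_le_of_card_support_le hT (by norm_num) (by omega) hxG hxc.ne_one hxs.le)
    · have h7 : Fintype.card α = 7 := by omega
      obtain ⟨k, hk, hkd⟩ := exists_dvd_card_of_multiply hT (by omega)
      rw [h7] at hk hA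
      rw [hcG] at hkd
      norm_num [Nat.factorial] at hk hA
      obtain rfl : k = 210 := by omega
      have h4 : 4 ∣ Nat.card K := four_dvd_card_closure (by rw [hx]; decide) (by rw [hy]; decide)
        (Dvd.dvd.trans (by norm_num) hkd)
      refine fin1 ?_
      by_contra hne
      have h6 := H93.S2B.le_index_alt h5 hne
      have h8 : 420 ≤ Nat.card K := Nat.le_of_dvd Nat.card_pos (by omega)
      nlinarith
    · exact fin2 (alt_le_of_eleven (by omega) hT hxG hx')
  · have h2 : 2 * p ≤ (x : Perm α).support.card := by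
      by_contra h
      exact hxc (isCycle_of_prime_order (hx' ▸ hp) (by omega))
    have h3 : (x : Perm α).support.card ≤ Fintype.card α := Finset.card_le_univ _
    by_cases h4 : q + 3 ≤ Fintype.card α
    · exact fin2 (jordan_prime_cycle hP hq h4 hyc hys hyG)
    obtain ⟨rfl, rfl⟩ : p = 3 ∧ q = 5 := by omega
    have h6 : Fintype.card α = 6 := by omega
    have hT := multiply_of_isCycle_prime hP hq hyc hys hyG
    obtain ⟨k, hk, hkd⟩ := exists_dvd_card_of_multiply hT (by omega)
    rw [h6] at hk hA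
    rw [hcG] at hkd
    norm_num [Nat.factorial] at hk hA
    obtain rfl : k = 30 := by omega
    have h4 : 4 ∣ Nat.card K := four_dvd_card_closure (by rw [hx]; decide) (by rw [hy]; decide)
      (Dvd.dvd.trans (by norm_num) hkd)
    by_cases hne : K = ⊤
    · exact fin1 hne
    have h7 := H93.S2B.le_index_alt h5 hne
    have h8 : 60 ≤ Nat.card K := Nat.le_of_dvd Nat.card_pos (by omega)
    have := H93.S2B.simple_alt h5
    exact ⟨5, le_rfl, equiv_alt5_of_index_six (by nlinarith) (by nlinarith)⟩

theorem main (m : ℕ) (hm : 5 ≤ m) :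
    ∃ p q : ℕ, p.Prime ∧ q.Prime ∧ m ≤ 2 * p ∧ p < q ∧ q ≤ m ∧
      ∀ x y : alternatingGroup (Fin m), orderOf x = p → orderOf y = q →
        ∃ d : ℕ, 5 ≤ d ∧ Nonempty (Subgroup.closure ({x, y} : Set (alternatingGroup (Fin m))) ≃*
          alternatingGroup (Fin d)) := by
  obtain ⟨p, q, hp, hq, h1, h2, h3, hc⟩ : ∃ p q : ℕ, p.Prime ∧ q.Prime ∧ m ≤ 2 * p ∧ p < q ∧
      q ≤ m ∧ ((5 ≤ q ∧ p + 3 ≤ q ∧ (m = 2 * p → q + 3 ≤ 2 * p)) ∨ (p = 3 ∧ q = 5) ∨
      (p = 5 ∧ q = 7) ∨ (p = 11 ∧ q = 13)) := by
    by_cases h : m ≤ 6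
    · exact ⟨3, 5, by norm_num, by norm_num, by omega, by omega, by omega, by omega⟩
    by_cases h : m ≤ 10
    · exact ⟨5, 7, by norm_num, by norm_num, by omega, by omega, by omega, by omega⟩
    by_cases h : m ≤ 14
    · exact ⟨7, 11, by norm_num, by norm_num, by omega, by omega, by omega, by omega⟩
    by_cases h : m ≤ 16
    · exact ⟨11, 13, by norm_num, by norm_num, by omega, by omega, by omega, by omega⟩
    obtain ⟨p, q, hp, hq, h1, h2, h3⟩ := two_primes (m := m) (by omega)
    exact ⟨p, q, hp, hq, by omega, by omega, by omega, by omega⟩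
  refine ⟨p, q, hp, hq, h1, h2, h3, fun x y hx hy => ?_⟩
  let s : Finset (Fin m) := (x : Perm (Fin m)).support ∪ (y : Perm (Fin m)).support
  obtain ⟨x', hx'⟩ := (alternatingGroup.mem_range_ofSubtype_iff s x).2 Finset.subset_union_left
  obtain ⟨y', hy'⟩ := (alternatingGroup.mem_range_ofSubtype_iff s y).2 Finset.subset_union_right
  have hinj := alternatingGroup.ofSubtype_injective (s := s)
  have hcs : Fintype.card s ≤ m := by
    simpa using Finset.card_le_univ s
  have hsupp : ∀ (z : alternatingGroup s) (a : s),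
      (a : Fin m) ∈ (alternatingGroup.ofSubtype s z : Perm (Fin m)).support →
      a ∈ (z : Perm s).support := by
    intro z a ha
    rw [mem_support] at ha ⊢
    rw [alternatingGroup.coe_ofSubtype, ofSubtype_apply_coe] at ha
    exact fun h => ha (congrArg Subtype.val h)
  obtain ⟨d, hd, ⟨e⟩⟩ := core (x := x') (y := y') hp hq
    (by rw [← orderOf_injective _ hinj, hx', hx]) (by rw [← orderOf_injective _ hinj, hy', hy])
    (fun a => (Finset.mem_union.1 a.2).imp (fun h => hsupp _ a (hx' ▸ h))
      (fun h => hsupp _ a (hy' ▸ h))) (by omega) (by omega)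
  refine ⟨d, hd, ⟨MulEquiv.trans ?_ e⟩⟩
  refine (MulEquiv.subgroupCongr ?_).trans (equivMapOfInjective _ _ hinj).symm
  rw [MonoidHom.map_closure, Set.image_pair, hx', hy']

end H3.TP
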