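import Cfsg.Agent.H3.BgS2

/-! BGS, job C2a. -/

set_option autoImplicit false
set_option linter.unusedSectionVars false

namespace H3.Bg

open Cfsg Subgroup H98 H1.Gold H85.TW H15.BG

universe u

variable {G : Type u} [Group G] [Finite G] {k K : Type} [Field k] [Field K] [Algebra k K] [Finite k]
  [Finite K] [CharP k 2] [CharP K 2] {d : Dat G k K} {P Y W T R Φ Z : Subgroup G} {a : G → k} {μ : k}
  {g s x u v c : G}

theorem cls_card (T : Subgroup G) (v : G) :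
    (cen1 v).relIndex T = {x | ∃ g ∈ T, g * v * g⁻¹ = x}.ncard := by
  let _ : MulAction T G := MulAction.compHom G ((MulAut.conj : G →* MulAut G).comp T.subtype)
  have e : MulAction.stabilizer T v = (cen1 v).subgroupOf T := Subgroup.ext fun g =>
    (mul_inv_eq_iff_eq_mul (a := (g : G) * v)).trans mc.symm
  rw [relIndex, ← e, MulAction.index_stabilizer]
  congr 1
  exact Set.ext fun x => ⟨fun ⟨g, e⟩ => ⟨g, g.2, e⟩, fun ⟨g, hg, e⟩ => ⟨⟨g, hg⟩, e⟩⟩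

theorem cls_le (hT : ∀ g ∈ T, ∃ r ∈ R, ∃ φ ∈ Φ, g = r * φ) (hΦ : Φ ≤ nor R) (hZ : Φ ≤ nor Z)
    (com : ∀ a ∈ R, ∀ b ∈ R, a * b * a⁻¹ * b⁻¹ ∈ Z) (hv : v ∈ R) (M : Subgroup Φ)
    (hM : ∀ m ∈ M, (m : G) * v * (m : G)⁻¹ * v⁻¹ ∈ Z) :
    (cen1 v).relIndex T ≤ M.index * Nat.card Z := by
  rw [cls_card, index, ← Nat.card_prod, ← Set.ncard_univ]
  refine le_trans (Set.ncard_le_ncard ?_) (Set.ncard_image_le
    (f := fun p : (Φ ⧸ M) × Z => (p.2 : G) * (p.1.out * v * (p.1.out : G)⁻¹)))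
  rintro _ ⟨g, hg, rfl⟩
  obtain ⟨r, hr, φ, hφ, rfl⟩ := hT g hg
  obtain ⟨m, hm⟩ := QuotientGroup.mk_out_eq_mul M ⟨φ, hφ⟩
  have h1 := com r hr _ (conj_mem_nor (hΦ hφ) hv)
  have h2 := conj_mem_nor (hZ hφ) (hM m m.2)
  refine ⟨(QuotientGroup.mk ⟨φ, hφ⟩, ⟨_, mul_mem h1 (inv_mem h2)⟩), trivial, ?_⟩
  simp only [hm, coe_mul]
  group

theorem two_cosets {A : Subgroup G} (hx : x ∉ A) (h : ∀ v ∈ A, ∃ g ∈ T, g * c * g⁻¹ = c * v)
    (h' : ∀ v ∈ A, ∃ g ∈ T, g * c * g⁻¹ = c * x * v) : 2 * Nat.card A ≤ (cen1 c).relIndex T := by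
  have e : ∀ b : G, ((b * ·) '' (A : Set G)).ncard = Nat.card A := fun b =>
    Set.ncard_image_of_injective _ (mul_right_injective b)
  rw [cls_card, two_mul]
  nth_rw 1 [← e c]
  rw [← e (c * x), ← Set.ncard_union_eq (Set.disjoint_left.2 (by
    rintro _ ⟨v, hv, rfl⟩ ⟨w, hw, e⟩
    simp only [mul_assoc, mul_right_inj] at e
    exact hx ((A.mul_mem_cancel_right hw).1 (e ▸ hv))))]
  refine Set.ncard_le_ncard ?_
  rintro _ (⟨v, hv, rfl⟩ | ⟨v, hv, rfl⟩)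
  exacts [h v hv, h' v hv]

theorem one_coset {A : Subgroup G} (h : ∀ v ∈ A, ∃ g ∈ T, g * c * g⁻¹ = c * v) :
    Nat.card A ≤ (cen1 c).relIndex T := by
  rw [cls_card]
  refine le_trans (Set.ncard_image_of_injective (A : Set G) (mul_right_injective c)).ge
    (Set.ncard_le_ncard ?_)
  rintro _ ⟨v, hv, rfl⟩
  exact h v hv

theorem Y_cen (n : NQ d P Y W a μ) : Y ≤ cen d.U := n.YP.trans n.sylP.le

theorem decR (n : NQ d P Y W a μ) (hx : x ∈ Y ⊔ d.U) : ∃ y ∈ Y, ∃ u ∈ d.U, x = y * u :=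
  (mem_sup_left_norm ((Y_cen n).trans (centralizer_le_normalizer _))).1 hx

theorem comR (l : Loc d) (n : NQ d P Y W a μ) : ∀ a ∈ Y ⊔ d.U, ∀ b ∈ Y ⊔ d.U,
    a * b * a⁻¹ * b⁻¹ ∈ d.Z := fun a ha b hb => by
  obtain ⟨y, hy, u, hu, rfl⟩ := decR n ha
  obtain ⟨y', hy', u', hu', rfl⟩ := decR n hb
  have := mul_mem (n.abY y hy y' hy') (l.sxU.com u hu u' hu')
  have a1 : u * y' = y' * u := Y_cen n hy' u hu
  have a2 : u * u' * u⁻¹ * y⁻¹ = y⁻¹ * (u * u' * u⁻¹) :=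
    Y_cen n (inv_mem hy) _ (mul_mem (mul_mem hu hu') (inv_mem hu))
  have a3 : u * u' * u⁻¹ * u'⁻¹ * y'⁻¹ = y'⁻¹ * (u * u' * u⁻¹ * u'⁻¹) :=
    Y_cen n (inv_mem hy') _ (l.ZU (l.sxU.com u hu u' hu'))
  convert this using 1
  calc _ = y * (u * y') * u' * u⁻¹ * y⁻¹ * u'⁻¹ * y'⁻¹ := by group
    _ = y * y' * (u * u' * u⁻¹ * y⁻¹) * u'⁻¹ * y'⁻¹ := by rw [a1]; group
    _ = y * y' * y⁻¹ * (u * u' * u⁻¹ * u'⁻¹ * y'⁻¹) := by rw [a2]; group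
    _ = _ := by rw [a3]; group

theorem T0_conj (l : UL1 d) (hg : g ∈ nor d.U) (hx : x ∈ T0 d) : g * x * g⁻¹ ∈ T0 d := by
  refine ⟨mul_mem (mul_mem hg hx.1) (inv_mem hg), fun u hu => ?_⟩
  obtain ⟨ρ, hρ⟩ := l.rho
  obtain ⟨m, -, e⟩ := hρ ⟨g, hg⟩
  have hu' := conj_mem_nor' hg hu
  have e1 := e _ (conj_mem_nor hx.1 hu')
  have e2 := e _ hu'
  rw [hx.2 _ hu', ← e2] at e1
  convert e1 using 2 <;> simp only [mul_assoc, mul_inv_rev, inv_inv, mul_inv_cancel_left,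
    mul_inv_cancel, mul_one]

theorem R_le_T0 (l : Loc d) (n : NQ d P Y W a μ) : Y ⊔ d.U ≤ T0 d :=
  sup_le ((Y_cen n).trans cen_le_T0) (U_le_T0 l.toUD)

theorem star (l : Loc d) (n : TC d P Y W a μ Φ)
    (hP : ∀ s ∈ Y ⊔ d.U ⊔ Φ, IsConj d.t s → s ∈ P) {f : G} (hf : f ∈ Φ) (ff : f * f = 1) (f1 : f ≠ 1)
    (ft : f ≠ d.t) (h2 : g * d.t * g⁻¹ ∈ Y ⊔ d.U ⊔ Φ) :
    g * f * g⁻¹ ∉ T0 d := fun h0 => by
  obtain ⟨g', hg', e⟩ := (n.clsP _ (hP _ h2 (isConj_conj _ _)) (isConj_conj _ _)).2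
  have hx : g'⁻¹ * g ∈ cen1 d.t := mc.2 (by
    rw [show g'⁻¹ * g * d.t = g'⁻¹ * (g * d.t * g⁻¹) * g by group, ← e]; group)
  have h3 : g'⁻¹ * g * f * (g'⁻¹ * g)⁻¹ ∈ T0 d := by
    have := T0_conj l.toUL1 (inv_mem hg') h0
    convert this using 1
    group
  generalize g'⁻¹ * g = x at hx h3
  have key : ∀ φ ∈ Φ, x * φ * x⁻¹ ∈ d.Z → φ = 1 := fun φ hφ hz => by
    have := l.nr _ (inv_mem hx) _ (l.ZU hz)
    rw [show x⁻¹ * (x * φ * x⁻¹) * x⁻¹⁻¹ = φ by group] at this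
    exact n.disj φ hφ (this (n.leC hφ).2)
  rcases l.invS _ (mul_mem (mul_mem hx (n.leC hf).1) (inv_mem hx)) h3.1
    (by rw [conj_mul, ff, mul_one, mul_inv_cancel]) with z | z | ⟨y, r⟩
  · exact f1 (key f hf z)
  · refine ft ?_
    have := key _ (mul_mem n.tΦ hf) (by rwa [← mul_assoc, mc.1 hx, mul_assoc d.t, mul_assoc d.t])
    rw [eq_inv_of_mul_eq_one_right this, inv_eq_of_mul_eq_one_right l.tt]
  · exact not_tr l.toUD r h3.2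

/-- the stabiliser of the coset `v Z` -/
def stabZ (v : G) (hZ : Φ ≤ nor Z) : Subgroup Φ where
  carrier := {m | (m : G) * v * (m : G)⁻¹ * v⁻¹ ∈ Z}
  one_mem' := by simp
  mul_mem' := fun {a b} ha hb => by
    have := mul_mem (conj_mem_nor (hZ a.2) hb) ha
    simp only [Set.mem_ofPred_eq, coe_mul]
    convert this using 1
    group
  inv_mem' := fun {a} ha => by
    have := conj_mem_nor' (hZ a.2) (inv_mem ha)
    simp only [Set.mem_ofPred_eq, coe_inv]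
    convert this using 1
    group

theorem cls_le2 (hT : ∀ g ∈ T, ∃ r ∈ R, ∃ φ ∈ Φ, g = r * φ) (hΦ : Φ ≤ nor R) (hZ : Φ ≤ nor Z)
    (com : ∀ a ∈ R, ∀ b ∈ R, a * b * a⁻¹ * b⁻¹ ∈ Z) (hv : v ∈ R) (hx : x ∈ Φ) (x1 : x ≠ 1)
    (e : x * v * x⁻¹ * v⁻¹ ∈ Z) : 2 * (cen1 v).relIndex T ≤ Nat.card Φ * Nat.card Z := by
  have h1 := cls_le hT hΦ hZ com hv (stabZ v hZ) fun m hm => hm
  have h2 : 1 < Nat.card (stabZ v hZ) := (one_lt_card_iff_ne_bot _).2 fun b =>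
    x1 (by
      have : (⟨x, hx⟩ : Φ) ∈ stabZ v hZ := e
      rw [b, mem_bot] at this
      exact congrArg Subtype.val this)
  rw [← card_mul_index (stabZ v hZ), mul_assoc]
  exact Nat.mul_le_mul h2 h1

theorem jobC2a : JobC2a.{u} := by
  intro TL G _ _ k K _ _ _ _ _ _ _ d P Y W a μ Φ l n hT hP
  have q := n.toNQ
  have ΦY : Φ ≤ nor Y := fun φ hφ => (n.norY φ (n.leC hφ).2 (n.le hφ)).1
  have ΦU : Φ ≤ nor d.U := n.leC.trans inf_le_right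
  have ΦR : Φ ≤ nor (Y ⊔ d.U) := le_normalizer_sup ΦY ΦU
  have ΦZ : Φ ≤ nor d.Z := fun φ hφ => l.toUD.mem_nor_Z (ΦU hφ)
  have TR : Y ⊔ d.U ⊔ Φ ≤ nor (Y ⊔ d.U) := sup_le le_normalizer ΦR
  have TY : Y ⊔ d.U ⊔ Φ ≤ nor Y := sup_le (sup_le le_normalizer
    ((le_centralizer_iff.1 (Y_cen q)).trans (centralizer_le_normalizer _))) ΦY
  have dec : ∀ g ∈ Y ⊔ d.U ⊔ Φ, ∃ r ∈ Y ⊔ d.U, ∃ φ ∈ Φ, g = r * φ := fun g hg =>
    (mem_sup_right_norm ΦR).1 hg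
  have h8 : ∀ s ∈ Y ⊔ d.U ⊔ Φ, IsConj d.t s → d.t * s ∈ Y ⊔ d.U := fun s hs e =>
    mem_sup_left ((n.idx s (hP s hs e)).resolve_left (n.clsP s (hP s hs e) e).1)
  refine TL G d.t _ _ Φ hT rfl TR n.comm n.disjR n.tΦ l.tt n.cyc (sup_le n.YX l.UX) h8
    fun f hf ff f1 v hv e => ?_
  by_cases ft : f = d.t
  · subst ft
    exact f1 (n.disjR _ hf ((mul_mem_cancel_right hv).1 (h8 v (mem_sup_left hv) e)))
  have tf : zpowers d.t ≤ cen1 f := zpowers_le.2 (mc.2 (mc.1 (n.leC hf).1).symm)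
  obtain ⟨g, c1, c2, c3⟩ := ex_ext hT ff tf (two_zpowers l.tt)
  have c4 := star l n hP hf ff f1 ft (c2 (conj_mem_cj_iff.2 (mem_zpowers _)))
  have cf := isConj_conj g f
  generalize g * f * g⁻¹ = c at c1 c3 c4 cf
  have cc := IsConj.sq_one cf ff
  have cN := n.sylT.le c1
  obtain ⟨y, r⟩ := (trich' l.toUL cN ⟨1, by rw [pow_one, sq, cc]⟩ (cc ▸ one_mem _)).resolve_left c4
  have cl := l.cls c y r cc
  have UT : d.U ≤ Y ⊔ d.U ⊔ Φ := le_sup_right.trans le_sup_left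
  have b1 := one_coset (T := Y ⊔ d.U ⊔ Φ) fun v hv => let ⟨u, hu, e⟩ := cl v hv; ⟨u, UT hu, e⟩
  rw [l.cardA y r.ne] at b1
  have key : ∀ v ∈ Y ⊔ d.U, IsConj f v →
      (cen1 c).relIndex (Y ⊔ d.U ⊔ Φ) < (cen1 v).relIndex (Y ⊔ d.U ⊔ Φ) := fun v hv e => by
    by_contra! b
    obtain ⟨h, rfl⟩ := isConj_iff.1 (cf.symm.trans e)
    have s1 := c3.cj h
    rw [H15.BG.cj_cen1] at s1
    obtain ⟨g1, e1⟩ := isConj_iff.1 e
    generalize h * c * h⁻¹ = v at *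
    have s2 : IsSyl 2 ((Y ⊔ d.U ⊔ Φ) ⊓ cen1 v) (cen1 v) := by
      refine s1.of_card_ge (hT.2.1.to_inf_left) inf_le_right ?_
      have a1 := card_rel' (cen1 v) (Y ⊔ d.U ⊔ Φ)
      have a2 := card_rel' (cen1 c) (Y ⊔ d.U ⊔ Φ)
      rw [inf_relIndex_left] at a1 a2
      rw [card_cj]
      by_contra! lt
      have := Nat.mul_lt_mul_of_lt_of_le lt b (Nat.pos_of_ne_zero index_ne_zero_of_finite)
      omega
    obtain ⟨x, hx, s3⟩ := s2.exists_cj_le (Q := cj g1 (zpowers d.t)) ((two_zpowers l.tt).map _)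
      (e1 ▸ H15.BG.cj_cen1 g1 f ▸ cj_mono g1 tf)
    have e2 : x * g1 * f * (x * g1)⁻¹ = v := by
      rw [show x * g1 * f * (x * g1)⁻¹ = x * (g1 * f * g1⁻¹) * x⁻¹ by group, e1, mc.1 hx,
        mul_inv_cancel_right]
    rw [cj_cj] at s3
    exact star l n hP hf ff f1 ft (g := x * g1)
      (s3 (conj_mem_cj_iff.2 (mem_zpowers _))).1 (e2 ▸ R_le_T0 l q hv)
  have b2 := cls_le dec ΦR ΦZ (comR l q) hv ⊥ fun m hm => by
    rw [mem_bot.1 hm]; simp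
  have b3 := key v hv e
  rw [index_bot, l.cardZ] at b2
  obtain ⟨b4, b5 | b5⟩ := n.card
  · have := Nat.mul_le_mul_right (Nat.card k) b5
    rw [← sq] at this
    omega
  by_cases hc : ∀ y0 ∈ Y, c⁻¹ * y0 * c * y0⁻¹ ∈ d.Z
  · obtain ⟨y1, hy1, u1, hu1, rfl⟩ := decR q hv
    obtain ⟨h, h1, h2, h3⟩ : ∃ h, h ∈ nor Y ∧ h ∈ nor d.U ∧ h * u1 * h⁻¹ ∈ d.A y := by
      by_cases z : d.π u1 = 0
      · exact ⟨1, one_mem _, one_mem _, by simpa using Z_le_A l.toUD y ((l.ker u1 hu1).1 z)⟩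
      obtain ⟨m, m0, hm⟩ := l.all4 b5 (y / d.π u1) (div_ne_zero r.ne z)
      obtain ⟨h, o, -, h1⟩ := n.hh m m0
      exact ⟨h, h1, o.nor, l.toUD.mem_A.2 ⟨conj_mem_nor o.nor hu1, 1, by
        rw [o.act u1 hu1, hm, div_mul_cancel₀ _ z, one_smul]⟩⟩
    have e' := e.trans (isConj_conj h _)
    rw [← conj_mul] at e'
    replace hy1 := conj_mem_nor h1 hy1
    generalize h * y1 * h⁻¹ = y2 at e' hy1
    generalize h * u1 * h⁻¹ = u2 at e' h3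
    have hu2 := (l.toUD.mem_A.1 h3).1
    have hv' : y2 * u2 ∈ Y ⊔ d.U := mul_mem_sup hy1 hu2
    obtain ⟨r0, hr0, φ, hφ, eφ⟩ := dec c c1
    have ci : c⁻¹ = c := inv_eq_of_mul_eq_one_right cc
    have z1 : c * (y2 * u2) * c⁻¹ * (y2 * u2)⁻¹ ∈ d.Z := by
      have a1 := hc y2 hy1
      have a2 := l.inv c y r (cc ▸ one_mem _) u2 h3
      have a3 := inv_mem (l.sxU.sq u2 hu2)
      have a4 := conj_mem_nor (centralizer_le_normalizer _ (centralizer_anti l.ZU (Y_cen q hy1))) a3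
      have := mul_mem a1 a4
      convert this using 1
      rw [← conj_mul, a2, ci]
      group
    have z2 : φ * (y2 * u2) * φ⁻¹ * (y2 * u2)⁻¹ ∈ d.Z := by
      have a1 := comR l q _ (inv_mem hr0) _ hv'
      have a2 := conj_mem_nor' (l.toUD.mem_nor_Z (R_le_T0 l q hr0).1) z1
      have := mul_mem a2 a1
      convert this using 1
      rw [eφ]
      group
    have b6 := cls_le2 dec ΦR ΦZ (comR l q) hv' hφ (fun z => c4 (by
      rw [eφ, z, mul_one]; exact R_le_T0 l q hr0)) z2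
    have b7 := key _ hv' e'
    have := Nat.mul_le_mul_right (Nat.card k) b4
    rw [l.cardZ] at b6
    rw [mul_assoc, ← sq] at this
    omega
  push Not at hc
  obtain ⟨y0, hy0, hc⟩ := hc
  have x1 : c⁻¹ * y0 * c * y0⁻¹ ∈ Y := mul_mem (conj_mem_nor' (TY c1) hy0) (inv_mem hy0)
  have b6 := two_cosets (T := Y ⊔ d.U ⊔ Φ) (c := c) (A := d.A y) (x := c⁻¹ * y0 * c * y0⁻¹)
    (fun z => hc (mem_Z_of_cen l.toUD (l.toUD.mem_A.1 z).1 (Y_cen q x1)))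
    (fun v hv => let ⟨u, hu, e⟩ := cl v hv; ⟨u, UT hu, e⟩) fun v hv => by
      obtain ⟨u, hu, e⟩ := cl v hv
      refine ⟨y0 * u, mem_sup_left (mul_mem_sup hy0 hu), ?_⟩
      rw [show y0 * u * c * (y0 * u)⁻¹ = y0 * (u * c * u⁻¹) * y0⁻¹ by group, e, mul_assoc y0,
        mul_assoc c, Y_cen q (inv_mem hy0) v (l.toUD.mem_A.1 hv).1]
      group
  have := Nat.mul_le_mul_right (Nat.card k) b4
  rw [l.cardA y r.ne] at b6
  rw [mul_assoc, ← sq] at this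
  omega

end H3.Bg
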