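import Cfsg.Agent.H20.DGSpec

/-! Slot `F3` of the tower DG (S3579): an orbit of length `p + 1` of a two-point stabiliser. -/

set_option autoImplicit false

namespace H3.DGF3

open Subgroup MulAction Cfsg H98 H20.DG

universe u v

theorem jobF3 : JobF3.{u, v} := by
  intro G Ω _ _ _ _ p q A O hy hl ff f2
  classical
  have : Fact p.Prime := ⟨hy.pp⟩
  have := Fintype.ofFinite Ω
  have p5 := hy.five hl
  obtain ⟨a, b, ha, hb, ab⟩ := (Set.one_lt_ncard_iff (s := Oᶜ)).1 (by rw [ff.cardD]; omega)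
  have ha : a ∉ O := ha
  have hb : b ∉ O := hb
  generalize hH : stabilizer G a ⊓ stabilizer G b = H
  have mH : ∀ g, g ∈ H ↔ g • a = a ∧ g • b = b := fun g => by
    rw [← hH, mem_inf, mem_stabilizer_iff, mem_stabilizer_iff]
  have AH : A ≤ H := hH ▸ le_inf ((ff.fix a).2 ha) ((ff.fix b).2 hb)
  have pA : IsPGroup p A := (ff.sylA a ha).isPGroup
  have out : ∀ c, c ∉ O → ∀ h ∈ H, h • c ∉ O → h • c = c := fun c hc h hh hc' => by
    have s := (ff.sylA _ hc').of_le (le_inf AH ((ff.fix _).2 hc')) inf_le_right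
    obtain ⟨k, hk, e⟩ := s.exists_cj_le (isPGroup_cj h pA) (le_inf (cj_le_of_le_of_mem AH hh)
      (cj_stab h c ▸ cj_mono h ((ff.fix c).2 hc)))
    rw [cj_cj] at e
    have m := (mH _).1 (mul_mem (mem_inf.1 hk).1 hh)
    have e1 : (k * h) • c = c :=
      (ff.fix c).2 hc (ff.sharp a b ha hb ab _ (mem_normalizer_of_cj_le e) m.1 m.2)
    rwa [mul_smul, mem_stabilizer_iff.1 (mem_inf.1 hk).2] at e1
  have orb : ∀ ω ∈ O, (Ob A ω).ncard = p := fun ω hω => by
    rw [ncard_Ob]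
    have d : (stabilizer G ω).relIndex A ∣ p := ff.cardA ▸ relIndex_dvd_card _ _
    exact ((Nat.dvd_prime hy.pp).1 d).resolve_left fun e =>
      (ff.fix ω).1 (relIndex_eq_one.1 e) hω
  have sub : ∀ c, c ∉ O → Ob H c \ {c} ⊆ O := by
    rintro c hc _ ⟨⟨h, hh, rfl⟩, ne⟩
    by_contra e
    exact ne (out c hc h hh e)
  have inv : ∀ c, c ∉ O → ∀ ω ∈ Ob H c \ {c}, Ob A ω ⊆ Ob H c \ {c} := by
    rintro c hc _ ⟨⟨h, hh, rfl⟩, ne⟩ _ ⟨g, hg, rfl⟩
    refine ⟨⟨g * h, mul_mem (AH hg) hh, mul_smul g h c⟩, fun e => ne ?_⟩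
    have e1 : g • c = c := (ff.fix c).2 hc hg
    exact MulAction.injective g ((Set.mem_singleton_iff.1 e).trans e1.symm)
  have key : ∃ c, c ∉ O ∧ ∃ ω ∈ O, Ob H c \ {c} = Ob A ω := by
    by_contra hn
    have big : ∀ c, c ∉ O → a ≠ c → b ≠ c → 2 * p ≤ (Ob H c \ {c}).ncard := fun c hc ac bc => by
      obtain ⟨h, h1, h2, h3⟩ := f2 a b c ha hb hc ab ac bc
      have m : h • c ∈ Ob H c \ {c} := ⟨⟨h, (mH h).2 ⟨h1, h2⟩, rfl⟩, h3⟩
      have ne : ¬ Ob H c \ {c} ⊆ Ob A (h • c) := fun e =>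
        hn ⟨c, hc, _, sub c hc m, e.antisymm (inv c hc _ m)⟩
      obtain ⟨ω, m', n'⟩ := Set.not_subset.1 ne
      have dj : Disjoint (Ob A (h • c)) (Ob A ω) := Set.disjoint_left.2 fun x hx hx' => n' (by
        rw [(isOr_Ob A _).eq_Ob hx, ← (isOr_Ob A _).eq_Ob hx']
        exact ⟨1, one_mem _, one_smul _ _⟩)
      have := Set.ncard_le_ncard (Set.union_subset (inv c hc _ m) (inv c hc _ m'))
      rwa [Set.ncard_union_eq dj, orb _ (sub c hc m), orb _ (sub c hc m'), ← two_mul] at this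
    let T : Finset Ω := ((Oᶜ.toFinset).erase a).erase b
    have mT : ∀ c ∈ T, c ∉ O ∧ a ≠ c ∧ b ≠ c := fun c hc => by
      simp only [T, Finset.mem_erase, Set.mem_toFinset, Set.mem_compl_iff] at hc
      exact ⟨hc.2.2, hc.2.1.symm, hc.1.symm⟩
    have cT : T.card = p - 1 - 1 := by
      rw [Finset.card_erase_of_mem (by simpa using ⟨ab.symm, hb⟩),
        Finset.card_erase_of_mem (by simpa using ha), ← Set.ncard_eq_toFinset_card', ff.cardD]
    have dj : (T : Set Ω).PairwiseDisjoint fun c => (Ob H c \ {c}).toFinset := by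
      intro c hc c' hc' ne
      refine Finset.disjoint_left.2 fun x hx hx' => ne ?_
      rw [Set.mem_toFinset] at hx hx'
      have : c ∈ Ob H c' := by
        rw [(isOr_Ob H _).eq_Ob hx'.1, ← (isOr_Ob H _).eq_Ob hx.1]
        exact ⟨1, one_mem _, one_smul _ _⟩
      obtain ⟨h, hh, e⟩ := this
      exact e.symm.trans (out c' (mT c' hc').1 h hh (e ▸ (mT c hc).1))
    have h1 := Finset.card_biUnion dj
    have h2 : (T.biUnion fun c => (Ob H c \ {c}).toFinset) ⊆ O.toFinset :=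
      Finset.biUnion_subset.2 fun c hc => Set.toFinset_subset_toFinset.2 (sub c (mT c hc).1)
    have h3 := Finset.card_le_card h2
    have h4 := Finset.card_nsmul_le_sum T (fun c => (Ob H c \ {c}).toFinset.card) (2 * p)
      fun c hc => by
        rw [← Set.ncard_eq_toFinset_card']
        exact big c (mT c hc).1 (mT c hc).2.1 (mT c hc).2.2
    rw [h1, ← Set.ncard_eq_toFinset_card', ff.cardO] at h3
    rw [cT, smul_eq_mul] at h4
    have h5 := h4.trans h3
    obtain ⟨k, rfl⟩ : ∃ k, p = k + 5 := ⟨p - 5, by omega⟩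
    rw [show k + 5 - 1 - 1 = k + 3 by omega] at h5
    nlinarith
  obtain ⟨c, hc, ω, hω, e⟩ := key
  have cm : c ∈ Ob H c := ⟨1, one_mem _, one_smul _ _⟩
  refine ⟨a, b, c, Ob H c, ha, hb, ab, hc, cm, hH ▸ isOr_Ob H c, ?_, e ▸ isOr_Ob A ω⟩
  rw [← Set.ncard_sdiff_singleton_add_one cm, e, orb ω hω]

end H3.DGF3
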