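/- EA tower (S4546, S4577), slot GD: the coprime decomposition of an abelian `2`-group. -/
import Cfsg.Agent.H68.EaSpec

set_option autoImplicit false

namespace H3.EA

open H68.EA Subgroup

universe u

theorem dec {P : Type u} [CommGroup P] [Finite P] (I : Subgroup (MulAut P)) (hP : IsPGroup 2 P)
    (hI : Odd (Nat.card I)) : ∃ Z V, Dec I Z V := by
  have := Fintype.ofFinite I
  let N : P →* P :=
    { toFun := fun x => ∏ a : I, a.1 x
      map_one' := by simp
      map_mul' := fun x y => by simp [Finset.prod_mul_distrib] }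
  let Z : Subgroup P :=
    { carrier := {x | ∀ α ∈ I, α x = x}
      one_mem' := fun α _ => map_one α
      mul_mem' := fun {x y} hx hy α h => by rw [map_mul, hx α h, hy α h]
      inv_mem' := fun {x} hx α h => by rw [map_inv, hx α h] }
  have h1 : ∀ α ∈ I, ∀ x, N (α x) = N x := fun α h x =>
    Fintype.prod_equiv (Equiv.mulRight (⟨α, h⟩ : I)) _ _ fun _ => rfl
  have h2 : ∀ x, N x ∈ Z := fun x α h => by
    change α (∏ a : I, a.1 x) = ∏ a : I, a.1 x
    rw [map_prod]
    exact Fintype.prod_equiv (Equiv.mulLeft (⟨α, h⟩ : I)) _ _ fun _ => rfl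
  have h3 : ∀ x ∈ Z, N x = x ^ Nat.card I := fun x hx => by
    change ∏ a : I, a.1 x = _
    rw [Finset.prod_congr rfl fun a _ => hx a.1 a.2, Finset.prod_const, Nat.card_eq_fintype_card,
      Finset.card_univ]
  have h4 := (hP.powEquiv (Nat.coprime_two_left.2 hI)).bijective
  refine ⟨Z, N.ker, fun _ => Iff.rfl, fun α h x => ?_, eq_bot_iff.2 fun x hx => ?_,
    eq_top_iff.2 fun y _ => ?_⟩
  · rw [MonoidHom.mem_ker, map_mul, map_inv, h1 α h, mul_inv_cancel]
  · exact h4.1 (((h3 x hx.1).symm.trans hx.2).trans (one_pow _).symm)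
  · obtain ⟨x, rfl⟩ := h4.2 y
    refine mem_sup.2 ⟨N x, h2 x, (N x)⁻¹ * x ^ Nat.card I, ?_, mul_inv_cancel_left _ _⟩
    rw [MonoidHom.mem_ker, map_mul, map_inv, map_pow, h3 _ (h2 x), inv_mul_cancel]

theorem jobGD : JobGD.{u} := fun P G _ I hc hP hI =>
  @dec P { G with mul_comm := hc } _ I hP hI

end H3.EA
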