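import Cfsg.Agent.H14.FEKit

/-! Slot `Od` of the tower FE (S1308): the image of a point geometry has no normal subgroup of
odd order. -/

set_option autoImplicit false

namespace H3.FEOd

open Cfsg Subgroup MulAction H14 H98 H1.Gold H31.S2 H14.GC H14.FE

universe u

theorem jobOd : H14.FE.JobOd.{u} := by
  intro X _ _ J Ω _ _ _ _ pt B β h Y _ hn ho
  have key : ∀ j, Y ≤ stabilizer (Equiv.Perm Ω) (pt j) := fun j => by
    obtain ⟨s, hs, t, ht, s2, t2, st, c⟩ := (h.big j).four h.bt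
    have ts := t2.mul s2 st.symm c.symm
    have n1 : ∀ x ∈ B j, H14.GC.Inv x → toPermHom X Ω x ≠ 1 := fun x hx h2 e =>
      h.not_triv hx h2 (triv_iff.2 e)
    have s2' := s2.map (toPermHom X Ω) (n1 s hs s2)
    have t2' := t2.map (toPermHom X Ω) (n1 t ht t2)
    have c' : toPermHom X Ω s * toPermHom X Ω t = toPermHom X Ω t * toPermHom X Ω s := by
      rw [← map_mul, c, map_mul]
    have ne : toPermHom X Ω t ≠ toPermHom X Ω s := fun e =>
      n1 _ (mul_mem ht hs) ts (by rw [map_mul, e, s2'.2])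
    have e4 := H48.e4_four s2'.2 t2'.2 c' s2'.1 t2'.1 ne
    have fx : ∀ x ∈ B j, H14.GC.Inv x →
        Y ⊓ cen1 (toPermHom X Ω x) ≤ stabilizer (Equiv.Perm Ω) (pt j) := fun x hx h2 y hy => by
      refine h.fix j x hx h2 _ ?_
      have := congrArg (fun f : Equiv.Perm Ω => f (pt j)) (mem_cen1.1 (mem_inf.1 hy).2)
      simp only [Equiv.Perm.coe_mul, Function.comp_apply, toPermHom_apply, toPerm_apply,
        show x • pt j = pt j from h.B_le_stab rfl hx] at this
      exact this.symm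
    refine OI.le_of_cen1 ⟨ho, H48.four_le (hn ⟨s, rfl⟩) (hn ⟨t, rfl⟩)⟩ (H85.e2_iff.1 e4.1) e4.2
      fun a ha a1 => ?_
    rcases (H48.mem_four s2'.2 t2'.2 c').1 ha with e | e | e | e
    · exact (a1 e).elim
    · exact e ▸ fx s hs s2
    · exact e ▸ fx t ht t2
    · rw [e, ← map_mul]; exact fx _ (mul_mem ht hs) ts
  refine eq_bot_iff.2 fun y hy => mem_bot.2 (Equiv.ext fun a => ?_)
  obtain ⟨j, rfl⟩ := h.surj a
  exact key j hy

end H3.FEOd
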