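import Cfsg.Agent.H73.GSSpec

/-! Slot `LF` of chapter C4, part II (S3275): lifting 3-groups through `H → H / O₂(H)`. -/

set_option autoImplicit false

namespace H3.GSLF

open Subgroup Cfsg H98 H48.DP H98.DP0C

universe u

theorem job : H73.GS.LF.{u} := by
  intro G X _ _ _ _ H π hπ
  have : Fact (Nat.Prime 3) := ⟨Nat.prime_three⟩
  have inj : ∀ (S : Subgroup G) (a b : H), IsPGroup 3 S → (a : G) ∈ S → (b : G) ∈ S → π a = π b →
      a = b := fun S a b hS ha hb e => by
    have h1 : a * b⁻¹ ∈ π.ker := by rw [MonoidHom.mem_ker, map_mul, map_inv, e, mul_inv_cancel]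
    rw [hπ.ker, mem_subgroupOf] at h1
    have h2 := IsPGroup.disjoint_of_ne 3 2 (by decide) S (O2 H) hS (isPGroup_pCoreOf H)
    have h3 : ((a * b⁻¹ : H) : G) = 1 := disjoint_def.1 h2 (mul_mem ha (inv_mem hb)) h1
    exact mul_inv_eq_one.1 (Subtype.ext h3)
  refine ⟨fun A R hA pA pR hl => ?_, inj, fun a b ha hb e => ?_⟩
  · obtain ⟨S, hS, hAS⟩ := exists_isSyl_le (isPGroup_subgroupOf pA H) (map_le_iff_le_comap.1 hl)
    have h1 := hS.map π
    rw [map_comap_eq_self_of_surjective hπ.surj] at h1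
    refine ⟨S.map H.subtype, map_subtype_le S, hS.isPGroup.map _, ?_, ?_⟩
    · rw [← map_subgroupOf_eq_of_le hA]
      exact map_mono hAS
    · rw [bar, subgroupOf, comap_map_eq_self_of_injective H.subtype_injective]
      exact h1.eq_of_isPGroup pR
  · have k : ∀ c : H, orderOf (c : G) = 3 → IsPGroup 3 (zpowers c) := fun c hc =>
      isPGroup_zpowers (k := 1) (by
        rw [pow_one, ← hc, orderOf_coe]; exact pow_orderOf_eq_one c)
    have la : zpowers a ≤ (zpowers (π a)).comap π := zpowers_le.2 (mem_zpowers (π a))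
    have lb : zpowers b ≤ (zpowers (π a)).comap π := zpowers_le.2 (e ▸ mem_zpowers (π b))
    obtain ⟨S, hS, hbS⟩ := exists_isSyl_le (k b hb) lb
    obtain ⟨g, hg, hl⟩ := hS.exists_cj_le (k a ha) la
    obtain ⟨n, hn⟩ := mem_zpowers_iff.1 (mem_comap.1 hg)
    have h1 : g * a * g⁻¹ = b := inj (S.map H.subtype) _ _ (hS.isPGroup.map _)
      ⟨_, hl (conj_mem_cj (mem_zpowers a)), rfl⟩ ⟨_, hbS (mem_zpowers b), rfl⟩ (by
        rw [map_mul, map_mul, map_inv, ← hn, ← e]; group)
    exact isConj_iff.2 ⟨g, congrArg Subtype.val h1⟩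

end H3.GSLF
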