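import Cfsg.Agent.H3.HSL2
set_option maxRecDepth 1000000
set_option Elab.async false
namespace H3.HSM
open H71
noncomputable def np_0 : ℕ := 0xfa804fe786e7e
noncomputable def np_1 : ℕ := 0xa8a4e820000000dc07246
noncomputable def np_2 : ℕ := 0x5760002b8000011560002880
noncomputable def np_3 : ℕ := 0xe0044004801a0010000006004c
noncomputable def np_4 : ℕ := 0xa10100001000406100860808003
noncomputable def np_5 : ℕ := 0x2000800040001220080100440800
noncomputable def np_6 : ℕ := 0x2214804084409428102902240a10
noncomputable def np_7 : ℕ := 0x24440032240190260c8000644813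
noncomputable def np_8 : ℕ := 0xa14082081c0860a140850a14302
noncomputable def np_9 : ℕ := 0x1a4006012c015004002f0140079
noncomputable def np_10 : ℕ := 0xe170003d970001945000285e
noncomputable def np_11 : ℕ := 0xaf265e000000007c41463
noncomputable def np_12 : ℕ := 0xfa008a58baef3
noncomputable def np : Net := .cons 56 np_0 <| .cons 28 np_1 <| .cons 14 np_2 <| .cons 7 np_3 <| .cons 4 np_4 <| .cons 2 np_5 <| .cons 1 np_6 <| .cons 2 np_7 <| .cons 4 np_8 <| .cons 7 np_9 <| .cons 14 np_10 <| .cons 28 np_11 <| .cons 56 np_12 <| .nil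
theorem vnp : Net.valid 112 np = true := by decide +kernel
noncomputable def nq_0 : ℕ := 0x1bd73e931ea20
noncomputable def nq_1 : ℕ := 0xa9983280000000012eacc
noncomputable def nq_2 : ℕ := 0x1d58000139c0002f160001016
noncomputable def nq_3 : ℕ := 0x2001401a004000380040008000
noncomputable def nq_4 : ℕ := 0x4002040000302180000808004
noncomputable def nq_5 : ℕ := 0x408010200000024401020008800
noncomputable def nq_6 : ℕ := 0x2844015285089022500940810894
noncomputable def nq_7 : ℕ := 0x204c083240c1120244802000c882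
noncomputable def nq_8 : ℕ := 0xc00002080c1800a1c0010e08001
noncomputable def nq_9 : ℕ := 0xf80140108072010802c000c02c
noncomputable def nq_10 : ℕ := 0x355400006a80002f560001292
noncomputable def nq_11 : ℕ := 0xa88dea40000000432c6ed
noncomputable def nq_12 : ℕ := 0x1b7844bd5e271
noncomputable def nq : Net := .cons 56 nq_0 <| .cons 28 nq_1 <| .cons 14 nq_2 <| .cons 7 nq_3 <| .cons 4 nq_4 <| .cons 2 nq_5 <| .cons 1 nq_6 <| .cons 2 nq_7 <| .cons 4 nq_8 <| .cons 7 nq_9 <| .cons 14 nq_10 <| .cons 28 nq_11 <| .cons 56 nq_12 <| .nil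
theorem vnq : Net.valid 112 nq = true := by decide +kernel
noncomputable def nr_0 : ℕ := 0xe0f21842f03aae
noncomputable def nr_1 : ℕ := 0xbf1352000000001117fe8
noncomputable def nr_2 : ℕ := 0x33800000d100000ea00000660
noncomputable def nr_3 : ℕ := 0x1e8014001004801c004a01a800c
noncomputable def nr_4 : ℕ := 0x4103070c0c0020a001040014387
noncomputable def nr_5 : ℕ := 0x8810040810000008020000900
noncomputable def nr_6 : ℕ := 0xa04a95080408128048810814890
noncomputable def nr_7 : ℕ := 0x220c810240090104049100208803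
noncomputable def nr_8 : ℕ := 0xe1c385040020506042000818200
noncomputable def nr_9 : ℕ := 0x1d005000f803801d000f01a407e
noncomputable def nr_10 : ℕ := 0x1d9f00025330000aa60002161
noncomputable def nr_11 : ℕ := 0x9f4cd4200000000716961
noncomputable def nr_12 : ℕ := 0xe0fd56044ebeea
noncomputable def nr : Net := .cons 56 nr_0 <| .cons 28 nr_1 <| .cons 14 nr_2 <| .cons 7 nr_3 <| .cons 4 nr_4 <| .cons 2 nr_5 <| .cons 1 nr_6 <| .cons 2 nr_7 <| .cons 4 nr_8 <| .cons 7 nr_9 <| .cons 14 nr_10 <| .cons 28 nr_11 <| .cons 56 nr_12 <| .nil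
theorem vnr : Net.valid 112 nr = true := by decide +kernel
noncomputable def ns_0 : ℕ := 0x7aba861c16eaea
noncomputable def ns_1 : ℕ := 0x7247eea00000000489254
noncomputable def ns_2 : ℕ := 0x31a20003bd200027e00001524
noncomputable def ns_3 : ℕ := 0x1d806801000440100070012000a
noncomputable def ns_4 : ℕ := 0xc0c101041c3840c101020810084
noncomputable def ns_5 : ℕ := 0x2040000244801024080020408800
noncomputable def ns_6 : ℕ := 0x2044201284429122108112250a80
noncomputable def ns_7 : ℕ := 0xc983224c111260c8012008092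
noncomputable def ns_8 : ℕ := 0xa003020c142820c140020210284
noncomputable def ns_9 : ℕ := 0x158050003c001010807001ec01a
noncomputable def ns_10 : ℕ := 0x29a6000079600026a100036e0
noncomputable def ns_11 : ℕ := 0x62cbbb6000000084c6148
noncomputable def ns_12 : ℕ := 0x7ab6599af532b6
noncomputable def ns : Net := .cons 56 ns_0 <| .cons 28 ns_1 <| .cons 14 ns_2 <| .cons 7 ns_3 <| .cons 4 ns_4 <| .cons 2 ns_5 <| .cons 1 ns_6 <| .cons 2 ns_7 <| .cons 4 ns_8 <| .cons 7 ns_9 <| .cons 14 ns_10 <| .cons 28 ns_11 <| .cons 56 ns_12 <| .nil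
theorem vns : Net.valid 112 ns = true := by decide +kernel
noncomputable def nx_0 : ℕ := 0xa6520707a92190
noncomputable def nx_1 : ℕ := 0xb2ab7c800000008894120
noncomputable def nx_2 : ℕ := 0x20d8000024a00006c20001b0c
noncomputable def nx_3 : ℕ := 0x1e002401b806001080620140032
noncomputable def nx_4 : ℕ := 0x1400000102060810201041c106
noncomputable def nx_5 : ℕ := 0x8000000800204009002048102
noncomputable def nx_6 : ℕ := 0x20042110850a840210a142044214
noncomputable def nx_7 : ℕ := 0x2448083024809202008022240182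
noncomputable def nx_8 : ℕ := 0x604103000030104001030610384
noncomputable def nx_9 : ℕ := 0x1c402401b4030001c0020114042
noncomputable def nx_10 : ℕ := 0x28ed0003b4f00012a20001a6c
noncomputable def nx_11 : ℕ := 0x94f8d4400000008812088
noncomputable def nx_12 : ℕ := 0xa6558f131d004c
noncomputable def nx : Net := .cons 56 nx_0 <| .cons 28 nx_1 <| .cons 14 nx_2 <| .cons 7 nx_3 <| .cons 4 nx_4 <| .cons 2 nx_5 <| .cons 1 nx_6 <| .cons 2 nx_7 <| .cons 4 nx_8 <| .cons 7 nx_9 <| .cons 14 nx_10 <| .cons 28 nx_11 <| .cons 56 nx_12 <| .nil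
theorem vnx : Net.valid 112 nx = true := by decide +kernel
noncomputable def na_0 : ℕ := 0x952926f0006428
noncomputable def na_1 : ℕ := 0x8790350000000042581e0
noncomputable def na_2 : ℕ := 0x1500000236000000b00002000
noncomputable def na_3 : ℕ := 0xa002c008003000d003a0140020
noncomputable def na_4 : ℕ := 0x6100000c1010400103000408304
noncomputable def na_5 : ℕ := 0x40800040880000408102000000
noncomputable def na_6 : ℕ := 0x2054a8008448152040a152040284
noncomputable def na_7 : ℕ := 0x440813240c00102408132204980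
noncomputable def na_8 : ℕ := 0x6100050c1410600103860408306
noncomputable def na_9 : ℕ := 0xac02c008006600d003a0154020
noncomputable def na_10 : ℕ := 0x1500000333900008b00002000
noncomputable def na_11 : ℕ := 0x8790350000000042581e0
noncomputable def na_12 : ℕ := 0x952926f0006428
noncomputable def na : Net := .cons 56 na_0 <| .cons 28 na_1 <| .cons 14 na_2 <| .cons 7 na_3 <| .cons 4 na_4 <| .cons 2 na_5 <| .cons 1 na_6 <| .cons 2 na_7 <| .cons 4 na_8 <| .cons 7 na_9 <| .cons 14 na_10 <| .cons 28 na_11 <| .cons 56 na_12 <| .nil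
theorem vna : Net.valid 112 na = true := by decide +kernel
noncomputable def ny_0 : ℕ := 0x3b84a3c002c00
noncomputable def ny_1 : ℕ := 0xf43d01000000005002000
noncomputable def ny_2 : ℕ := 0x7000001300000271000014a0
noncomputable def ny_3 : ℕ := 0x18000a0088020016002001c0078
noncomputable def ny_4 : ℕ := 0x404002000c10008100840010007
noncomputable def ny_5 : ℕ := 0x110000010000000100040110
noncomputable def ny_6 : ℕ := 0x10091004020000008100844890
noncomputable def ny_7 : ℕ := 0x4400030208900200c1120004113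
noncomputable def ny_8 : ℕ := 0xe04005040c1000c10085020c007
noncomputable def ny_9 : ℕ := 0x1800010088021016002001c0078
noncomputable def ny_10 : ℕ := 0x1700000134400027100003da6
noncomputable def ny_11 : ℕ := 0xf43d01000000005002000
noncomputable def ny_12 : ℕ := 0x3b84a3c002c00
noncomputable def ny : Net := .cons 56 ny_0 <| .cons 28 ny_1 <| .cons 14 ny_2 <| .cons 7 ny_3 <| .cons 4 ny_4 <| .cons 2 ny_5 <| .cons 1 ny_6 <| .cons 2 ny_7 <| .cons 4 ny_8 <| .cons 7 ny_9 <| .cons 14 ny_10 <| .cons 28 ny_11 <| .cons 56 ny_12 <| .nil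
theorem vny : Net.valid 112 ny = true := by decide +kernel
noncomputable def nf_0 : ℕ := 0x61b6b2a56804c
noncomputable def nf_1 : ℕ := 0xe2026c0000000017e28d0
noncomputable def nf_2 : ℕ := 0x138400029840002a3c0002b90
noncomputable def nf_3 : ℕ := 0x140020004002000200420160034
noncomputable def nf_4 : ℕ := 0x8101000c1010400042000a00202
noncomputable def nf_5 : ℕ := 0x2008012004000000081002400010
noncomputable def nf_6 : ℕ := 0x2210094204400400440812244a15
noncomputable def nf_7 : ℕ := 0x2048812020411024088120208801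
noncomputable def nf_8 : ℕ := 0x8101070c0c106000c3000010204
noncomputable def nf_9 : ℕ := 0x144028006002100bc06b0188020
noncomputable def nf_10 : ℕ := 0x13040002b840003b5600029ab
noncomputable def nf_11 : ℕ := 0xe6026c0000000017e28d0
noncomputable def nf_12 : ℕ := 0x61f792a7680cc
noncomputable def nf : Net := .cons 56 nf_0 <| .cons 28 nf_1 <| .cons 14 nf_2 <| .cons 7 nf_3 <| .cons 4 nf_4 <| .cons 2 nf_5 <| .cons 1 nf_6 <| .cons 2 nf_7 <| .cons 4 nf_8 <| .cons 7 nf_9 <| .cons 14 nf_10 <| .cons 28 nf_11 <| .cons 56 nf_12 <| .nil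
theorem vnf : Net.valid 112 nf = true := by decide +kernel
noncomputable def gensN : List Net := [np, nq, nr, ns, nx]
noncomputable def invsN : List Net := [na, ny, nf]
noncomputable def A : ℕ → ℕ → ℕ := mkA gensN invsN
noncomputable def π : ℕ → Equiv.Perm ℕ := mkPi gensN invsN
theorem vG : ∀ r ∈ ([np, nq, nr, ns, nx] : List Net), Net.valid 112 r = true := by
  intro r hr
  simp only [List.mem_cons, List.not_mem_nil, or_false] at hr
  rcases hr with rfl | rfl | rfl | rfl | rfl
  · exact vnp
  · exact vnq
  · exact vnr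
  · exact vns
  · exact vnx
theorem vI : ∀ r ∈ ([na, ny, nf] : List Net), Net.valid 112 r = true := by
  intro r hr
  simp only [List.mem_cons, List.not_mem_nil, or_false] at hr
  rcases hr with rfl | rfl | rfl
  · exact vna
  · exact vny
  · exact vnf
theorem env : Env 112 π A := env_mk vG vI
theorem hN : 112 ≤ 2 ^ 7 := by norm_num
theorem pinv : ∀ l, π (linv 10 l) = (π l)⁻¹ := mkPi_inv' hN rfl vI (by decide +kernel)
theorem relP : ∀ r ∈ HSL2.R, evw π r = 1 := env.eq_one_of_allId hN (by decide +kernel)
end H3.HSM
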