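/- Groups in which all subgroups of a fixed order of a `p`-subgroup are invariant. -/
import Cfsg.Agent.H5.Huppert
import Cfsg.Agent.H7.Hyperfocal
import Cfsg.Agent.H7.MinAct
import Cfsg.Agent.H8.SylowInf
import Cfsg.Agent.S3031

set_option autoImplicit false

namespace H3
open Subgroup H7
open scoped commutatorElement Pointwise

universe u
variable {G : Type u} [Group G] [Finite G] {p : ℕ}

omit [Finite G] in
theorem comm_le_of_abK [Fact p.Prime] {Γ T M : Subgroup G} (hMT : M ≤ T) (hi : M.relIndex T = p)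
    (hn : T ≤ normalizer (M : Set G)) (hM : Γ ≤ normalizer (M : Set G))
    (hT : Γ ≤ normalizer (T : Set G)) : ⁅T, H5.abK p Γ⁆ ≤ M := by
  set N := normalizer (M : Set G) ⊓ normalizer (T : Set G)
  have hTN : T ≤ N := le_inf hn le_normalizer
  have hΓ : Γ ≤ N := le_inf hM hT
  have : (M.subgroupOf N).Normal := normal_subgroupOf_of_le_normalizer inf_le_left
  have h1 : (T.subgroupOf N).Normal := normal_subgroupOf_of_le_normalizer inf_le_right
  have := Normal.map h1 _ (QuotientGroup.mk'_surjective (M.subgroupOf N))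
  have h2 := H5.commutator_le_of_map ((H5.map_abK _ (Γ.subgroupOf N)).le.trans
    (H5.abK_le_cent_of_card ((T.subgroupOf N).map (QuotientGroup.mk' (M.subgroupOf N))) (by
      rw [← relIndex_ker, QuotientGroup.ker_mk', relIndex_subgroupOf hTN, hi]) _))
  have h3 := map_mono (f := N.subtype) h2
  rwa [map_commutator, H5.map_abK, map_subgroupOf_eq_of_le hTN, map_subgroupOf_eq_of_le hΓ,
    map_subgroupOf_eq_of_le (hMT.trans hTN)] at h3

theorem normalizer_le_of_isCyclic {F M : Subgroup G} (hF : IsCyclic F) (h : M ≤ F) :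
    normalizer (F : Set G) ≤ normalizer (M : Set G) := by
  obtain ⟨f, rfl⟩ := (Subgroup.isCyclic_iff_exists_zpowers_eq_top F).mp hF
  refine fun g hg => mem_normalizer_of_forall fun m hm => ?_
  obtain ⟨a, ha⟩ := mem_zpowers_iff.mp (conj_mem_of_mem_normalizer hg (mem_zpowers f))
  obtain ⟨b, rfl⟩ := mem_zpowers_iff.mp (h hm)
  rw [← conj_zpow, ← ha, ← zpow_mul, mul_comm, zpow_mul]
  exact zpow_mem hm a

theorem mem_centralizer_of_all_normalized [hp : Fact p.Prime] {P Γ : Subgroup G}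
    (hP : IsPGroup p P) {k : ℕ} (hk : 1 ≤ k) (hkP : p ^ k < Nat.card P)
    (hΓ : ∀ F ≤ P, (Nat.card F = p ^ k ∨ (p ^ k = 2 ∧ Nat.card F = 4)) →
      Γ ≤ normalizer (F : Set G)) {x : G} (hx : x ∈ H5.abK p Γ)
    (hxP : x ∈ normalizer (P : Set G)) (hc : (orderOf x).Coprime p) :
    x ∈ centralizer (P : Set G) := by
  have burn : ∀ T ≤ P, Γ ≤ normalizer (T : Set G) → (∀ M : Subgroup T, IsCoatom M →
      Γ ≤ normalizer ((M.map T.subtype : Subgroup G) : Set G)) → x ∈ centralizer (T : Set G) := by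
    intro T hT h1 h2
    obtain ⟨n, hn⟩ := IsPGroup.iff_card.mp (hP.to_le hT)
    refine zpowers_le.mp (H1.le_centralizer_of_commutator_le_frattini
      (zpowers_le.mpr (h1 (H5.abK_le Γ hx))) (by rw [Nat.card_zpowers, hn]; exact hc.pow_right n)
      fun y hy => ?_)
    have hy' := commutator_mono le_rfl (zpowers_le.mpr hx) hy
    have hyT : y ∈ T := H1.commutator_le_of_le_normalizer ((H5.abK_le Γ).trans h1) hy'
    refine ⟨⟨y, hyT⟩, H3.mem_frattini_iff.mpr fun M hM => ?_, rfl⟩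
    have hi : (M.map T.subtype).relIndex T = p := by
      rw [relIndex, subgroupOf, comap_map_eq_self_of_injective T.subtype_injective]
      exact H3.index_eq_of_isCoatom_pgroup (hP.to_le hT) hM
    have := H3.normal_of_isCoatom_pgroup (hP.to_le hT) hM
    exact (mem_map_iff_mem T.subtype_injective).mp (comm_le_of_abK (map_subtype_le M) hi
      (fun t ht => mem_normalizer_of_forall (by
        rintro _ ⟨m, hm, rfl⟩
        exact ⟨_, this.conj_mem m hm ⟨t, ht⟩, rfl⟩)) (h2 M hM) h1 hy')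
  have cyc : ∀ F ≤ P, IsCyclic F → Γ ≤ normalizer (F : Set G) → x ∈ centralizer (F : Set G) :=
    fun F hF h1 h2 => burn F hF h2 fun M _ =>
      h2.trans (normalizer_le_of_isCyclic h1 (map_subtype_le M))
  by_contra hne
  obtain ⟨Q, hQ, h⟩ := exists_minAct_le hP hxP hc hne
  refine h.not_mem ?_
  rcases lt_or_ge (p ^ k) (Nat.card Q) with h1 | h1
  · intro u hu
    by_cases h2 : orderOf u ≤ p ^ k
    · obtain ⟨F, h3, h4, h5⟩ := exists_card_between (zpowers_le.mpr hu) h.isPGroup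
        (by rwa [Nat.card_zpowers]) h1.le
      exact h.min F (lt_of_le_of_ne h4 fun e => by rw [← e, h5] at h1; exact lt_irrefl _ h1)
        (hΓ F (h4.trans hQ) (Or.inl h5) (H5.abK_le Γ hx)) u (h3 (mem_zpowers u))
    have h3 : p ≤ p ^ k := Nat.le_self_pow (by omega) p
    rcases h.pow_eq_one hu with h4 | ⟨rfl, h4⟩
    · exact absurd ((orderOf_le_of_pow_eq_one hp.out.pos h4).trans h3) h2
    · obtain ⟨j, hj, e⟩ := (Nat.dvd_prime_pow Nat.prime_two).mp
        (orderOf_dvd_of_pow_eq_one (n := 2 ^ 2) h4)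
      have h5 : k < j := (Nat.pow_lt_pow_iff_right (by norm_num)).mp (e ▸ not_le.mp h2)
      obtain rfl : k = 1 := by omega
      obtain rfl : j = 2 := by omega
      exact cyc _ (zpowers_le.mpr (hQ hu)) inferInstance (hΓ _ (zpowers_le.mpr (hQ hu))
        (Or.inr ⟨rfl, by rw [Nat.card_zpowers, e]; rfl⟩)) u (mem_zpowers u)
  · have hk1 : p ^ (k + 1) ≤ Nat.card P := by
      obtain ⟨n, hn⟩ := IsPGroup.iff_card.mp hP
      rw [hn] at hkP ⊢
      exact Nat.pow_le_pow_right hp.out.pos ((Nat.pow_lt_pow_iff_right hp.out.one_lt).mp hkP)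
    have hk2 : p ^ k ≤ p ^ (k + 1) := Nat.pow_le_pow_right hp.out.pos k.le_succ
    obtain ⟨T, h2, h3, h4⟩ := exists_card_between hQ hP (h1.trans hk2) hk1
    by_cases h5 : IsCyclic T
    · obtain ⟨F, h6, h7, h8⟩ := exists_card_between h2 (hP.to_le h3) h1 (hk2.trans h4.ge)
      exact centralizer_le h6 (cyc F (h7.trans h3) (isCyclic_of_le h7)
        (hΓ F (h7.trans h3) (Or.inl h8)))
    have h6 : ∀ M : Subgroup T, IsCoatom M →
        Γ ≤ normalizer ((M.map T.subtype : Subgroup G) : Set G) := by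
      intro M hM
      refine hΓ _ ((map_subtype_le M).trans h3) (Or.inl ?_)
      have h7 := M.index_mul_card
      rw [H3.index_eq_of_isCoatom_pgroup (hP.to_le h3) hM, h4, pow_succ'] at h7
      rw [card_map_of_injective T.subtype_injective]
      exact Nat.eq_of_mul_eq_mul_left hp.out.pos h7
    refine centralizer_le h2 (burn T h3 (fun g hg => mem_normalizer_of_forall fun t ht => ?_) h6)
    obtain ⟨M, hM, h7⟩ := (eq_top_or_exists_le_coatom (zpowers (⟨t, ht⟩ : T))).resolve_left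
      fun e => h5 (isCyclic_iff_exists_zpowers_eq_top.mpr ⟨_, e⟩)
    exact map_subtype_le M (conj_mem_of_mem_normalizer (h6 M hM hg) ⟨_, h7 (mem_zpowers _), rfl⟩)

theorem isSupersolvable_of_abK' [hp : Fact p.Prime] {P : Subgroup G} [P.Normal] (hP : IsPGroup p P)
    (h : ∀ x ∈ H5.abK p (⊤ : Subgroup G), (orderOf x).Coprime p → x ∈ centralizer (P : Set G))
    (hq : Cfsg.IsSupersolvable (G ⧸ P)) : Cfsg.IsSupersolvable G := by
  refine H5.isSupersolvable_of_forall_step fun M hM hT => ?_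
  by_cases hle : P ≤ M
  · exact H5.exists_step_of_quotient hq M hle hT
  have hsurj := QuotientGroup.mk'_surjective M
  have := Normal.map ‹P.Normal› _ hsurj
  obtain ⟨V, hV, h1, h2, hmin⟩ := H2.exists_minimal_normal_le (P.map (QuotientGroup.mk' M))
    (by rwa [Ne, Subgroup.map_eq_bot_iff, QuotientGroup.ker_mk'])
  have hVp := (hP.map _).to_le h1
  set K := H5.abK p (⊤ : Subgroup (G ⧸ M))
  have hK : K.Normal := normalizer_eq_top_iff.mp (top_le_iff.mp (H5.le_nrm_abK ⊤))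
  let φ : G ⧸ M →* MulAut V := MulAut.conjNormal
  have h3 : IsPGroup p (K.map φ) := by
    rintro ⟨_, y, hy, rfl⟩
    have hy' : y ∈ (H5.abK p (⊤ : Subgroup G)).map (QuotientGroup.mk' M) := by
      rwa [H5.map_abK, map_top_of_surjective _ hsurj]
    obtain ⟨x, hx, rfl⟩ := hy'
    obtain ⟨j, hj⟩ := exists_pow_coprime (p := p) x
    refine ⟨j, Subtype.ext (MulEquiv.ext fun v => Subtype.ext ?_)⟩
    obtain ⟨u, hu, e⟩ := h1 v.2
    simp only [coe_pow, ← map_pow, φ, MulAut.conjNormal_apply, coe_one, MulAut.one_apply, ← e,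
      ← map_inv, ← map_mul]
    rw [← h _ (pow_mem hx _) hj u hu, mul_inv_cancel_right]
  obtain ⟨b, hb, hb1⟩ := h3.exists_fixed_point_of_prime_dvd_card_of_fixed_point V (a := 1) (by
    obtain ⟨n, hn, e⟩ := hVp.nontrivial_iff_card.mp ((nontrivial_iff_ne_bot V).mpr h2)
    exact e ▸ dvd_pow_self _ hn.ne') (fun a => map_one (a : MulAut V))
  have h4 : V ⊓ centralizer (K : Set (G ⧸ M)) = V :=
    (hmin _ inferInstance inf_le_left).resolve_left fun e => hb1 (Subtype.ext (mem_bot.mp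
      (e ▸ ⟨b.2, fun y hy => eq_mul_of_mul_inv_eq
        (congrArg Subtype.val (hb ⟨_, y, hy, rfl⟩))⟩)).symm)
  obtain ⟨v, -, h5, h6⟩ := H5.exists_normal_zpowers_of_min h2 hVp hmin
    (le_centralizer_iff.mp (h4.ge.trans inf_le_right))
  obtain ⟨v, rfl⟩ := hsurj v
  exact ⟨v, fun e => h5 ((QuotientGroup.eq_one_iff v).2 e), H5.normal_sup_zpowers_of_quotient M v h6⟩

/-- The hypothesis on `H`-subgroups of the Sylow subgroups of `E`. -/
def HSubHyp (E : Subgroup G) : Prop :=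
  ∀ (p : ℕ), p.Prime → ∀ P : Subgroup G, P ≤ E → IsPGroup p P → ¬ p ∣ P.relIndex E →
    ¬ IsCyclic P → ∃ D : Subgroup G, D ≤ P ∧ 1 < Nat.card D ∧ Nat.card D < Nat.card P ∧
      ∀ F : Subgroup G, F ≤ P → (Nat.card F = Nat.card D ∨ (Nat.card D = 2 ∧ Nat.card F = 4)) →
        ∀ g : G, F.map (MulAut.conj g).toMonoidHom ⊓ normalizer (F : Set G) ≤ F

theorem HSubHyp.hasNPC {E : Subgroup G} (h : HSubHyp E) [hp : Fact p.Prime] (h1 : p ∣ Nat.card E)
    (h2 : ∀ q : ℕ, q.Prime → q ∣ Nat.card E → p ≤ q) : Cfsg.HasNormalPComplement p E := by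
  obtain ⟨P⟩ : Nonempty (Sylow p E) := inferInstance
  refine Cfsg.Agent.S3031.result h1 h2 P (or_iff_not_imp_left.mpr fun hc => ?_)
  have hS := isSylowIn_map_subtype P
  have inj := E.subtype_injective
  obtain ⟨D, d1, d2, d3, d4⟩ := h p hp.out _ hS.le hS.isPGroup hS.not_dvd fun e =>
    hc ((equivMapOfInjective _ _ inj).isCyclic.mpr e)
  have cD : Nat.card (D.subgroupOf E) = Nat.card D :=
    Nat.card_congr (subgroupOfEquivOfLe (d1.trans hS.le)).toEquiv
  rw [card_map_of_injective inj] at d3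
  refine ⟨D.subgroupOf E, fun x hx => (mem_map_iff_mem inj).mp (d1 hx), cD ▸ d2, cD ▸ d3,
    fun F hF hc g => ?_⟩
  rintro _ ⟨⟨f, hf, rfl⟩, hn⟩
  exact (mem_map_iff_mem inj).mp (d4 (F.map E.subtype) (map_mono hF)
    (by rwa [card_map_of_injective inj, ← cD]) g
    ⟨⟨f, ⟨f, hf, rfl⟩, rfl⟩, le_normalizer_map _ ⟨_, hn, rfl⟩⟩)

theorem HSubHyp.tower {E : Subgroup G} (h : HSubHyp E) (hE : E ≠ ⊥) : ∃ q : ℕ, q.Prime ∧
    ∃ Q : Subgroup G, Q ≠ ⊥ ∧ IsSylowIn q Q E ∧ normalizer (E : Set G) ≤ normalizer (Q : Set G) := by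
  induction E using WellFoundedLT.induction with
  | ind E ih =>
  have h1 : Nat.card E ≠ 1 := fun e => hE (card_eq_one.mp e)
  have hp := Nat.minFac_prime h1
  have := Fact.mk hp
  have h2 := h.hasNPC (Nat.minFac_dvd _) fun q hq hd => Nat.minFac_le_of_dvd hq.two_le hd
  set p := (Nat.card E).minFac
  set K := (Cfsg.pResidual p E).map E.subtype
  have k1 : ¬ p ∣ Nat.card K := by
    rw [card_map_of_injective E.subtype_injective]
    exact hasNPC_iff_not_dvd.mp h2
  obtain ⟨n, k2⟩ : ∃ n, K.relIndex E = p ^ n := by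
    rw [relIndex, subgroupOf, comap_map_eq_self_of_injective E.subtype_injective]
    exact IsPGroup.iff_card.mp isPGroup_quotient_pResidual
  have k3 : K ≤ E := map_subtype_le _
  have : (Cfsg.pResidual p E).Characteristic := pResidual_characteristic
  by_cases e : K = ⊥
  · refine ⟨p, hp, E, hE, ⟨le_rfl, IsPGroup.of_card (n := n) ?_, by simp [hp.ne_one]⟩, le_rfl⟩
    rwa [e, relIndex_bot_left] at k2
  have k4 : ∀ (q : ℕ), q.Prime → ∀ P : Subgroup G, P ≤ K → IsPGroup q P → P ≠ ⊥ →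
      ¬ q ∣ P.relIndex K → ¬ q ∣ P.relIndex E := by
    intro q hq P h3 h4 h5 h6
    have := Fact.mk hq
    rw [← relIndex_mul_relIndex P K E h3 k3, k2, hq.dvd_mul, not_or]
    refine ⟨h6, fun h7 => k1 ?_⟩
    obtain rfl := (Nat.prime_dvd_prime_iff_eq hq hp).mp (hq.dvd_of_dvd_pow h7)
    obtain ⟨m, hm, e'⟩ := h4.nontrivial_iff_card.mp ((nontrivial_iff_ne_bot P).mpr h5)
    exact (e' ▸ dvd_pow_self _ hm.ne').trans (card_dvd_of_le h3)
  obtain ⟨q, hq, Q, q1, q2, q3⟩ := ih K (lt_of_le_of_ne k3 fun e' => k1 (e' ▸ Nat.minFac_dvd _))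
    (fun q hq P h3 h4 h5 h6 => h q hq P (h3.trans k3) h4
      (k4 q hq P h3 h4 (fun e' => h6 (e' ▸ inferInstance)) h5) h6) e
  exact ⟨q, hq, Q, q1, ⟨q2.le.trans k3, q2.isPGroup, k4 q hq Q q2.le q2.isPGroup q1 q2.not_dvd⟩,
    (H3.normalizer_le_normalizer_map_of_characteristic _).trans q3⟩

theorem HSubHyp.quot {E Q : Subgroup G} [Q.Normal] (h : HSubHyp E) {q : ℕ} (hq : q.Prime)
    (hQ : IsSylowIn q Q E) : HSubHyp (E.map (QuotientGroup.mk' Q)) := by
  intro r hr P' h1 h2 h3 h4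
  have := Fact.mk hr
  have := Fact.mk hq
  set π := QuotientGroup.mk' Q
  have hrq : r ≠ q := by
    rintro rfl
    have h5 := (hQ.map π).eq_of_le h2 (by simp [π]) h1
    rw [(Subgroup.map_eq_bot_iff _).mpr (QuotientGroup.ker_mk' Q).ge] at h5
    exact h4 (h5 ▸ inferInstance)
  obtain ⟨P0, hP0⟩ := exists_isSylowIn (p := r) E
  obtain ⟨_, ⟨a, ha, rfl⟩, e⟩ := (hP0.map π).exists_conj_eq ⟨h1, h2, h3⟩
  have hP := hP0.smul_of_mem_normalizer (le_normalizer ha)
  have hPe : (MulAut.conj a • P0).map π = P' := by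
    rw [← e, conj_smul_eq_map, conj_smul_eq_map, map_map, map_map]
    congr 1
  generalize MulAut.conj a • P0 = P at hP hPe
  subst hPe
  have hd : ∀ F ≤ P, Disjoint F π.ker := fun F hF => by
    rw [QuotientGroup.ker_mk']
    exact IsPGroup.disjoint_of_ne r q hrq _ _ (hP.isPGroup.to_le hF) hQ.isPGroup
  have cm : ∀ F ≤ P, Nat.card (F.map π) = Nat.card F := fun F hF => by
    rw [← relIndex_ker, ← inf_relIndex_left, (hd F hF).eq_bot, relIndex_bot_left]
  obtain ⟨D, d1, d2, d3, d4⟩ := h r hr P hP.le hP.isPGroup hP.not_dvd fun e' =>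
    h4 (isCyclic_of_surjective _ (π.subgroupMap_surjective P))
  refine ⟨D.map π, map_mono d1, by rwa [cm D d1], by rwa [cm D d1, cm P le_rfl],
    fun F' f1 f2 g => ?_⟩
  obtain ⟨F, hF, rfl⟩ : ∃ F ≤ P, F.map π = F' := ⟨P ⊓ F'.comap π, inf_le_left, le_antisymm
    (map_le_iff_le_comap.mpr inf_le_right) fun y hy => by
      obtain ⟨x, hx, rfl⟩ := f1 hy
      exact ⟨x, ⟨hx, hy⟩, rfl⟩⟩
  rw [cm D d1, cm F hF] at f2
  obtain ⟨g, rfl⟩ := QuotientGroup.mk'_surjective Q g
  rintro _ ⟨⟨_, ⟨f, hf, rfl⟩, rfl⟩, hn⟩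
  have hy : g * f * g⁻¹ ∈ normalizer ((F ⊔ Q : Subgroup G) : Set G) := by
    rw [← QuotientGroup.ker_mk' Q, ← comap_map_eq,
      ← comap_normalizer_eq_of_surjective _ (QuotientGroup.mk'_surjective Q)]
    exact hn
  have hF1 : IsSylowIn r F (F ⊔ Q) := by
    refine ⟨le_sup_left, hP.isPGroup.to_le hF, fun e' => hrq ?_⟩
    rw [sup_comm, H8.relIndex_sup_of_normal] at e'
    obtain ⟨m, hm⟩ := IsPGroup.iff_card.mp hQ.isPGroup
    exact (Nat.prime_dvd_prime_iff_eq hr hq).mp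
      (hr.dvd_of_dvd_pow (hm ▸ e'.trans (relIndex_dvd_card F Q)))
  obtain ⟨S, hS, s1⟩ := exists_isSylowIn_ge (Q := zpowers (g * f * g⁻¹))
    ((isPGroup_conj_smul (hP.isPGroup.to_le hF) g).to_le (zpowers_le.mpr (conj_mem_conj_smul hf)))
    (zpowers_le.mpr hy)
  have s2 := hS.inf_of_le_normalizer (N := F ⊔ Q) le_rfl
  rw [inf_eq_right.mpr (le_normalizer (H := F ⊔ Q))] at s2
  obtain ⟨b, hb, s3⟩ := s2.exists_conj_eq hF1
  have s4 : b * (g * f * g⁻¹) * b⁻¹ ∈ normalizer (F : Set G) := by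
    rw [← s3, normalizer_conj_smul]
    exact conj_mem_conj_smul (mem_normalizer_of_forall fun x hx =>
      ⟨S.mul_mem (S.mul_mem (s1 (mem_zpowers _)) hx.1) (S.inv_mem (s1 (mem_zpowers _))),
        conj_mem_of_mem_normalizer hy hx.2⟩)
  have s5 := d4 F hF f2 (b * g) ⟨⟨f, hf, by simp [mul_assoc]⟩, s4⟩
  have s6 : g * f * g⁻¹ ∈ F ⊔ Q := by
    have := mul_mem (mul_mem (inv_mem hb) (mem_sup_left s5)) hb
    simpa [mul_assoc] using this
  rw [← QuotientGroup.ker_mk' Q, ← comap_map_eq] at s6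
  exact s6

theorem normal_of_hsub [Fact p.Prime] {P F : Subgroup G} [P.Normal] (hP : IsPGroup p P)
    (hF : F ≤ P) (h : ∀ g : G, F.map (MulAut.conj g).toMonoidHom ⊓ normalizer (F : Set G) ≤ F) :
    ⊤ ≤ normalizer (F : Set G) := by
  have hN : P ≤ normalizer (F : Set G) := by
    by_contra hn
    obtain ⟨t, ht, ht'⟩ := SetLike.exists_of_lt (lt_inf_normalizer hP (inf_lt_left.mpr hn))
    refine ht' ⟨ht.1, mem_normalizer_of_forall fun y hy => h t ⟨⟨y, hy, rfl⟩, ?_⟩⟩
    exact (conj_mem_of_mem_normalizer ht.2 ⟨hF hy, le_normalizer hy⟩).2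
  exact fun g _ => mem_normalizer_of_forall fun y hy =>
    h g ⟨⟨y, hy, rfl⟩, hN (‹P.Normal›.conj_mem y (hF hy) g)⟩

theorem HSubHyp.isSupersolvable {E : Subgroup G} [E.Normal] (h : HSubHyp E)
    (hGE : Cfsg.IsSupersolvable (G ⧸ E)) : Cfsg.IsSupersolvable G := by
  induction hn : Nat.card G using Nat.strong_induction_on generalizing G with
  | _ n ih =>
  by_cases hE : E = ⊥
  · subst hE
    exact H5.IsSupersolvable.of_equiv hGE QuotientGroup.quotientBot
  obtain ⟨q, hq, Q, q1, q2, q3⟩ := h.tower hE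
  have := Fact.mk hq
  have : Q.Normal := normalizer_eq_top_iff.mp (top_le_iff.mp (le_normalizer_of_normal.trans q3))
  have := Normal.map ‹E.Normal› _ (QuotientGroup.mk'_surjective Q)
  have h1 : Cfsg.IsSupersolvable (G ⧸ Q) := ih _ (hn ▸ H4.card_quotient_lt Q q1) (h.quot hq q2)
    (H5.IsSupersolvable.of_equiv hGE (QuotientGroup.quotientQuotientEquivQuotient Q E q2.le).symm)
    rfl
  by_cases hc : IsCyclic Q
  · exact H5.isSupersolvable_of_cyclic_normal Q h1
  obtain ⟨D, d1, d2, d3, d4⟩ := h q hq Q q2.le q2.isPGroup q2.not_dvd hc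
  obtain ⟨k, hk⟩ := IsPGroup.iff_card.mp (q2.isPGroup.to_le d1)
  rw [hk] at d2 d3 d4
  exact isSupersolvable_of_abK' q2.isPGroup (fun x hx ho => mem_centralizer_of_all_normalized
    q2.isPGroup (k := k) (by rcases k with _ | k <;> simp_all) d3
    (fun F hF hc => normal_of_hsub q2.isPGroup hF (d4 F hF hc)) hx
    (le_normalizer_of_normal (mem_top x)) ho) h1

end H3
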