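import Cfsg.Agent.H7.HKSSpec
import Cfsg.Agent.H3.HkSL
import Cfsg.Agent.H98.Basic

/-! HKS kit 2, second half: the fields `lc swp syl a4 aa` from the first half and kit 1. -/

set_option autoImplicit false
set_option linter.unusedSectionVars false

namespace H3.HK2

open MulAction Cfsg Subgroup H89.K H65 H7.HKS

universe u

/-- The first half of kit 2. -/
structure K2a : Prop where
  semi : ∀ {G Ω : Type u} [Group G] [Finite G] [MulAction G Ω] {U : Ω → Subgroup G}, SR U →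
    ∀ {F : Type} [Field F] [Fintype F] {x y : F → G} {A B : Subgroup G} {a b : Ω}, a ≠ b →
      A ≤ U a → B ≤ U b → LD x y A B a b → ∀ g ∈ St G a b, g ∈ normalizer (A : Set G) →
      g ∈ normalizer (B : Set G) → ∃ (l : F) (σ : F ≃+* F), l ≠ 0 ∧
        (∀ c, g * x c * g⁻¹ = x (l * σ c)) ∧ (∀ c, g * y c * g⁻¹ = y (l⁻¹ * σ c)) ∧
        (∀ c, c ≠ 0 → g * sl2n x y c * g⁻¹ = sl2n x y (l * σ c)) ∧
        ∀ c, c ≠ 0 → g * sl2h x y c * g⁻¹ = sl2h x y (σ c)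
  bas : ∀ {G Ω : Type u} [Group G] [Finite G] [MulAction G Ω] {U : Ω → Subgroup G}, SR U →
    ∀ {F : Type} [Field F] [Fintype F] {x y : F → G} {A B : Subgroup G} {a b : Ω}, a ≠ b →
      A ≤ U a → B ≤ U b → LD x y A B a b →
      Odd (Fintype.card F) ∧ Nat.card A = Fintype.card F ∧ Function.Injective y ∧
      (∀ c, c ≠ 0 → sl2h x y c ∈ St G a b) ∧
      (∀ c d, c ≠ 0 → d ≠ 0 → sl2n x y d • x c • b = x (-(d ^ 2 / c)) • b) ∧
      (∀ c, c ≠ 0 → sl2n x y c * sl2n x y c = sl2h x y (-1)) ∧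
      (∀ c d, c ≠ 0 → d ≠ 0 → sl2n x y d * sl2h x y c * (sl2n x y d)⁻¹ = sl2h x y c⁻¹) ∧
      (∀ g ∈ A ⊔ B, g * sl2h x y (-1) = sl2h x y (-1) * g) ∧
      (∀ g ∈ A ⊔ B, g ∈ St G a b → ∃ c, c ≠ 0 ∧ g = sl2h x y c) ∧
      (∀ g ∈ A ⊔ B, Sw g a b → ∃ c, c ≠ 0 ∧ g = sl2n x y c) ∧
      (∀ c, c ≠ 0 → sl2h x y c = 1 → c = 1 ∨ c = -1) ∧
      ∀ W : Subgroup G, W ≤ A → (∀ c, c ≠ 0 → ∀ w ∈ W, sl2h x y c * w * (sl2h x y c)⁻¹ ∈ W) →
        W = ⊥ ∨ W = A
  lx : ∀ {G Ω : Type u} [Group G] [Finite G] [MulAction G Ω] {U : Ω → Subgroup G}, Rg U →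
    ∀ {F : Type} [Field F] [Fintype F] {x y : F → G} {X : Set G} {a b : Ω}, a ≠ b →
      X ⊆ St G a b → LD x y (CU U X a) (CU U X b) a b → LX U X = CU U X a ⊔ CU U X b
  mu : ∀ {G Ω : Type u} [Group G] [Finite G] [MulAction G Ω] {U : Ω → Subgroup G}, SR U →
    ∀ {F F' : Type} [Field F] [Field F'] {x y : F → G} {x' y' : F' → G} {A B A' B' : Subgroup G}
      {a b : Ω}, a ≠ b → A ≤ U a → B ≤ U b → A' ≤ U a → B' ≤ U b → LD x y A B a b →
      LD x' y' A' B' a b → ∀ c c', c ≠ 0 → x c = x' c' → sl2n x y c = sl2n x' y' c'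
  grp : ∀ {G Ω : Type u} [Group G] [Finite G] [MulAction G Ω] {U : Ω → Subgroup G}, SR U →
    ∀ {F : Type} [Field F] [Fintype F] {x y : F → G} {A B : Subgroup G} {a b : Ω}, a ≠ b →
      A ≤ U a → B ≤ U b → LD x y A B a b →
      (sl2h x y (-1) ≠ 1 → Nonempty (↥(A ⊔ B) ≃* Matrix.SpecialLinearGroup (Fin 2) F) ∧
        ∀ g ∈ A ⊔ B, g * g = 1 → g = 1 ∨ g = sl2h x y (-1)) ∧
      (sl2h x y (-1) = 1 → Nonempty (↥(A ⊔ B) ≃* PSL2 F) ∧
        ∀ g ∈ A ⊔ B, ∀ k ∈ A ⊔ B, orderOf g = 2 → orderOf k = 2 → ∃ l ∈ A ⊔ B, l * g * l⁻¹ = k) ∧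
      (∀ g ∈ A ⊔ B, (∀ l ∈ A ⊔ B, g * l = l * g) → g = 1 ∨ g = sl2h x y (-1)) ∧
      ∀ g ∈ A ⊔ B, g • a = a ∨ ∃ c, g • a = x c • b

variable {G Ω : Type u} [Group G] [Finite G] [MulAction G Ω] {U : Ω → Subgroup G} {F : Type}
  [Field F] {x y : F → G} {A B E : Subgroup G} {a b : Ω} {X : Set G}

theorem xm (L : LD x y A B a b) (c : F) : x c ∈ A := (L.rx _).2 ⟨c, rfl⟩

theorem ym (L : LD x y A B a b) (c : F) : y c ∈ B := (L.ry _).2 ⟨c, rfl⟩

theorem range_hom (L : LD x y A B a b) : L.rel.hom.range = A ⊔ B := by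
  rw [L.rel.hom_range, show Set.range x = A from Set.ext fun g => (L.rx g).symm,
    show Set.range y = B from Set.ext fun g => (L.ry g).symm, closure_eq, closure_eq]

theorem hm (L : LD x y A B a b) (m : S2 F) : L.rel.hom m ∈ A ⊔ B := (range_hom L).le ⟨m, rfl⟩

theorem nm (L : LD x y A B a b) (c : F) : sl2n x y c ∈ A ⊔ B :=
  mul_mem (mul_mem (mem_sup_left (xm L _)) (mem_sup_right (ym L _))) (mem_sup_left (xm L _))

theorem x_ne (hU : SR U) (hab : a ≠ b) (hA : A ≤ U a) {g : G} (hg : g ∈ A) : g • b ≠ a := fun e =>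
  hab (MulAction.injective g ((hU.fix a g (hA hg)).trans e.symm))

theorem x_inj (hU : SR U) (hab : a ≠ b) (hA : A ≤ U a) (L : LD x y A B a b) {c d : F}
    (e : x c • b = x d • b) : c = d :=
  L.inj (inv_mul_eq_one.1 (hU.reg hab.symm _ (hA (mul_mem (inv_mem (xm L d)) (xm L c)))
    (by rw [mul_smul, e, inv_smul_smul]))).symm

theorem norm_CU (hU : SR U) {g : G} (hg : g ∈ normalizer X) (ha : g • a = a) :
    g ∈ normalizer (CU U X a : Set G) := mem_normalizer_fintype fun u hu =>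
  ⟨ha ▸ hU.conj g a u hu.1, fun n hn => by
    have := hu.2 _ ((mem_set_normalizer_iff''.1 hg n).1 hn)
    calc n * (g * u * g⁻¹) = g * (g⁻¹ * n * g * u) * g⁻¹ := by group
      _ = _ := by rw [this]; group⟩

theorem odd_sq (hU : SR U) {u : G} (hu : u ∈ U a) (h : u * u = 1) : u = 1 :=
  (pow_eq_one_iff_of_coprime (Nat.coprime_two_left.2 (hU.odd a))).1
    ⟨(sq u).trans h, congrArg Subtype.val (pow_card_eq_one' (x := (⟨u, hu⟩ : U a)))⟩

theorem mem_ins {w : G} {c : Ω} : c ∈ Fx Ω (insert w X) ↔ w • c = c ∧ c ∈ Fx Ω X :=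
  Set.forall_mem_insert

theorem fx_a (hX : X ⊆ St G a b) : a ∈ Fx Ω X := fun _ h => (hX h).1

theorem fx_b (hX : X ⊆ St G a b) : b ∈ Fx Ω X := fun _ h => (hX h).2

theorem fx_smul {g : G} (hg : g ∈ centralizer X) {c : Ω} (hc : c ∈ Fx Ω X) : g • c ∈ Fx Ω X :=
  fun n hn => fix_of_comm (hg n hn).symm (hc n hn)

/-! ### type A -/

/-- Data of type A before the normaliser condition. -/
structure PA (U : Ω → Subgroup G) (X : Set G) (a : Ω) (E : Subgroup G) : Prop where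
  sq : ∀ e ∈ E, e * e = 1
  sup : E ⊔ CU U X a = LX U X
  fix : ∀ e ∈ E, e • a = a → e = 1
  norm : CU U X a ≤ normalizer (E : Set G)

theorem PA.dec (P : PA U X a E) {l : G} (hl : l ∈ LX U X) :
    ∃ e ∈ E, ∃ u ∈ CU U X a, l = e * u := (H98.mem_sup_right_norm P.norm).1 (P.sup.ge hl)

theorem PA.inv (hU : SR U) (P : PA U X a E) {l : G} (hl : l ∈ LX U X) (h : l * l = 1) : l ∈ E := by
  obtain ⟨e, he, u, hu, rfl⟩ := P.dec hl
  have h1 : u * u = (e * (u * e * u⁻¹))⁻¹ := eq_inv_of_mul_eq_one_right (by rw [← h]; group)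
  rw [odd_sq hU hu.1 (P.fix _ (h1 ▸ inv_mem (mul_mem he ((mem_normalizer_iff.1 (P.norm hu) e).1 he)))
    (by rw [mul_smul, hU.fix a u hu.1, hU.fix a u hu.1])), mul_one]
  exact he

theorem pa_of (hX : X ⊆ St G a b) (D : AD U X a E) : PA U X a E :=
  ⟨D.sq, D.sup, fun _ he h => (D.reg a (fx_a hX) a (fx_a hX)).unique ⟨he, h⟩ ⟨one_mem _, one_smul _ _⟩,
    fun _ hu => D.norm (centralizer_le_normalizer X hu.2)⟩

theorem comm_of_sq (h : ∀ e ∈ E, e * e = 1) {e f : G} (he : e ∈ E) (hf : f ∈ E) : e * f = f * e := by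
  rw [← inv_eq_of_mul_eq_one_right (h _ (mul_mem he hf)), mul_inv_rev,
    inv_eq_of_mul_eq_one_right (h e he), inv_eq_of_mul_eq_one_right (h f hf)]

/-- A subgroup of `E` counts the points of its orbit. -/
theorem card_orb (P : PA U X a E) {C : Subgroup G} (hC : C ≤ E) {S : Set Ω}
    (h : ∀ c, c ∈ S ↔ ∃ e ∈ C, e • a = c) : Nat.card C = S.ncard :=
  Nat.card_congr (Equiv.ofBijective (fun e : C => (⟨e.1 • a, (h _).2 ⟨e, e.2, rfl⟩⟩ : S))
    ⟨fun e f k => Subtype.ext (inv_mul_eq_one.1 (P.fix _ (hC (mul_mem (inv_mem e.2) f.2))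
      (by rw [mul_smul, ← show e.1 • a = f.1 • a from congrArg Subtype.val k, inv_smul_smul]))),
    fun c => let ⟨e, he, k⟩ := (h c).1 c.2; ⟨⟨e, he⟩, Subtype.ext k⟩⟩)

/-- An involution acting on an elementary abelian group. -/
theorem inv_act (h : ∀ e ∈ E, e * e = 1) {g : G} (hg : g ∈ normalizer (E : Set G)) (h2 : g * g = 1) :
    ∃ I : Subgroup G, I ≤ E ⊓ centralizer {g} ∧
      Nat.card ↥(E ⊓ centralizer {g}) * Nat.card I = Nat.card E ∧
      ∀ e ∈ I, ∃ f ∈ E, f * g * f⁻¹ = e * g := by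
  have cj : ∀ f : E, g * f * g⁻¹ ∈ E := fun f => (mem_normalizer_iff.1 hg f).1 f.2
  have iv : ∀ f : E, (f : G)⁻¹ = f := fun f => inv_eq_of_mul_eq_one_right (h f f.2)
  have g1 : g⁻¹ = g := inv_eq_of_mul_eq_one_right h2
  let φ : E →* G := MonoidHom.mk' (fun f => f * (g * f * g⁻¹)) fun e f => by
    calc ((e * f : E) : G) * (g * (e * f : E) * g⁻¹) = e * (f * (g * e * g⁻¹)) * (g * f * g⁻¹) := by
          simp only [coe_mul]; group
      _ = _ := by rw [comm_of_sq h f.2 (cj e)]; group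
  refine ⟨φ.range, ?_, ?_, ?_⟩
  · rintro _ ⟨f, rfl⟩
    refine ⟨mul_mem f.2 (cj f), mem_centralizer_singleton_iff.2 ?_⟩
    change f * (g * f * g⁻¹) * g = g * (f * (g * f * g⁻¹))
    rw [comm_of_sq h f.2 (cj f), ← mul_assoc g, ← mul_assoc g, ← mul_assoc g, h2, one_mul,
      ← comm_of_sq h f.2 (cj f), g1]
    simp only [mul_assoc, h2, mul_one]
  · rw [← index_ker, ← φ.ker.card_mul_index, inf_comm, ← subgroupOf_map_subtype,
      card_map_of_injective E.subtype_injective]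
    congr 3
    ext f
    change (f : G) ∈ centralizer {g} ↔ (f : G) * (g * f * g⁻¹) = 1
    rw [mem_centralizer_singleton_iff, mul_eq_one_iff_inv_eq, iv, eq_mul_inv_iff_mul_eq]
  · rintro _ ⟨f, rfl⟩
    exact ⟨f, f.2, by rw [iv]; change _ = f * (g * f * g⁻¹) * g; group⟩

theorem aa (k1 : Kit1.{u}) (hU : Rg U) (hab : a ≠ b) (hX : X ⊆ St G a b) (D : AD U X a E) :
    Nat.card E = Nat.card (CU U X a) + 1 ∧ (∃ k, Nat.card E = 2 ^ k) ∧
      (∀ l ∈ LX U X, l ∈ St G a b → l = 1) ∧ (∀ l ∈ LX U X, l * l = 1 → l ∈ E) ∧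
      ∀ g ∈ St G a b, g ∈ centralizer X → (∀ e ∈ E, e • a = b → g * e = e * g) ∧
        Nat.card ↥(E ⊓ centralizer {g}) = Nat.card (CU U (insert g X) a) + 1 ∧
        (g * g = 1 → ∀ r, Nat.card (CU U (insert g X) a) = r →
          (Nat.card (CU U X a) = r ∨ Nat.card (CU U X a) = r * (r + 2)) ∧
          ∀ e ∈ E, Nat.card (CU U X a) ≠ r → g * e = e * g → ∃ f ∈ E, f * g * f⁻¹ = e * g) := by
  have P := pa_of hX D
  obtain ⟨-, f2, -, f4, -⟩ := k1.fx hU hab hX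
  have hE : E ≤ centralizer X := le_sup_left.trans (D.sup.le.trans f4)
  have c1 : Nat.card E = Nat.card (CU U X a) + 1 := (card_orb P le_rfl fun c =>
    ⟨fun hc => (D.reg a (fx_a hX) c hc).exists, fun ⟨e, he, k⟩ => k ▸ fx_smul (hE he) (fx_a hX)⟩).trans f2
  refine ⟨c1, IsPGroup.iff_card.1 fun e => ⟨1, Subtype.ext ((sq e.1).trans (D.sq e e.2))⟩,
    fun l hl h => ?_, fun l => P.inv hU.sr, fun g hg hc => ?_⟩
  · obtain ⟨e, he, u, hu, rfl⟩ := P.dec hl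
    obtain ⟨h1, h2⟩ := mem_St.1 h
    rw [mul_smul, hU.fix a u hu.1] at h1
    rw [P.fix e he h1, one_mul] at h2 ⊢
    exact hU.reg hab.symm u hu.1 h2
  have hn := D.norm (centralizer_le_normalizer X hc)
  have cm : ∀ e ∈ E, g • e • a = e • a → g * e = e * g := fun e he k =>
    mul_inv_eq_iff_eq_mul.1 (inv_mul_eq_one.1 (P.fix _
      (mul_mem (inv_mem he) ((mem_normalizer_iff.1 hn e).1 he)) (by
        rw [mul_smul, mul_smul, mul_smul, inv_smul_eq_iff.2 (show a = g • a from hg.1.symm), k,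
          inv_smul_smul]))).symm
  have c2 : Nat.card ↥(E ⊓ centralizer {g}) = Nat.card (CU U (insert g X) a) + 1 :=
    (card_orb P inf_le_left fun c => ⟨fun h => by
      obtain ⟨e, he, rfl⟩ := (D.reg a (fx_a hX) c (mem_ins.1 h).2).exists
      exact ⟨e, ⟨he, mem_centralizer_singleton_iff.2 (cm e he (mem_ins.1 h).1).symm⟩, rfl⟩,
      fun ⟨e, he, k⟩ => k ▸ mem_ins.2 ⟨fix_of_comm (mem_centralizer_singleton_iff.1 he.2) hg.1,
        fx_smul (hE he.1) (fx_a hX)⟩⟩).trans (k1.fx hU hab (Set.insert_subset hg hX)).2.1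
  refine ⟨fun e he k => cm e he (by rw [k]; exact hg.2), c2, fun h2 r hr => ?_⟩
  obtain ⟨I, i1, i2, i3⟩ := inv_act D.sq hn h2
  obtain ⟨j, hj⟩ : r ∣ Nat.card (CU U X a) :=
    hr ▸ card_dvd_of_le (inf_le_inf_left _ (centralizer_le (Set.subset_insert g X)))
  have i4 := card_le_of_le i1
  rw [c2, hr] at i2 i4
  obtain ⟨t, ht⟩ := Nat.exists_eq_add_of_le' (Nat.card_pos (α := I))
  have i5 : t = 0 ∨ t = r := by
    rw [c1, hj, ht] at i2
    have : r ∣ t := (Nat.dvd_add_right (dvd_mul_right r (t + 1))).1 ⟨j, by linear_combination i2⟩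
    exact (Nat.eq_zero_or_pos t).imp_right fun h => le_antisymm (by omega) (Nat.le_of_dvd h this)
  rw [c1, ht] at i2
  refine ⟨i5.imp (fun e => by rw [e] at i2; omega) fun e => by rw [e] at i2; linarith,
    fun e he h3 h4 => i3 e ((eq_of_le_of_card_ge i1 ?_).ge ⟨he, mem_centralizer_singleton_iff.2 h4.symm⟩)⟩
  rw [c2, hr, ht, i5.resolve_left fun e => h3 (by rw [e] at i2; omega)]

variable [Fintype F]

theorem a4 (k1 : Kit1.{u}) (k : K2a.{u}) (hU : Rg U) (hab : a ≠ b) (hX : X ⊆ St G a b)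
    (L : LD x y (CU U X a) (CU U X b) a b) (h3 : Fintype.card F = 3) (hz : sl2h x y (-1) = 1) :
    ∃ E, AD U X a E := by
  have H := L.rel
  obtain ⟨f1, -, -, -, f5, -⟩ := k1.fx hU hab hX
  have t : (3 : F) = 0 := by simpa [h3] using FiniteField.cast_card_eq_zero F
  have el : ∀ c : F, c ≠ 0 → c⁻¹ = c ∧ sl2n x y c = sl2n x y 1 := fun c h0 => by
    have := FiniteField.pow_card_sub_one_eq_one c h0
    rw [h3] at this
    rcases sq_eq_one_iff.1 this with rfl | rfl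
    · simp
    · exact ⟨by simp, by rw [H.n_eq, hz, one_mul]⟩
  have ss := H.n_one_sq.trans hz
  have ny : ∀ c, sl2n x y 1 * x c * sl2n x y 1 = y (-c) := fun c => by
    rw [H.n_mul_x one_ne_zero, mul_assoc, ss]; simp
  have sw := L.sw 1 one_ne_zero
  have sm := nm L 1
  generalize sl2n x y 1 = s at el ss ny sw sm
  have xx : ∀ c, x (-c) * x c = 1 := fun c => by rw [H.x_add, neg_add_cancel, H.x_zero]
  have sq : ∀ e : G, (e = 1 ∨ ∃ c, e = x c * s * x (-c)) → e * e = 1 := by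
    rintro _ (rfl | ⟨c, rfl⟩)
    · simp
    · calc _ = x c * (s * (x (-c) * x c) * s) * x (-c) := by group
        _ = 1 := by rw [xx, mul_one, ss, mul_one, H.x_add, add_neg_cancel, H.x_zero]
  let E : Subgroup G :=
    { carrier := {e | e = 1 ∨ ∃ c, e = x c * s * x (-c)}
      one_mem' := .inl rfl
      inv_mem' := fun {e} he => by rwa [inv_eq_of_mul_eq_one_right (sq e he)]
      mul_mem' := by
        rintro _ f (rfl | ⟨c, rfl⟩) hf
        · rwa [one_mul]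
        rcases hf with rfl | ⟨d, rfl⟩
        · exact .inr ⟨c, mul_one _⟩
        by_cases e : c = d
        · exact .inl (e ▸ sq _ (.inr ⟨c, rfl⟩))
        have e0 : -(-c + d) ≠ 0 := fun k => e (by linear_combination k)
        refine .inr ⟨c + -(-c + d), ?_⟩
        calc _ = x c * (s * (x (-c) * x d) * s) * x (-d) := by group
          _ = _ := by
            rw [H.x_add, ny, H.y_eq, (el _ e0).1, (el _ (neg_ne_zero.2 e0)).2,
              show -(c + -(-c + d)) = -(-c + d) + -d by linear_combination (d - c) * t,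
              ← H.x_add c, ← H.x_add _ (-d)]
            group }
  have ea : ∀ c, (x c * s * x (-c)) • a = x c • b := fun c => by
    rw [mul_smul, mul_smul, hU.fix a _ (xm L _).1, sw.1]
  have lx := k.lx hU hab hX L
  have P : PA U X a E := by
    refine ⟨sq, lx ▸ le_antisymm (sup_le ?_ le_sup_left) (sup_le le_sup_right fun g hg => ?_), ?_,
      fun u hu => mem_normalizer_fintype ?_⟩
    · rintro _ (rfl | ⟨c, rfl⟩)
      · exact one_mem _
      · exact mul_mem (mul_mem (mem_sup_left (xm L _)) sm) (mem_sup_left (xm L _))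
    · obtain ⟨c, rfl⟩ := (L.ry g).1 hg
      have se : s ∈ E := .inr ⟨0, by simp [H.x_zero]⟩
      rw [← neg_neg c, ← ny]
      exact mul_mem (mul_mem (mem_sup_left se) (mem_sup_right (xm L _))) (mem_sup_left se)
    · rintro _ (rfl | ⟨c, rfl⟩) h
      · rfl
      · exact absurd ((ea c).symm.trans h) (x_ne hU.sr hab inf_le_left (xm L c))
    · obtain ⟨d, rfl⟩ := (L.rx u).1 hu
      rintro _ (rfl | ⟨c, rfl⟩)
      · exact .inl (by simp)
      · refine .inr ⟨d + c, ?_⟩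
        rw [← eq_inv_of_mul_eq_one_left (xx d), neg_add_rev, ← H.x_add, ← H.x_add]
        group
  have tr : ∀ c ∈ Fx Ω X, ∃ e ∈ E, e • a = c := fun c hc => by
    rcases (f1 c).1 hc with rfl | ⟨u, hu, rfl⟩
    · exact ⟨1, one_mem _, one_smul _ _⟩
    · obtain ⟨d, rfl⟩ := (L.rx u).1 hu
      exact ⟨_, .inr ⟨d, rfl⟩, ea d⟩
  refine ⟨E, sq, P.sup, fun c hc d hd => ?_, fun g hg => mem_normalizer_fintype fun e he => ?_, ?_⟩
  · obtain ⟨e, he, rfl⟩ := tr c hc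
    obtain ⟨f, hf, rfl⟩ := tr d hd
    refine ⟨f * e⁻¹, ⟨mul_mem hf (inv_mem he), by rw [mul_smul, inv_smul_smul]⟩, fun g hg => ?_⟩
    rw [eq_mul_inv_iff_mul_eq, eq_comm, ← inv_mul_eq_one]
    exact P.fix _ (mul_mem (inv_mem hf) (mul_mem hg.1 he)) (by
      rw [mul_smul, mul_smul, hg.2, inv_smul_smul])
  · refine P.inv hU.sr ((mem_normalizer_iff.1 (f5 hg) e).1 (P.sup.le (mem_sup_left he))) ?_
    rw [conj_mul, sq e he, mul_one, mul_inv_cancel]
  · exact isCyclic_of_prime_card (p := 3)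
      ((k.bas hU.sr hab inf_le_left inf_le_left L).2.1.trans h3)

/-! ### type L -/

theorem swp0 (k1 : Kit1.{u}) (k : K2a.{u}) (hU : Rg U) (hab : a ≠ b) (hX : X ⊆ St G a b)
    (L : LD x y (CU U X a) (CU U X b) a b) {w : G} (hw : w ∈ normalizer X) (hs : Sw w a b)
    (h2 : ∀ c ∈ Fx Ω X, w • w • c = c) (hf : (Fx Ω (insert w X)).ncard ≤ 2) :
    ∃ (l : F) (g : G), l ≠ 0 ∧ w = g * sl2n x y 1 ∧ (∀ c, g * x c * g⁻¹ = x (l * c)) ∧
      (∀ c, g * y c * g⁻¹ = y (l⁻¹ * c)) ∧ (∀ c, c ≠ 0 → g * sl2h x y c * g⁻¹ = sl2h x y c) ∧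
      ∀ c, c ≠ 0 → w • x c • b = x (-(l / c)) • b := by
  obtain ⟨f1, -, -, f4, -⟩ := k1.fx hU hab hX
  obtain ⟨b1, -, -, -, b5, -⟩ := k.bas hU.sr hab inf_le_left inf_le_left L
  have := hU.t2.finite
  have sw := L.sw 1 one_ne_zero
  have hg : w * (sl2n x y 1)⁻¹ ∈ St G a b := mem_St.2
    ⟨by rw [mul_smul, inv_smul_eq_iff.2 sw.2.symm, hs.2], by rw [mul_smul, inv_smul_eq_iff.2 sw.1.symm, hs.1]⟩
  have hn : w * (sl2n x y 1)⁻¹ ∈ normalizer X := mul_mem hw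
    (inv_mem (centralizer_le_normalizer X (f4 ((k.lx hU hab hX L).ge (nm L 1)))))
  obtain ⟨l, σ, l0, s1, s2, -, s4⟩ := k.semi hU.sr hab inf_le_left inf_le_left L _ hg
    (norm_CU hU.sr hn hg.1) (norm_CU hU.sr hn hg.2)
  have e := (inv_mul_cancel_right w (sl2n x y 1)).symm
  generalize w * (sl2n x y 1)⁻¹ = g at hg hn s1 s2 s4 e
  have fx : ∀ c, x c • b ∈ Fx Ω X := fun c => (f1 _).2 (.inr ⟨_, xm L c, rfl⟩)
  have act : ∀ c, c ≠ 0 → w • x c • b = x (-(l / σ c)) • b := fun c hc => by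
    rw [e, mul_smul, b5 c 1 hc one_ne_zero, show -(l / σ c) = l * σ (-(1 ^ 2 / c)) by
      simp [div_eq_mul_inv], ← s1, mul_smul, mul_smul, inv_smul_eq_iff.2 (show b = g • b from hg.2.symm)]
  have s0 : ∀ c, c ≠ 0 → σ c ≠ 0 := fun c hc => by simpa using hc
  have h3 : ∀ c, c ≠ 0 → l * σ (σ c) = σ l * c := fun c hc => by
    have := h2 _ (fx c)
    rw [act c hc, act _ (neg_ne_zero.2 (div_ne_zero l0 (s0 c hc)))] at this
    have := x_inj hU.sr hab inf_le_left L this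
    have h4 := s0 l l0
    have h5 := s0 _ (s0 c hc)
    rw [map_neg, map_div₀] at this
    field_simp at this
    linear_combination this
  have h4 : σ l = l := by simpa using (h3 1 one_ne_zero).symm
  have h5 : ∀ c, σ c = c := by
    by_contra! h5
    obtain ⟨c, d, e, n1, n2, n3, e1, e2, e3⟩ := three_sol b1 h5 (μ := -l) (fun c => by
      by_cases hc : c = 0
      · simp [hc]
      · exact mul_left_cancel₀ l0 (by rw [h3 c hc, h4])) (neg_ne_zero.2 l0) (by rw [map_neg, h4])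
    have m : ∀ c, σ c * c = -l → x c • b ∈ Fx Ω (insert w X) := fun c hc => by
      have c0 : c ≠ 0 := by rintro rfl; exact l0 (by simpa using hc)
      have := s0 c c0
      refine mem_ins.2 ⟨?_, fx c⟩
      rw [act c c0, show -(l / σ c) = c by field_simp; linear_combination -hc]
    have i := fun c d => mt (x_inj hU.sr hab inf_le_left L (c := c) (d := d))
    have := (Set.ncard_eq_three.2 ⟨_, _, _, i _ _ n1, i _ _ n2, i _ _ n3, rfl⟩).ge.trans
      (Set.ncard_le_ncard (t := Fx Ω (insert w X)) (by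
        rintro _ (rfl | rfl | rfl)
        exacts [m c e1, m d e2, m e e3]))
    omega
  simp only [h5] at s1 s2 s4 act
  exact ⟨l, g, l0, e, s1, s2, s4, act⟩

theorem swp (k1 : Kit1.{u}) (k : K2a.{u}) (hU : Rg U) (hab : a ≠ b) (hX : X ⊆ St G a b)
    (L : LD x y (CU U X a) (CU U X b) a b) {w : G} (hw : w ∈ normalizer X) (hs : Sw w a b)
    (h2 : ∀ c ∈ Fx Ω X, w • w • c = c) (hf : (Fx Ω (insert w X)).ncard ≤ 2) : ∃ μ : F, μ ≠ 0 ∧
      (∀ c, c ≠ 0 → w • x c • b = x (-(μ / c)) • b) ∧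
      (∀ c, c ≠ 0 → w * sl2h x y c * w⁻¹ = sl2h x y c⁻¹) ∧
      ((∃ l ∈ LX U X, ∀ c ∈ Fx Ω X, w • c = l • c) ↔ IsSquare μ) := by
  obtain ⟨l, g, l0, e, -, -, s4, act⟩ := swp0 k1 k hU hab hX L hw hs h2 hf
  obtain ⟨f1, -⟩ := k1.fx hU hab hX
  obtain ⟨-, -, -, -, b5, -, b7, -, -, b10, -⟩ := k.bas hU.sr hab inf_le_left inf_le_left L
  have lx := k.lx hU hab hX L
  refine ⟨l, l0, act, fun c hc => ?_, fun ⟨m, h3, h4⟩ => ?_, fun ⟨d, hd⟩ => ?_⟩
  · rw [e, ← s4 _ (inv_ne_zero hc), ← b7 c 1 hc one_ne_zero]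
    group
  · obtain ⟨d, d0, rfl⟩ := b10 m (lx.le h3)
      ⟨(h4 a (fx_a hX)).symm.trans hs.1, (h4 b (fx_b hX)).symm.trans hs.2⟩
    have := h4 _ ((f1 _).2 (.inr ⟨_, xm L 1, rfl⟩))
    rw [act 1 one_ne_zero, b5 1 d one_ne_zero d0] at this
    exact ⟨d, by linear_combination -x_inj hU.sr hab inf_le_left L this⟩
  · have d0 : d ≠ 0 := by rintro rfl; exact l0 (by simpa using hd)
    refine ⟨sl2n x y d, lx.ge (nm L d), fun c hc => ?_⟩
    rcases (f1 c).1 hc with rfl | ⟨u, hu, rfl⟩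
    · exact hs.1.trans (L.sw d d0).1.symm
    obtain ⟨c, rfl⟩ := (L.rx u).1 hu
    by_cases c0 : c = 0
    · rw [c0, L.rel.x_zero, one_smul, hs.2, (L.sw d d0).2]
    · rw [act c c0, b5 c d c0 d0, hd, sq]

theorem to_swap (k1 : Kit1.{u}) (hU : Rg U) (hab : a ≠ b) (hX : X ⊆ St G a b)
    (h1 : 1 < Nat.card (CU U X a)) {w : G} (hw : w ∈ centralizer X) (h2 : w * w = 1)
    (hf : (Fx Ω (insert w X)).ncard ≤ 2) : ∃ g ∈ LX U X, Sw (g⁻¹ * w * g) a b := by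
  obtain ⟨-, f2, -, -, -, -, -, f8⟩ := k1.fx hU hab hX
  have := hU.t2.finite
  obtain ⟨c, hc, h3⟩ : ∃ c ∈ Fx Ω X, c ≠ w • c := by
    by_contra! h3
    have := Set.ncard_le_ncard (s := Fx Ω X) (t := Fx Ω (insert w X))
      fun c hc => mem_ins.2 ⟨(h3 c hc).symm, hc⟩
    omega
  obtain ⟨g, hg, e1, e2⟩ := f8 (one_lt_card_iff_ne_bot _ |>.1 h1) c hc _ (fx_smul hw hc) h3
  exact ⟨g, hg, by rw [mul_smul, mul_smul, e1, ← e2, inv_smul_smul],
    by rw [mul_smul, mul_smul, e2, ← mul_smul w, h2, one_smul, ← e1, inv_smul_smul]⟩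

theorem lc (k1 : Kit1.{u}) (k : K2a.{u}) (hU : Rg U) (hab : a ≠ b) (hX : X ⊆ St G a b)
    (hL : TL U X a b) {w l : G} (hw : w ∈ centralizer X) (hl : l ∈ LX U X) (h1 : w * w = 1)
    (h2 : w * l * (w * l) = 1) (n1 : (Fx Ω (insert w X)).ncard ≤ 2)
    (n2 : (Fx Ω (insert (w * l) X)).ncard ≤ 2) : ∃ g ∈ LX U X, g * w * g⁻¹ = w * l := by
  obtain ⟨F, _, _, x, y, L⟩ := hL
  obtain ⟨-, -, -, f4, f5, -⟩ := k1.fx hU hab hX
  obtain ⟨b1, b2, -, -, -, -, -, -, b9, -⟩ := k.bas hU.sr hab inf_le_left inf_le_left L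
  have := hU.t2.finite
  have lx := k.lx hU hab hX L
  have h3 : 1 < Nat.card (CU U X a) := b2 ▸ Fintype.one_lt_card
  obtain ⟨g, hg, s1⟩ := to_swap k1 hU hab hX h3 hw h1 n1
  obtain ⟨g', hg', s2⟩ := to_swap k1 hU hab hX h3 (mul_mem hw (f4 hl)) h2 n2
  have v2 : g⁻¹ * w * g * (g⁻¹ * w * g) = 1 := by
    rw [show g⁻¹ * w * g * (g⁻¹ * w * g) = g⁻¹ * (w * w) * g by group, h1]; group
  obtain ⟨e, e0, he⟩ := b9 ((g⁻¹ * w * g)⁻¹ * (g'⁻¹ * (w * l) * g')) (lx.le (by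
      rw [show (g⁻¹ * w * g)⁻¹ * (g'⁻¹ * (w * l) * g') = g⁻¹ * (w⁻¹ * (g * g'⁻¹) * w) * (l * g') by group]
      exact mul_mem (mul_mem (inv_mem hg) ((mem_normalizer_iff''.1 (f5 (centralizer_le_normalizer X hw))
        _).1 (mul_mem hg (inv_mem hg')))) (mul_mem hl hg')))
    (mem_St.2 ⟨by rw [mul_smul, s2.1, inv_smul_eq_iff, s1.1], by rw [mul_smul, s2.2, inv_smul_eq_iff, s1.2]⟩)
  obtain ⟨μ, v, m0, ev, c1, c2, -⟩ := swp0 k1 k hU hab hX L (centralizer_le_normalizer X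
    (mul_mem (mul_mem (inv_mem (f4 hg)) hw) (f4 hg))) s1
    (fun c _ => by rw [← mul_smul, v2, one_smul])
    ((Set.ncard_le_ncard_of_injOn (g • ·) (fun c hc => mem_ins.2 ⟨inv_smul_eq_iff.1
      (show g⁻¹ • w • g • c = c by simpa only [mul_smul] using (mem_ins.1 hc).1), fx_smul (f4 hg) (mem_ins.1 hc).2⟩)
      (MulAction.injective g).injOn).trans n1)
  obtain ⟨m, d, e1, e2, e3, e4⟩ := exists_tw b1 m0 e0
  have h4 := conj_hom L.rel m0 c1 c2 (sl2W * m * sl2W⁻¹)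
  rw [e1, map_mul, map_mul, map_mul, map_inv, L.rel.hom_W, hom_tri L.rel e2, e3, e4, zero_div,
    L.rel.x_zero, mul_one, ← he] at h4
  refine ⟨g' * L.rel.hom m * g⁻¹, mul_mem (mul_mem hg' (lx.ge (hm L m))) (inv_mem hg), ?_⟩
  have h5 := inv_eq_of_mul_eq_one_right v2
  calc _ = g' * ((g⁻¹ * w * g) * ((g⁻¹ * w * g)⁻¹ * L.rel.hom m * (g⁻¹ * w * g)⁻¹⁻¹) *
        (L.rel.hom m)⁻¹) * g'⁻¹ := by group
    _ = g' * ((g⁻¹ * w * g) * (v * (sl2n x y 1 * L.rel.hom m * (sl2n x y 1)⁻¹) * v⁻¹) *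
        (L.rel.hom m)⁻¹) * g'⁻¹ := by rw [h5, h5]; nth_rw 2 [ev]; rw [← h5, ev]; group
    _ = _ := by rw [h4]; group

theorem ker_hom (k : K2a.{u}) (hU : SR U) (hab : a ≠ b) (hA : A ≤ U a) (hB : B ≤ U b)
    (L : LD x y A B a b) {m : S2 F} (h : L.rel.hom m = 1) (n : S2 F) : m * n = n * m := by
  obtain ⟨-, -, -, b4, -, -, -, -, -, -, b11, -⟩ := k.bas hU hab hA hB L
  have hd := sl2_det m
  by_cases h0 : m 1 0 = 0
  · rw [h0, mul_zero, sub_zero] at hd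
    have h1 := left_ne_zero_of_mul_eq_one hd
    rw [hom_tri L.rel h0] at h
    have h2 : x (m 0 1 / m 0 0) = 1 := hU.reg hab.symm _ (hA (xm L _))
      (by rw [eq_inv_of_mul_eq_one_right h]; exact (inv_mem (b4 _ h1)).2)
    have h3 : m 0 1 = 0 := by simpa [h1] using L.inj (h2.trans L.rel.x_zero.symm)
    rw [h2, mul_one] at h
    have h4 : m 1 1 = m 0 0 := by
      rcases b11 _ h1 h with e | e <;> rw [e] at hd ⊢ <;> [simpa using hd; linear_combination -hd]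
    ext i j
    fin_cases i <;> fin_cases j <;> simp [Matrix.mul_apply, Fin.sum_univ_two, h0, h3, h4, mul_comm]
  · rw [hom_big L.rel h0] at h
    have := congrArg (· • a) h
    simp only [mul_smul, one_smul, hU.fix a _ (hA (xm L _)),
      (L.sw _ (neg_ne_zero.2 (inv_ne_zero h0))).1] at this
    exact absurd this (x_ne hU hab hA (xm L _))

theorem syl (k : K2a.{u}) (hU : SR U) (hab : a ≠ b) (hA : A ≤ U a) (hB : B ≤ U b)
    (L : LD x y A B a b) (h : Fintype.card F % 4 = 3) :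
    ∃ (c d : G) (s : ℕ), 2 ≤ s ∧ 2 ^ s ∣ Fintype.card F + 1 ∧ ¬ 2 ^ (s + 1) ∣ Fintype.card F + 1 ∧
      c ∈ A ⊔ B ∧ d ∈ A ⊔ B ∧ c ^ 2 ^ (s - 2) = sl2n x y 1 ∧ d * c * d⁻¹ = c⁻¹ ∧
      d * d = sl2h x y (-1) ∧ d ∉ zpowers c ∧ Odd ((closure {c, d}).relIndex (A ⊔ B)) ∧
      ∀ v ∈ St G a b, (∀ e, v * x e * v⁻¹ = x (-e)) → (∀ e, v * y e * v⁻¹ = y (-e)) →
        v * c * v⁻¹ = c⁻¹ ∧ v * d * v⁻¹ = d * c := by
  obtain ⟨c, d, s, h1, h2, h3, h4, h5, h6, h7, h8, h9, h10⟩ := syl2 h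
  refine ⟨L.rel.hom c, L.rel.hom d, s, h1, h2, h3, hm L c, hm L d, by rw [← map_pow, h4, L.rel.hom_W],
    by rw [← map_inv, ← map_mul, ← map_mul, h5, map_inv], by rw [← map_mul, h6, hom_neg],
    fun e => h7 ?_, ?_, fun v _ hx hy => ?_⟩
  · obtain ⟨j, hj⟩ := mem_zpowers_iff.1 e
    have h11 := ker_hom k hU hab hA hB L (m := d * (c ^ j)⁻¹)
      (by rw [map_mul, map_inv, map_zpow, hj, mul_inv_cancel]) sl2W
    have h12 : Commute (c ^ j) sl2W := h4 ▸ ((Commute.refl c).zpow_left j).pow_right _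
    rwa [mul_assoc, h12.inv_left.eq, ← mul_assoc, ← mul_assoc, mul_left_inj] at h11
  · rw [← range_hom L, MonoidHom.range_eq_map, ← Set.image_pair, ← MonoidHom.map_closure,
      relIndex_map_map, top_sup_eq, relIndex_top_right]
    exact h8.of_dvd_nat (index_dvd_of_le le_sup_left)
  · have := conj_hom L.rel (g := v) (l := -1) (by simp) (by simpa using hx) (by simpa using hy)
    exact ⟨by rw [this, h9, map_inv], by rw [this, h10, map_mul]⟩

/-- Kit 2 from its first half. -/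
theorem kit2_of (k1 : Kit1.{u}) (k : K2a.{u}) : Kit2.{u} where
  semi := k.semi
  bas := k.bas
  lx := k.lx
  mu := k.mu
  grp := k.grp
  lc hU _ _ _ hab hX hL _ hw _ hl := lc k1 k hU hab hX hL hw hl
  swp hU _ _ _ _ _ _ _ _ hab hX L _ hw := swp k1 k hU hab hX L hw
  syl hU _ _ _ _ _ _ _ _ _ := syl k hU
  a4 hU _ _ _ _ _ _ _ _ := a4 k1 k hU
  aa hU _ _ _ _ := aa k1 hU

end H3.HK2
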