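import Cfsg.Agent.H3.HnE

/-! HN3, job C. -/

set_option autoImplicit false

namespace H3.Hn

open Equiv H16.HN3 Subgroup
open scoped commutatorElement

attribute [local instance high] List.decidableBAll List.decidableBEx

universe u

theorem cm_left {X : Type*} [Group X] {g g' h : X} (c : Commute g ⁅g', h⁆) (c' : Commute ⁅g', h⁆ ⁅g, h⁆) :
    ⁅g * g', h⁆ = ⁅g, h⁆ * ⁅g', h⁆ := by
  rw [← c'.eq, ← mul_inv_cancel_right ⁅g', h⁆ g, ← c.eq]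
  simp only [commutatorElement_def]; group

theorem cm_right {X : Type*} [Group X] {g h h' : X} (c : Commute h ⁅g, h'⁆) :
    ⁅g, h * h'⁆ = ⁅g, h⁆ * ⁅g, h'⁆ := by
  rw [← mul_inv_cancel_right ⁅g, h'⁆ h, ← c.eq]
  simp only [commutatorElement_def]; group

theorem abs_comm {X : Type*} [Group X] {D V : Subgroup X} {θ : X} (VD : V ≤ D)
    (hD : ∀ g ∈ D, θ * g * θ⁻¹ ∈ D) (h7 : θ ^ 7 = 1) (c1 : ∀ v ∈ V, ∀ g ∈ D, Commute g v)
    (c2 : ∀ v ∈ V, θ * v * θ⁻¹ = v) (c3 : ∀ g ∈ D, ∀ h ∈ D, ⁅g, h⁆ ∈ V)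
    (c4 : ∀ g ∈ D, ∃ v ∈ V, θ * (θ * (θ * g * θ⁻¹) * θ⁻¹) * θ⁻¹ = g * (θ * g * θ⁻¹) * v)
    (c5 : ∀ v ∈ V, v * v = 1) (c6 : ∀ g ∈ D, g * g ∈ V) :
    (∀ g ∈ D, ∀ h ∈ D, ⁅g, h⁆ = 1) ∧ ∀ g ∈ D, g * g = 1 := by
  have l : ∀ g ∈ D, ∀ g' ∈ D, ∀ h ∈ D, ⁅g * g', h⁆ = ⁅g, h⁆ * ⁅g', h⁆ := fun g a g' b h c =>
    cm_left (c1 _ (c3 _ b _ c) _ a) (c1 _ (c3 _ a _ c) _ (VD (c3 _ b _ c)))
  have r : ∀ g ∈ D, ∀ h ∈ D, ∀ h' ∈ D, ⁅g, h * h'⁆ = ⁅g, h⁆ * ⁅g, h'⁆ := fun g a h b h' c =>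
    cm_right (c1 _ (c3 _ a _ c) _ b)
  have i : ∀ g ∈ D, ∀ h ∈ D, ⁅θ * g * θ⁻¹, θ * h * θ⁻¹⁆ = ⁅g, h⁆ := fun g a h b => by
    rw [← conjugate_commutatorElement, c2 _ (c3 g a h b)]
  have k : ∀ g ∈ D, ∀ h ∈ D, ⁅g, h⁆ = 1 := fun g a h b => by
    obtain ⟨k, hk, rfl⟩ : ∃ k ∈ D, h = θ * (θ * (θ * (θ * k * θ⁻¹) * θ⁻¹) * θ⁻¹) * θ⁻¹ :=
      ⟨_, hD _ (hD _ (hD _ b)), by
        rw [show θ * (θ * (θ * (θ * (θ * (θ * (θ * h * θ⁻¹) * θ⁻¹) * θ⁻¹) * θ⁻¹) * θ⁻¹) * θ⁻¹) * θ⁻¹ =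
          θ ^ 7 * h * (θ ^ 7)⁻¹ by simp only [pow_succ, pow_zero, one_mul, mul_inv_rev, mul_assoc], h7]
        group⟩
    obtain ⟨v, hv, e⟩ := c4 g a
    obtain ⟨w, hw, e'⟩ := c4 k hk
    have k1 := hD _ hk
    have k2 := hD _ k1
    have k3 := hD _ k2
    have a1 := hD _ a
    have := i g a k hk
    rw [← i _ a1 _ k1, ← i _ (hD _ a1) _ k2, e, l _ (mul_mem a a1) _ (VD hv) _ k3, l _ a _ a1 _ k3,
      i _ a _ k2, (c1 v hv _ k3).symm.commutator_eq, mul_one, e', r _ a _ (mul_mem hk k1) _ (VD hw),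
      r _ a _ hk _ k1, (c1 w hw _ a).commutator_eq, mul_one, mul_assoc, mul_eq_left] at this
    rw [e', ← conj_mul, ← conj_mul, c2 w hw, r _ a _ (mul_mem k1 k2) _ (VD hw), r _ a _ k1 _ k2,
      (c1 w hw _ a).commutator_eq, mul_one, this]
  refine ⟨k, fun g a => ?_⟩
  obtain ⟨v, hv, e⟩ := c4 g a
  have a1 := hD _ a
  have j : ∀ g ∈ D, θ * g * θ⁻¹ * (θ * g * θ⁻¹) = g * g := fun g a => by rw [conj_mul, c2 _ (c6 g a)]
  have := j _ (hD _ a1)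
  rw [j _ a1, j _ a, e, (c1 v hv _ (mul_mem a a1)).symm.mul_mul_mul_comm, c5 v hv, mul_one,
    (commutatorElement_eq_one_iff_commute.1 (k _ a1 _ a)).mul_mul_mul_comm, j g a] at this
  exact mul_eq_left.1 this

variable {G : Type*} [Group G] {ψ : A →* G} {n : G} {L : Subgroup G} {g h : G}

theorem F_facts : ∀ f ∈ lF, f ∈ lE ∧ f⁻¹ = f ∧ (∀ w ∈ lV, Commute f w) ∧
    ∀ f' ∈ lF, f * f' ∈ lF ∧ Commute f f' := by
  intro f hf
  refine ⟨?_, ?_, fun w hw => ?_, fun f' hf' => ?_⟩ <;> cds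
  · cdz f hf hF; decide +kernel
  · cdz f hf hF; decide +kernel
  · cdz f hf hF; cdz w hw hV; decide +kernel
  · cdz f hf hF; cdz f' hf' hF; decide +kernel

theorem V_facts : ∀ w ∈ lV, w⁻¹ = w ∧ Commute w th ∧ ∀ w' ∈ lV, w * w' ∈ lV ∧ Commute w w' := by
  intro w hw
  refine ⟨?_, ?_, fun w' hw' => ?_⟩ <;> cds
  · cdz w hw hV; decide +kernel
  · cdz w hw hV; decide +kernel
  · cdz w hw hV; cdz w' hw' hV; decide +kernel

theorem s_mem : s ∈ lF := .tail _ (.head _)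
theorem x1_mem : x1 ∈ lF := .tail _ (.tail _ (.head _))
theorem x2_mem : x2 ∈ lF := .tail _ (.tail _ (.tail _ (.tail _ (.head _))))
theorem t_mem : t ∈ lV := .tail _ (.head _)
theorem c_mem : c ∈ lV := .tail _ (.tail _ (.head _))

/-- `F` -/
def sF (ψ : A →* G) : Subgroup G where
  carrier := {g | InF ψ g}
  one_mem' := ⟨1, .head _, (map_one ψ).symm⟩
  mul_mem' := by
    rintro _ _ ⟨a, ha, rfl⟩ ⟨b, hb, rfl⟩
    exact ⟨_, ((F_facts a ha).2.2.2 b hb).1, (map_mul ψ a b).symm⟩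
  inv_mem' := by
    rintro _ ⟨a, ha, rfl⟩
    exact ⟨a, ha, by rw [← map_inv, (F_facts a ha).2.1]⟩

theorem cf_comm (h : CF ψ g) {x : G} (hx : InF ψ x) : Commute g x := by
  obtain ⟨f, hf, rfl⟩ := hx
  simp only [lF, List.mem_cons, List.not_mem_nil, or_false] at hf
  rcases hf with rfl | rfl | rfl | rfl | rfl | rfl | rfl | rfl <;>
    try simp only [x3, map_mul, map_one]
  exacts [Commute.one_right g, h.1, h.2.1, h.1.mul_right h.2.1, h.2.2, h.1.mul_right h.2.2,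
    h.2.1.mul_right h.2.2, h.1.mul_right (h.2.1.mul_right h.2.2)]

theorem cf_of (h : ∀ f ∈ lF, Commute g (ψ f)) : CF ψ g := ⟨h _ s_mem, h _ x1_mem, h _ x2_mem⟩

theorem cf_F (h : InF ψ g) : CF ψ g := by
  obtain ⟨f, hf, rfl⟩ := h
  exact cf_of fun f' hf' => ((F_facts f hf).2.2.2 f' hf').2.map ψ

theorem cf_V {w : A} (h : w ∈ lV) : CF ψ (ψ w) :=
  cf_of fun f hf => ((F_facts f hf).2.2.1 w h).symm.map ψ

theorem one_F : InF ψ 1 := one_mem (sF ψ)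

theorem c1_of (h : CF ψ g) (h1 : Commute g (ψ t)) (h2 : Commute g (ψ c)) : C1 ψ g :=
  ⟨h, h1.commutator_eq ▸ one_F, h2.commutator_eq ▸ one_F⟩

theorem c1_V {w : A} (h : w ∈ lV) : C1 ψ (ψ w) :=
  c1_of (cf_V h) (((V_facts w h).2.2 _ t_mem).2.map ψ) (((V_facts w h).2.2 _ c_mem).2.map ψ)

theorem c1_F {f : A} (h : f ∈ lF) : C1 ψ (ψ f) :=
  c1_of (cf_F ⟨f, h, rfl⟩) (((F_facts f h).2.2.1 _ t_mem).map ψ) (((F_facts f h).2.2.1 _ c_mem).map ψ)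

theorem c1_w (h : C1 ψ g) {w : A} (hw : w ∈ lV) : InF ψ ⁅g, ψ w⁆ := by
  simp only [lV, List.mem_cons, List.not_mem_nil, or_false] at hw
  rcases hw with rfl | rfl | rfl | rfl
  · rw [map_one, commutatorElement_one_right]; exact one_F
  · exact h.2.1
  · exact h.2.2
  · rw [map_mul, cm_right (cf_comm (cf_V t_mem) h.2.2)]
    exact mul_mem (s := sF ψ) h.2.1 h.2.2

theorem c1_hom (a : C1 ψ g) (b : C1 ψ h) {w : A} (hw : w ∈ lV) :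
    ⁅g * h, ψ w⁆ = ⁅g, ψ w⁆ * ⁅h, ψ w⁆ :=
  cm_left (cf_comm a.1 (c1_w b hw)) (cf_comm (cf_F (c1_w b hw)) (c1_w a hw))

theorem c1_inv' (a : C1 ψ g) {w : A} (hw : w ∈ lV) : ⁅g⁻¹, ψ w⁆ = ⁅g, ψ w⁆⁻¹ := by
  rw [← inv_mul_cancel_left g ⁅g, ψ w⁆⁻¹, (cf_comm a.1 (c1_w a hw)).inv_right.eq]
  simp only [commutatorElement_def]; group

/-- `C₁` -/
def sC (ψ : A →* G) : Subgroup G where
  carrier := {g | C1 ψ g}
  one_mem' := map_one ψ ▸ c1_V (.head _)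
  mul_mem' := fun a b => ⟨⟨a.1.1.mul_left b.1.1, a.1.2.1.mul_left b.1.2.1, a.1.2.2.mul_left b.1.2.2⟩,
    c1_hom a b t_mem ▸ mul_mem (s := sF ψ) a.2.1 b.2.1, c1_hom a b c_mem ▸ mul_mem (s := sF ψ) a.2.2 b.2.2⟩
  inv_mem' := fun a => ⟨⟨a.1.1.inv_left, a.1.2.1.inv_left, a.1.2.2.inv_left⟩,
    c1_inv' a t_mem ▸ inv_mem (s := sF ψ) a.2.1, c1_inv' a c_mem ▸ inv_mem (s := sF ψ) a.2.2⟩

theorem nor_facts : ∀ a ∈ [e1, p, r', th, t', c', x1, x2], (∀ f ∈ lF, a * f * a⁻¹ ∈ lF ∧ a⁻¹ * f * a ∈ lF) ∧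
    ∀ w ∈ lV, a⁻¹ * w * a ∈ lV := by
  intro a ha
  refine ⟨fun f hf => ?_, fun w hw => ?_⟩ <;> rw [cd_mem] at ha <;> revert ha <;> cds <;>
    generalize cd a = m
  · cdz f hf hF; intro f hf hm; revert f; revert m; decide +kernel
  · cdz w hw hV; intro f hf hm; revert f; revert m; decide +kernel

theorem cj_cm (a w : A) (g : G) :
    ⁅ψ a * g * (ψ a)⁻¹, ψ w⁆ = ψ a * ⁅g, ψ (a⁻¹ * w * a)⁆ * (ψ a)⁻¹ := by
  simp only [commutatorElement_def, map_mul, map_inv]; group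

theorem c1_nor {a : A} (ha : a ∈ [e1, p, r', th, t', c', x1, x2]) (h : C1 ψ g) :
    C1 ψ (ψ a * g * (ψ a)⁻¹) := by
  obtain ⟨a1, a2⟩ := nor_facts a ha
  have k : ∀ w ∈ lV, InF ψ ⁅ψ a * g * (ψ a)⁻¹, ψ w⁆ := fun w hw => by
    obtain ⟨f, hf, e⟩ := c1_w h (a2 w hw)
    exact ⟨_, (a1 f hf).1, by rw [cj_cm, e, map_mul, map_mul, map_inv]⟩
  refine ⟨cf_of fun f hf => ?_, k _ t_mem, k _ c_mem⟩
  rw [← commutatorElement_eq_one_iff_commute, cj_cm,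
    (cf_comm h.1 ⟨_, (a1 f hf).2, rfl⟩).commutator_eq, mul_one, mul_inv_cancel]

theorem th_mem : th ∈ [e1, p, r', th, t', c', x1, x2] := .tail _ (.tail _ (.tail _ (.head _)))

theorem n_cm (T : St ψ n L) {a u b : A} (e : ⁅a, u⁆ = b) (hb : b ∈ [1, s]) :
    ⁅n * ψ a * n⁻¹, n * ψ u * n⁻¹⁆ = ψ b := by
  rw [← conjugate_commutatorElement, ← map_commutatorElement, e]
  simp only [List.mem_cons, List.not_mem_nil, or_false] at hb
  rcases hb with rfl | rfl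
  · rw [map_one, mul_one, mul_inv_cancel]
  · exact ns T

theorem E_cm : ∀ a ∈ lE, ⁅a, t'⁆ ∈ [1, s] ∧ ⁅a, c'⁆ ∈ [1, s] ∧ (∀ u ∈ lU, a * u ∈ lE) ∧
    (Commute a t' → ¬ Commute a c' → r * a * r⁻¹ = a * t' ∨ r * a * r⁻¹ = a * t' * s) := by
  intro a ha
  have c_r : cd r = 205163982041376 := by decide +kernel
  refine ⟨?_, ?_, fun u hu => ?_, ?_⟩ <;> cds
  · cdz a ha hE; decide +kernel
  · cdz a ha hE; decide +kernel
  · cdz a ha hE; cdz u hu hU; decide +kernel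
  · rw [c_r]; cdz a ha hE; decide +kernel

theorem s_F {b : A} (hb : b ∈ [1, s]) : b ∈ lF := by
  simp only [List.mem_cons, List.not_mem_nil, or_false] at hb
  rcases hb with rfl | rfl
  exacts [.head _, s_mem]

theorem c1_E2 (T : St ψ n L) (B : B1 ψ n) (E : EE ψ n) {a : A} (ha : a ∈ lE) : C1 ψ (n * ψ a * n⁻¹) :=
  ⟨cf_of fun f hf => (E f (F_facts f hf).1 a ha).symm,
    ⟨_, s_F (E_cm a ha).1, by rw [← nt' T B, n_cm T rfl (E_cm a ha).1]⟩,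
    ⟨_, s_F (E_cm a ha).2.1, by rw [← nc' T B, n_cm T rfl (E_cm a ha).2.1]⟩⟩

theorem E_real : ∀ b ∈ [1, s], ∀ b' ∈ [1, s], ∃ a ∈ lE, ⁅a, t'⁆ = b ∧ ⁅a, c'⁆ = b' := by
  have : ∀ b ∈ [1, s], ∀ b' ∈ [1, s], ∃ a ∈ lF, ⁅a, t'⁆ = b ∧ ⁅a, c'⁆ = b' := by
    simp only [lF, List.forall_mem_cons, List.exists_mem_cons_iff, List.not_mem_nil, false_imp_iff,
      implies_true, and_true, false_and, exists_false, or_false]
    cds
    decide +kernel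
  exact fun b hb b' hb' => let ⟨a, ha, e⟩ := this b hb b' hb'; ⟨a, (F_facts a ha).1, e⟩

theorem th_pow (h : C1 ψ g) (k : ℕ) : C1 ψ (ψ (th ^ k) * g * (ψ (th ^ k))⁻¹) := by
  induction k with
  | zero => simpa using h
  | succ k ih =>
    have := c1_nor th_mem ih
    rwa [show ψ th * (ψ (th ^ k) * g * (ψ (th ^ k))⁻¹) * (ψ th)⁻¹ =
      ψ th * ψ (th ^ k) * g * (ψ th * ψ (th ^ k))⁻¹ by group, ← map_mul, ← pow_succ'] at this

theorem th_cm (k : ℕ) {w : A} (hw : w ∈ lV) (g : G) :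
    ⁅ψ (th ^ k) * g * (ψ (th ^ k))⁻¹, ψ w⁆ = ψ (th ^ k) * ⁅g, ψ w⁆ * (ψ (th ^ k))⁻¹ := by
  rw [cj_cm, mul_assoc _ w, ((V_facts w hw).2.1.pow_right k).eq, inv_mul_cancel_left]

theorem F_th : ∀ f ∈ lF, ∃ k : ℕ, ∃ b ∈ [1, s], th ^ k * b * (th ^ k)⁻¹ = f := by
  intro f hf
  simp only [lF, List.mem_cons, List.not_mem_nil, or_false] at hf
  rcases hf with rfl | rfl | rfl | rfl | rfl | rfl | rfl | rfl
  · exact ⟨0, 1, .head _, by simp⟩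
  · exact ⟨0, s, .tail _ (.head _), by simp⟩
  · exact ⟨1, s, .tail _ (.head _), by simp only [pow_succ, pow_zero]; cds; decide +kernel⟩
  · exact ⟨3, s, .tail _ (.head _), by simp only [pow_succ, pow_zero]; cds; decide +kernel⟩
  · exact ⟨2, s, .tail _ (.head _), by simp only [pow_succ, pow_zero]; cds; decide +kernel⟩
  · exact ⟨6, s, .tail _ (.head _), by simp only [pow_succ, pow_zero]; cds; decide +kernel⟩
  · exact ⟨4, s, .tail _ (.head _), by simp only [pow_succ, pow_zero]; cds; decide +kernel⟩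
  · exact ⟨5, s, .tail _ (.head _), by simp only [pow_succ, pow_zero]; cds; decide +kernel⟩

theorem c1_real0 (T : St ψ n L) (B : B1 ψ n) {b b' : A} (hb : b ∈ [1, s]) (hb' : b' ∈ [1, s]) :
    ∃ a ∈ lE, ⁅n * ψ a * n⁻¹, ψ t⁆ = ψ b ∧ ⁅n * ψ a * n⁻¹, ψ c⁆ = ψ b' :=
  let ⟨a, ha, e, e'⟩ := E_real b hb b' hb'
  ⟨a, ha, by rw [← nt' T B, n_cm T e hb], by rw [← nc' T B, n_cm T e' hb']⟩

theorem c1_real (T : St ψ n L) (B : B1 ψ n) (E : EE ψ n) {f f' : A} (hf : f ∈ lF) (hf' : f' ∈ lF) :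
    ∃ g, C1 ψ g ∧ ⁅g, ψ t⁆ = ψ f ∧ ⁅g, ψ c⁆ = ψ f' := by
  obtain ⟨k, b, hb, rfl⟩ := F_th f hf
  obtain ⟨k', b', hb', rfl⟩ := F_th f' hf'
  obtain ⟨a, ha, a1, a2⟩ := c1_real0 T B hb (.head _)
  obtain ⟨a', ha', b1, b2⟩ := c1_real0 T B (.head _) hb'
  have c1 := th_pow (c1_E2 T B E ha) k
  have c2 := th_pow (c1_E2 T B E ha') k'
  refine ⟨_, mul_mem (s := sC ψ) c1 c2, ?_, ?_⟩
  · rw [c1_hom c1 c2 t_mem, th_cm _ t_mem, th_cm _ t_mem, a1, b1]; simp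
  · rw [c1_hom c1 c2 c_mem, th_cm _ c_mem, th_cm _ c_mem, a2, b2]; simp

theorem c1_ker (T : St ψ n L) (B' : B2 ψ) (h : CF ψ g) (h1 : Commute g (ψ t)) (h2 : Commute g (ψ c)) :
    ∃ w ∈ lV, ∃ f ∈ lF, g = ψ (w * f) := by
  obtain ⟨σ, rfl⟩ := B' g h1 h2
  obtain ⟨w, hw, k⟩ := fixV (comm_ψ T.inj h1) (comm_ψ T.inj h2)
  have a := fun f hf => ((F_facts f hf).2.2.1 w hw).symm
  exact ⟨w, hw, _, memF k ((a _ s_mem).mul_left (comm_ψ T.inj h.1))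
    ((a _ x1_mem).mul_left (comm_ψ T.inj h.2.1)) ((a _ x2_mem).mul_left (comm_ψ T.inj h.2.2)), by
      rw [← mul_assoc, eq_inv_iff_mul_eq_one.1 (V_facts w hw).1.symm, one_mul]⟩

theorem c1_eq (T : St ψ n L) (B' : B2 ψ) (a : C1 ψ g) (b : C1 ψ h) (h1 : ⁅g, ψ t⁆ = ⁅h, ψ t⁆)
    (h2 : ⁅g, ψ c⁆ = ⁅h, ψ c⁆) : ∃ w ∈ lV, ∃ f ∈ lF, h = g * ψ (w * f) := by
  have a' := inv_mem (s := sC ψ) a
  obtain ⟨w, hw, f, hf, e⟩ := c1_ker T B' (mul_mem (s := sC ψ) a' b).1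
    (commutatorElement_eq_one_iff_commute.1 (by rw [c1_hom a' b t_mem, c1_inv' a t_mem, h1, inv_mul_cancel]))
    (commutatorElement_eq_one_iff_commute.1 (by rw [c1_hom a' b c_mem, c1_inv' a c_mem, h2, inv_mul_cancel]))
  exact ⟨w, hw, f, hf, by rw [← e, mul_inv_cancel_left]⟩

theorem zp_s {x : G} (h : x ∈ zpowers (ψ s)) : ∃ b ∈ [1, s], x = ψ b := by
  have : ψ s * ψ s = 1 := by rw [← map_mul, show s * s = 1 by cds; decide +kernel, map_one]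
  obtain ⟨k, rfl⟩ := h
  obtain ⟨j, rfl | rfl⟩ := Int.even_or_odd' k
  · exact ⟨1, .head _, by beta_reduce; rw [zpow_mul, zpow_two, this, one_zpow, map_one]⟩
  · exact ⟨s, .tail _ (.head _), by beta_reduce; rw [zpow_add_one, zpow_mul, zpow_two, this, one_zpow, one_mul]⟩

theorem V_n (T : St ψ n L) (B : B1 ψ n) {w : A} (hw : w ∈ lV) : ∃ u ∈ lU, ψ w = n * ψ u * n⁻¹ := by
  simp only [lV, List.mem_cons, List.not_mem_nil, or_false] at hw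
  rcases hw with rfl | rfl | rfl | rfl
  · exact ⟨1, .head _, by simp⟩
  · exact ⟨t', .tail _ (.head _), (nt' T B).symm⟩
  · exact ⟨c', .tail _ (.tail _ (.head _)), (nc' T B).symm⟩
  · exact ⟨t' * c', .tail _ (.tail _ (.tail _ (.head _))), by
      rw [map_mul, map_mul, ← conj_mul, nt' T B, nc' T B]⟩

theorem c1_comm (T : St ψ n L) (B' : B2 ψ) :
    (∀ g h, C1 ψ g → C1 ψ h → InF ψ ⁅g, h⁆) ∧ ∀ g, C1 ψ g → InF ψ (g * g) := by
  let N := normalizer (sF ψ : Set G)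
  have CN : ∀ g, CF ψ g → g ∈ N := fun g hg =>
    centralizer_le_normalizer _ fun x hx => (cf_comm hg hx).symm.eq
  have θN : ψ th ∈ N := mem_normalizer_iff.2 fun x => ⟨fun ⟨f, hf, e⟩ =>
    ⟨_, ((nor_facts _ th_mem).1 f hf).1, by rw [e, map_mul, map_mul, map_inv]⟩, fun ⟨f, hf, e⟩ =>
    ⟨_, ((nor_facts _ th_mem).1 f hf).2, by rw [map_mul, map_mul, map_inv, ← e]; group⟩⟩
  let π := QuotientGroup.mk' ((sF ψ).subgroupOf N)
  have hπ : ∀ x : N, π x = 1 ↔ InF ψ x := fun x => QuotientGroup.eq_one_iff x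
  let V : Subgroup (N ⧸ (sF ψ).subgroupOf N) :=
    { carrier := {x | ∃ w, ∃ hw : w ∈ lV, x = π ⟨ψ w, CN _ (cf_V hw)⟩}
      one_mem' := ⟨1, .head _, ((hπ _).2 ⟨1, .head _, rfl⟩).symm⟩
      mul_mem' := by
        rintro _ _ ⟨a, ha, rfl⟩ ⟨b, hb, rfl⟩
        exact ⟨_, ((V_facts a ha).2.2 b hb).1, (map_mul π _ _).symm.trans
          (congrArg π (Subtype.ext (map_mul ψ a b).symm))⟩
      inv_mem' := by
        rintro _ ⟨a, ha, rfl⟩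
        exact ⟨a, ha, (map_inv π _).symm.trans (congrArg π (Subtype.ext
          ((map_inv ψ a).symm.trans (congrArg ψ (V_facts a ha).1))))⟩ }
  have hV : ∀ x : N, (∃ w ∈ lV, ∃ f ∈ lF, (x : G) = ψ (w * f)) → π x ∈ V := by
    rintro x ⟨w, hw, f, hf, e⟩
    refine ⟨w, hw, ?_⟩
    rw [show x = ⟨ψ w, CN _ (cf_V hw)⟩ * ⟨ψ f, CN _ (c1_F hf).1⟩ from Subtype.ext (e.trans (map_mul ψ w f)),
      map_mul, (hπ ⟨ψ f, _⟩).2 ⟨f, hf, rfl⟩, mul_one]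
  have hK : ∀ x : N, C1 ψ x → (∀ w ∈ [t, c], ⁅(x : G), ψ w⁆ = 1) → π x ∈ V := fun x a b =>
    hV x (c1_ker T B' a.1 (commutatorElement_eq_one_iff_commute.1 (b t (.head _)))
      (commutatorElement_eq_one_iff_commute.1 (b c (.tail _ (.head _)))))
  have tc : ∀ w ∈ [t, c], w ∈ lV := fun w hw => by
    simp only [List.mem_cons, List.not_mem_nil, or_false] at hw
    rcases hw with rfl | rfl
    exacts [t_mem, c_mem]
  obtain ⟨k1, k2⟩ := abs_comm (D := ((sC ψ).subgroupOf N).map π) (V := V) (θ := π ⟨ψ th, θN⟩)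
    (by rintro _ ⟨w, hw, rfl⟩; exact ⟨_, c1_V hw, rfl⟩)
    (by rintro _ ⟨g, hg, rfl⟩; exact ⟨⟨ψ th, θN⟩ * g * ⟨ψ th, θN⟩⁻¹, c1_nor th_mem hg, rfl⟩)
    (by
      rw [← map_pow, show (⟨ψ th, θN⟩ : N) ^ 7 = 1 from Subtype.ext (by
        rw [SubmonoidClass.coe_pow, ← map_pow, show th ^ 7 = 1 by
          simp only [pow_succ, pow_zero]; cds; decide +kernel, map_one]; rfl), map_one])
    (by
      rintro _ ⟨w, hw, rfl⟩ _ ⟨g, hg, rfl⟩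
      rw [← commutatorElement_eq_one_iff_commute, ← map_commutatorElement]
      exact (hπ _).2 (c1_w hg hw))
    (by
      rintro _ ⟨w, hw, rfl⟩
      rw [← map_mul, ← map_inv, ← map_mul]
      exact congrArg π (Subtype.ext (mul_inv_eq_iff_eq_mul.2 ((V_facts w hw).2.1.map ψ).symm.eq)))
    (by
      rintro _ ⟨g, hg, rfl⟩ _ ⟨h, hh, rfl⟩
      have a : C1 ψ g := hg
      have b : C1 ψ h := hh
      have a' : C1 ψ (g : G)⁻¹ := inv_mem (s := sC ψ) a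
      have b' : C1 ψ (h : G)⁻¹ := inv_mem (s := sC ψ) b
      have c1 : C1 ψ (g * h) := mul_mem (s := sC ψ) a b
      have c2 : C1 ψ (g * h * (g : G)⁻¹) := mul_mem (s := sC ψ) c1 a'
      rw [← map_commutatorElement]
      refine hK _ (mul_mem (s := sC ψ) c2 b') fun w hw => ?_
      replace hw := tc w hw
      change ⁅(g : G) * h * (g : G)⁻¹ * (h : G)⁻¹, _⁆ = 1
      rw [c1_hom c2 b' hw, c1_hom c1 a' hw, c1_hom a b hw, c1_inv' a hw, c1_inv' b hw]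
      exact (cf_comm (cf_F (c1_w a hw)) (c1_w b hw)).commutator_eq)
    (by
      rintro _ ⟨g, hg, rfl⟩
      have a : C1 ψ g := hg
      have a1 := c1_nor th_mem a
      have a2 := c1_nor th_mem (c1_nor th_mem a1)
      have a3 : C1 ψ _ := mul_mem (s := sC ψ) a a1
      have k : ∀ w ∈ lV, ⁅g * (ψ th * g * (ψ th)⁻¹), ψ w⁆ =
          ⁅ψ th * (ψ th * (ψ th * g * (ψ th)⁻¹) * (ψ th)⁻¹) * (ψ th)⁻¹, ψ w⁆ := fun w hw => by
        have := fun g => th_cm (ψ := ψ) 1 hw g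
        simp only [pow_one] at this
        obtain ⟨f, hf, e⟩ := c1_w a hw
        rw [c1_hom a a1 hw, this, this, this, this, e]
        simp only [← map_inv, ← map_mul]
        refine congrArg ψ ?_
        clear e; cds; cdz f hf hF; decide +kernel
      obtain ⟨w, hw, f, hf, e⟩ := c1_eq T B' a3 a2 (k _ t_mem) (k _ c_mem)
      refine ⟨π ⟨ψ (w * f), CN _ (map_mul ψ w f ▸ (mul_mem (s := sC ψ) (c1_V hw) (c1_F hf)).1)⟩,
        hV _ ⟨w, hw, f, hf, rfl⟩, ?_⟩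
      simp only [← map_inv, ← map_mul]
      exact congrArg π (Subtype.ext e))
    (by
      rintro _ ⟨w, hw, rfl⟩
      rw [← map_mul]
      refine (hπ _).2 ⟨1, .head _, ?_⟩
      exact (map_mul ψ w w).symm.trans (congrArg ψ (eq_inv_iff_mul_eq_one.1 (V_facts w hw).1.symm)))
    (by
      rintro _ ⟨g, hg, rfl⟩
      have a : C1 ψ g := hg
      rw [← map_mul]
      refine hK _ (mul_mem (s := sC ψ) a a) fun w hw => ?_
      obtain ⟨f, hf, e⟩ := c1_w a (tc w hw)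
      rw [coe_mul, c1_hom a a (tc w hw), e, ← map_mul, eq_inv_iff_mul_eq_one.1 (F_facts f hf).2.1.symm,
        map_one])
  exact ⟨fun g h a b => (hπ ⁅⟨g, CN g a.1⟩, ⟨h, CN h b.1⟩⁆).1 ((map_commutatorElement π _ _).trans
    (k1 _ ⟨_, a, rfl⟩ _ ⟨_, b, rfl⟩)),
    fun g a => (hπ (⟨g, CN g a.1⟩ * ⟨g, CN g a.1⟩)).1 (k2 _ ⟨_, a, rfl⟩)⟩

theorem jobC : JobC.{u} := by
  intro G _ _ ψ n L T B B' E
  obtain ⟨cm, sq⟩ := c1_comm T B'
  refine ⟨fun _ _ => mul_mem (s := sC ψ), fun _ => inv_mem (s := sC ψ), fun _ _ a b _ => c1_hom a b,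
    fun _ a _ => c1_nor a, fun _ => c1_E2 T B E, fun _ a _ => c1_real T B E a, fun _ => c1_ker T B',
    fun g a h1 h2 => ?_, cm, sq, fun a ha h1 h2 g hg h3 h4 => ?_⟩
  · obtain ⟨b, hb, e⟩ := zp_s h1
    obtain ⟨b', hb', e'⟩ := zp_s h2
    obtain ⟨x, hx, k, k'⟩ := c1_real0 T B hb hb'
    obtain ⟨w, hw, f, hf, z⟩ := c1_eq T B' (c1_E2 T B E hx) a (k.trans e.symm) (k'.trans e'.symm)
    obtain ⟨u, hu, z'⟩ := V_n T B hw
    exact ⟨_, (E_cm x hx).2.2.1 u hu, f, hf, by rw [z, map_mul, map_mul, z']; group⟩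
  have hn : ∀ {a b : A}, Commute (n * ψ a * n⁻¹) (n * ψ b * n⁻¹) ↔ Commute a b := fun {a b} =>
    ⟨fun e => comm_ψ T.inj (by simpa [mul_assoc] using cj_comm n⁻¹ e), fun e => cj_comm n (e.map ψ)⟩
  have he := c1_E2 T B E ha
  obtain ⟨b, hb, e1⟩ : ∃ b ∈ lF, ψ r' * (n * ψ a * n⁻¹) * (ψ r')⁻¹ = n * ψ a * n⁻¹ * ψ t * ψ b := by
    rw [← B.nr, conj_inv, conj_mul, conj_mul, ← map_inv, ← map_mul, ← map_mul]
    rcases (E_cm a ha).2.2.2 (hn.1 (by rwa [nt' T B])) (fun e => h2 (by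
      rw [← nc' T B]; exact hn.2 e)) with z | z <;> rw [z]
    · exact ⟨1, .head _, by rw [map_mul, ← conj_mul, nt' T B, map_one, mul_one]⟩
    · exact ⟨s, s_mem, by rw [map_mul, map_mul, ← conj_mul, ← conj_mul, nt' T B, ns T]⟩
  obtain ⟨w, hw, f, hf, e2⟩ := c1_eq T B' hg (c1_nor (a := r') (.tail _ (.tail _ (.head _))) hg)
    (by
      rw [cj_cm, show r'⁻¹ * t * r' = t by cds; decide +kernel, h3, ← map_inv, ← map_mul, ← map_mul]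
      exact congrArg ψ (by cds; decide +kernel))
    (by rw [cj_cm, show r'⁻¹ * c * r' = c by cds; decide +kernel, h4.commutator_eq, mul_one,
      mul_inv_cancel])
  have l : ∀ {g g' h}, C1 ψ g → C1 ψ g' → C1 ψ h → ⁅g * g', h⁆ = ⁅g, h⁆ * ⁅g', h⁆ := fun a b c =>
    cm_left (cf_comm a.1 (cm _ _ b c)) (cf_comm (cf_F (cm _ _ b c)) (cm _ _ a c))
  have r : ∀ {g h h'}, C1 ψ g → C1 ψ h → C1 ψ h' → ⁅g, h * h'⁆ = ⁅g, h⁆ * ⁅g, h'⁆ := fun a b c =>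
    cm_right (cf_comm b.1 (cm _ _ a c))
  have c1 : C1 ψ (n * ψ a * n⁻¹ * ψ t) := mul_mem (s := sC ψ) he (c1_V t_mem)
  have c2 : C1 ψ (g * ψ w) := mul_mem (s := sC ψ) hg (c1_V hw)
  have c3 : C1 ψ (g * ψ w * ψ f) := mul_mem (s := sC ψ) c2 (c1_F hf)
  obtain ⟨γ, hγ, e3⟩ := cm _ _ he hg
  obtain ⟨u, hu, e4⟩ := V_n T B hw
  have e5 : ⁅a, u⁆ ∈ [1, s] := by clear e4 e1 e3; cds; cdz a ha hE; cdz u hu hU; decide +kernel
  have e6 := conjugate_commutatorElement (n * ψ a * n⁻¹) g (ψ r')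
  rw [e1, e2, e3, map_mul, ← mul_assoc g, l c1 (c1_F hb) c3,
    (cf_comm c3.1 ⟨b, hb, rfl⟩).symm.commutator_eq, mul_one, r c1 c2 (c1_F hf),
    (cf_comm c1.1 ⟨f, hf, rfl⟩).commutator_eq, mul_one, l he (c1_V t_mem) c2, r he hg (c1_V hw),
    r (c1_V t_mem) hg (c1_V hw), (((V_facts w hw).2.2 t t_mem).2.map ψ).symm.commutator_eq, mul_one,
    ← commutatorElement_inv g (ψ t), h3, e3, e4, n_cm T rfl e5, ← map_inv, ← map_inv, ← map_mul, ← map_mul,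
    ← map_mul, ← map_mul] at e6
  refine ⟨γ, ?_, e3⟩
  replace e6 := T.inj e6
  generalize ⁅a, u⁆ = y at e5 e6
  simp only [List.mem_cons, List.not_mem_nil, or_false] at e5
  clear e3
  rcases e5 with rfl | rfl <;> revert e6 <;> cds <;> cdz γ hγ hF <;> decide +kernel

end H3.Hn
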