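import Cfsg.Agent.H3.HnK

/-! HN3, job E. -/

set_option autoImplicit false

namespace H3.Hn

open Equiv H16.HN3

attribute [local instance high] List.decidableBAll List.decidableBEx

universe u

variable {G : Type*} [Group G] {ψ : A →* G} {n : G} {L : Subgroup G}

theorem comm_ψ (h : Function.Injective ψ) {a b : A} (e : Commute (ψ a) (ψ b)) : Commute a b :=
  h (by rw [map_mul, map_mul, e.eq])

theorem cj_comm {a b : G} (g : G) (h : Commute a b) : Commute (g * a * g⁻¹) (g * b * g⁻¹) := by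
  rw [Commute, SemiconjBy, conj_mul, conj_mul, h.eq]

theorem ns (T : St ψ n L) : n * ψ s * n⁻¹ = ψ s := by rw [← T.nn]; group

theorem nn (T : St ψ n L) {a : A} (h : Commute s a) : n * (n * ψ a * n⁻¹) * n⁻¹ = ψ a := by
  rw [show n * (n * ψ a * n⁻¹) * n⁻¹ = n * n * ψ a * (n * n)⁻¹ by group, T.nn, ← map_mul, h.eq, map_mul,
    mul_inv_cancel_right]

theorem nt' (T : St ψ n L) (B : B1 ψ n) : n * ψ t' * n⁻¹ = ψ t := by
  rw [← B.nt, nn T (by cds; decide +kernel)]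

theorem nc' (T : St ψ n L) (B : B1 ψ n) : n * ψ c' * n⁻¹ = ψ c := by
  rw [← B.nc, nn T (by cds; decide +kernel)]

theorem np (T : St ψ n L) : n * ψ p * n⁻¹ = ψ e1 := by
  rw [← T.n1, nn T (by cds; decide +kernel)]

/-- the norm of `x` under `p` -/
def nm (x : A) : A := x * (p * x * p⁻¹) * (p * p * x * (p * p)⁻¹)

theorem E_char : ∀ w ∈ lV, ∀ a ∈ lE, ∀ q ∈ lQ,
    w⁻¹ * (a * q) * (w⁻¹ * (a * q)) * (w⁻¹ * (a * q) * (w⁻¹ * (a * q))) = 1 →
    nm (w⁻¹ * (a * q)) ∈ [1, s] → w⁻¹ * (a * q) ∈ lE := by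
  intro w hw a ha q hq
  rw [nm]; cds; cdz q hq hQ; cdz a ha hE; cdz w hw hV
  decide +kernel

theorem E_facts : ∀ a ∈ lE, Commute a s ∧ Commute a t ∧ Commute a c ∧ Commute a e1 ∧
    a * a * (a * a) = 1 ∧ nm a ∈ [1, s] ∧ ∀ u ∈ [t', c'], a⁻¹ * u * a = u ∨ a⁻¹ * u * a = u * s := by
  intro a ha
  simp only [nm, List.forall_mem_cons, List.not_mem_nil, false_imp_iff, implies_true, and_true]
  cds; cdz a ha hE
  decide +kernel

theorem E_eq : ∀ a ∈ lE, ∀ b ∈ lE, Commute (a * b⁻¹) p → nm a = nm b → a = b := by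
  intro a ha b hb
  simp only [nm]
  cds; cdz a ha hE; cdz b hb hE
  decide +kernel

theorem E_nor (T : St ψ n L) (B : B1 ψ n) (B' : B2 ψ) {a b : A} (ha : a ∈ lE) (hb : b ∈ lE) :
    ∃ b' ∈ lE, n * ψ a * n⁻¹ * ψ b * (n * ψ a * n⁻¹)⁻¹ = ψ b' ∧ nm b' = nm b := by
  obtain ⟨a1, -, -, a2, -, -, a3⟩ := E_facts a ha
  obtain ⟨b1, b2, b3, -, b4, b5, -⟩ := E_facts b hb
  have g1 : Commute (n * ψ a * n⁻¹) (ψ s) := by rw [← ns T]; exact cj_comm n (a1.map ψ)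
  have g2 : Commute (n * ψ a * n⁻¹) (ψ p) := by rw [← T.n1]; exact cj_comm n (a2.map ψ)
  have g3 : ∀ u ∈ [t', c'], Commute (ψ b) (n * ψ u * n⁻¹) →
      Commute (n * ψ a * n⁻¹ * ψ b * (n * ψ a * n⁻¹)⁻¹) (n * ψ u * n⁻¹) := fun u hu e => by
    have : Commute (ψ b) (n * ψ (a⁻¹ * u * a) * n⁻¹) := by
      rcases a3 u hu with z | z <;> rw [z]
      · exact e
      · rw [map_mul, ← conj_mul, ns T]; exact e.mul_right (b1.map ψ)
    have := cj_comm (n * ψ a * n⁻¹) this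
    rwa [map_mul, map_mul, map_inv, show n * ψ a * n⁻¹ * (n * ((ψ a)⁻¹ * ψ u * ψ a) * n⁻¹) *
      (n * ψ a * n⁻¹)⁻¹ = n * ψ u * n⁻¹ by group] at this
  have g4 := g3 t' (.head _) (by rw [nt' T B]; exact b2.map ψ)
  have g5 := g3 c' (.tail _ (.head _)) (by rw [nc' T B]; exact b3.map ψ)
  rw [nt' T B] at g4
  rw [nc' T B] at g5
  generalize n * ψ a * n⁻¹ = g at *
  obtain ⟨σ, e⟩ := B' _ g4 g5
  have g6 := cj_comm g (b1.map ψ)
  rw [g1.eq, mul_inv_cancel_right] at g6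
  rw [← e] at g4 g5 g6
  have g7 : nm σ = nm b := T.inj (by
    have : Commute g (ψ (nm b)) := by
      simp only [List.mem_cons, List.not_mem_nil, or_false] at b5
      rcases b5 with z | z <;> rw [z]
      exacts [map_one ψ ▸ Commute.one_right g, g1]
    rw [← mul_inv_cancel_right (ψ (nm b)) g, ← this.eq]
    simp only [nm, map_mul, map_inv, e]
    conv_lhs => rw [← mul_inv_cancel_right (ψ p) g, ← g2.eq]
    group)
  have g8 : σ * σ * (σ * σ) = 1 := T.inj (by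
    simp only [map_mul, e, conj_mul]
    rw [← map_mul, ← map_mul, b4, map_one, mul_one, mul_inv_cancel])
  refine ⟨σ, ?_, e.symm, g7⟩
  obtain ⟨w, hw, k⟩ := fixV (comm_ψ T.inj g4) (comm_ψ T.inj g5)
  have : Commute w s := by clear k; cds; cdz w hw hV; decide +kernel
  obtain ⟨x, hx, q, hq, k'⟩ := memE k (this.mul_left (comm_ψ T.inj g6))
  rw [← eq_inv_mul_iff_mul_eq] at k'
  rw [← g7] at b5
  rw [k'] at g8 b5 ⊢
  exact E_char w hw x hx q hq g8 b5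

theorem jobE : JobE.{u} := by
  intro G _ _ ψ n L T B B' b hb a ha
  obtain ⟨b', hb', e, k⟩ := E_nor T B B' ha hb
  obtain ⟨a', ha', e', -⟩ := E_nor T B B' hb ha
  have h1 : Commute (n * ψ a * n⁻¹) (ψ p) := T.n1 ▸ cj_comm n ((E_facts a ha).2.2.2.1.map ψ)
  have h2 : Commute (n * ψ a' * n⁻¹) (ψ p) := T.n1 ▸ cj_comm n ((E_facts a' ha').2.2.2.1.map ψ)
  have h3 : ψ (b' * b⁻¹) = n * ψ a * n⁻¹ * (n * ψ a' * n⁻¹)⁻¹ := by
    rw [map_mul, map_inv, ← e, ← e']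
    conv_lhs => rw [← nn T (E_facts b hb).1.symm]
    group
  rw [E_eq b' hb' b hb (comm_ψ T.inj (h3 ▸ h1.mul_left h2.inv_left)) k, mul_inv_eq_iff_eq_mul] at e
  exact e.symm

end H3.Hn
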