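import Cfsg.Agent.H16.HN3Spec
import Cfsg.Agent.H16.HNH1

/-! HN3: elements of `A₁₂` as numbers in base sixteen, for fast finite checks. -/

set_option autoImplicit false

namespace H3.Hn

open Equiv H16.HN3

attribute [local instance high] List.decidableBAll List.decidableBEx

/-- digit `i` of `n` -/
def tb (n i : ℕ) : ℕ := n >>> (4 * i) % 16

/-- the number with the given digits -/
def pl (l : List ℕ) : ℕ := l.foldr (fun a r => a + 16 * r) 0

/-- the number with the twelve digits `f i` -/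
def pack (f : ℕ → ℕ) : ℕ := pl [f 0, f 1, f 2, f 3, f 4, f 5, f 6, f 7, f 8, f 9, f 10, f 11]

theorem tb_zero {a : ℕ} (h : a < 16) (b : ℕ) : tb (a + 16 * b) 0 = a := by
  rw [tb, Nat.shiftRight_eq_div_pow]; omega

theorem tb_succ {a : ℕ} (h : a < 16) (b i : ℕ) : tb (a + 16 * b) (i + 1) = tb b i := by
  rw [tb, tb, Nat.shiftRight_eq_div_pow, Nat.shiftRight_eq_div_pow, mul_add, pow_add, mul_comm (2 ^ _),
    ← Nat.div_div_eq_div_mul, show (a + 16 * b) / 2 ^ (4 * 1) = b by omega]

theorem tb_pl (l : List ℕ) : (∀ a ∈ l, a < 16) → ∀ i (h : i < l.length), tb (pl l) i = l[i] := by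
  induction l with
  | nil => intro _ i h; simp at h
  | cons a l ih =>
    intro h i hi
    have h0 := h a (by simp)
    rcases i with _ | i
    · exact tb_zero h0 _
    · exact (tb_succ h0 _ _).trans (ih (fun b hb => h b (by simp [hb])) i _)

theorem pack_eq (f : ℕ → ℕ) : pack f = pl ((List.range 12).map f) := rfl

theorem tb_pack {f : ℕ → ℕ} (h : ∀ i < 12, f i < 16) {i : ℕ} (hi : i < 12) : tb (pack f) i = f i := by
  rw [pack_eq, tb_pl _ (by simpa using h) i (by simpa using hi)]
  simp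

theorem pack_congr {f g : ℕ → ℕ} (h : ∀ i < 12, f i = g i) : pack f = pack g := by
  rw [pack_eq, pack_eq, List.map_congr_left fun i hi => h i (List.mem_range.1 hi)]

/-- the code of a permutation -/
def cd (σ : A) : ℕ := pack fun i => (σ.1 (Fin.ofNat 12 i)).val

/-- product of codes -/
def mc (a b : ℕ) : ℕ := pack fun i => tb a (tb b i)

/-- inverse of a code -/
def ic (a : ℕ) : ℕ := pack fun i => (List.range 12).findIdx fun j => tb a j == i

theorem tb_cd (σ : A) (i : Fin 12) : tb (cd σ) i = (σ.1 i).val := by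
  rw [cd, tb_pack (fun j _ => (σ.1 _).2.trans (by omega)) i.2, Fin.ofNat_val_eq_self]

theorem tb_cd' (σ : A) {i : ℕ} (h : i < 12) : tb (cd σ) i = (σ.1 (Fin.ofNat 12 i)).val := by
  rw [← tb_cd, Fin.val_ofNat, Nat.mod_eq_of_lt h]

theorem cd_inj {σ τ : A} : σ = τ ↔ cd σ = cd τ :=
  ⟨congrArg _, fun h => Subtype.ext (Equiv.ext fun i => Fin.ext (by rw [← tb_cd, h, tb_cd]))⟩

theorem cd_mul (σ τ : A) : cd (σ * τ) = mc (cd σ) (cd τ) :=
  pack_congr fun i hi => by rw [tb_cd' τ hi, tb_cd]; rfl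

theorem cd_inv (σ : A) : cd σ⁻¹ = ic (cd σ) := pack_congr fun i hi => by
  have h1 := ((σ⁻¹).1 (Fin.ofNat 12 i)).2
  refine (List.findIdx_eq (by simp)).2 ⟨?_, fun j hj => ?_⟩ |>.symm
  · rw [List.getElem_range, tb_cd]
    simp [Nat.mod_eq_of_lt hi]
  · have h2 := hj.trans h1
    rw [List.getElem_range, tb_cd' σ h2, Bool.eq_false_iff]
    intro e
    have : σ.1 (Fin.ofNat 12 j) = Fin.ofNat 12 i :=
      Fin.ext (by rw [Fin.val_ofNat, Nat.mod_eq_of_lt hi]; simpa using e)
    rw [← this] at hj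
    simp [Nat.mod_eq_of_lt h2] at hj

theorem cd_mem {σ : A} {l : List A} : σ ∈ l ↔ cd σ ∈ l.map cd :=
  ⟨List.mem_map_of_mem, fun h => let ⟨_, a, b⟩ := List.mem_map.1 h; cd_inj.2 b ▸ a⟩

theorem mem_cd {l : List A} {c : List ℕ} (h : l.map cd = c) {a : A} (ha : a ∈ l) : cd a ∈ c :=
  h ▸ List.mem_map_of_mem ha

theorem ex_cd {l : List A} {c : List ℕ} (h : l.map cd = c) {Q : ℕ → Prop} (H : ∃ n ∈ c, Q n) :
    ∃ a ∈ l, Q (cd a) :=
  let ⟨_, a, b⟩ := H; let ⟨x, u, v⟩ := List.mem_map.1 (h ▸ a); ⟨x, u, v ▸ b⟩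

/-- replace an element of a list of permutations by its code -/
scoped macro "cdz " a:ident ha:ident h:term : tactic =>
  `(tactic| (replace $ha := mem_cd $h $ha; generalize cd $a = n at $ha ⊢; revert n))

def lQ : List A := [1, p, p * p, r', p * r', p * p * r']
def lU : List A := [1, t', c', t' * c']
def cE : List ℕ := [205163983024656, 205099306856976, 188671056949776, 188606884098576,
  188606631457296, 188671307624976, 205099557532176, 205163730383376, 167926048371216,
  167861372203536, 151433122296336, 151368949445136, 151368696803856, 151433372971536,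
  167861622878736, 167925795729936, 130106279866896, 130041603699216, 113613353792016,
  113549180940816, 113548928299536, 113613604467216, 130041854374416, 130106027225616,
  92868345213456, 92803669045776, 76375419138576, 76311246287376, 76310993646096, 76375669813776,
  92803919720976, 92868092572176]
def cF : List ℕ := [205163983024656, 188606631457296, 167926048371216, 151368696803856,
  130106279866896, 113548928299536, 92868345213456, 76310993646096]
def cV : List ℕ := [205163983024656, 205163983020801, 205163983015986, 205163983012131]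
def cQ : List ℕ := [205163983024656, 130543791649296, 167635699642896, 167926616568336,
  205018524561936, 130398333186576]
def cU : List ℕ := [205163983024656, 205099306856976, 188671056949776, 188606884098576]
theorem hE : lE.map cd = cE := by decide +kernel
theorem hF : lF.map cd = cF := by decide +kernel
theorem hV : lV.map cd = cV := by decide +kernel
theorem hQ : lQ.map cd = cQ := by decide +kernel
theorem hU : lU.map cd = cU := by decide +kernel
theorem c_1 : cd 1 = 205163983024656 := by decide +kernel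
theorem c_t : cd t = 205163983020801 := by decide +kernel
theorem c_c : cd c = 205163983015986 := by decide +kernel
theorem c_e1 : cd e1 = 205163983024161 := by decide +kernel
theorem c_p : cd p = 130543791649296 := by decide +kernel
theorem c_s : cd s = 188606631457296 := by decide +kernel
theorem c_r' : cd r' = 167926616568336 := by decide +kernel
theorem c_t' : cd t' = 205099306856976 := by decide +kernel
theorem c_c' : cd c' = 188671056949776 := by decide +kernel
theorem c_x1 : cd x1 = 167926048371216 := by decide +kernel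
theorem c_x2 : cd x2 = 130106279866896 := by decide +kernel
theorem c_x3 : cd x3 = 92868345213456 := by decide +kernel
theorem c_th : cd th = 170800789598736 := by decide +kernel

/-- rewrite a statement on `A₁₂` in terms of codes -/
scoped macro "cds" : tactic =>
  `(tactic| simp only [Commute, SemiconjBy, commutatorElement_def, ne_eq, cd_inj, cd_mem, cd_mul,
    cd_inv, List.map, hE, hF, hV, hQ, hU, c_1, c_t, c_c, c_e1, c_p, c_s, c_r', c_t', c_c', c_x1, c_x2,
    c_x3, c_th])

theorem fix_of {τ q : A} {o : Fin 12} (h : Commute τ q) (ho : τ.1 o = o) : τ.1 (q.1 o) = q.1 o :=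
  H16.HNH.fix_of (congrArg Subtype.val h.eq) ho

theorem fixV {σ : A} (h1 : Commute σ t) (h2 : Commute σ c) :
    ∃ w ∈ lV, ∀ i : Fin 12, i.val < 4 → (w * σ).1 i = i := by
  obtain ⟨e, he, h⟩ := H16.HNH.f1 (congrArg Subtype.val h1.eq) (congrArg Subtype.val h2.eq)
  obtain ⟨w, hw, rfl⟩ := List.mem_map.1 (show e ∈ lV.map Subtype.val from he)
  exact ⟨w, hw, h⟩

theorem fixF {τ : A} (h : ∀ i : Fin 12, i.val < 4 → τ.1 i = i) :
    ∃ f ∈ lF, ∀ i : Fin 12, i.val < 5 → (f * τ).1 i = i := by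
  have a : ∀ j : Fin 12, ¬ j.val < 4 → ∃ f ∈ lF, f.1 j = 4 ∧ ∀ i : Fin 12, i.val < 4 → f.1 i = i := by
    decide +kernel
  obtain ⟨f, hf, b, c⟩ := a (τ.1 4) fun z => absurd (τ.1.injective (h _ z) ▸ z) (by decide)
  refine ⟨f, hf, fun i hi => ?_⟩
  by_cases z : i.val < 4
  · exact (congrArg f.1 (h i z)).trans (c i z)
  · rwa [show i = 4 from Fin.ext (by omega)]

theorem memF {τ : A} (h : ∀ i : Fin 12, i.val < 4 → τ.1 i = i) (h1 : Commute τ s) (h2 : Commute τ x1)
    (h3 : Commute τ x2) : τ ∈ lF := by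
  obtain ⟨f, hf, a⟩ := fixF h
  have b : Commute f s ∧ Commute f x1 ∧ Commute f x2 ∧ f⁻¹ ∈ lF := by
    clear a; cds; cdz f hf hF; decide +kernel
  have c1 := b.1.mul_left h1
  have c2 := b.2.1.mul_left h2
  have c3 := b.2.2.1.mul_left h3
  have a4 := a 4 (by decide)
  have : f * τ = 1 := Subtype.ext (Equiv.ext fun i => by
    have : i.val < 5 ∨ i = s.1 4 ∨ i = x1.1 4 ∨ i = s.1 (x1.1 4) ∨ i = x2.1 4 ∨ i = s.1 (x2.1 4) ∨
      i = x1.1 (x2.1 4) ∨ i = s.1 (x1.1 (x2.1 4)) := by revert i; decide +kernel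
    rcases this with z | rfl | rfl | rfl | rfl | rfl | rfl | rfl
    exacts [a i z, fix_of c1 a4, fix_of c2 a4, fix_of c1 (fix_of c2 a4), fix_of c3 a4,
      fix_of c1 (fix_of c3 a4), fix_of c2 (fix_of c3 a4), fix_of c1 (fix_of c2 (fix_of c3 a4))])
  exact eq_inv_of_mul_eq_one_right this ▸ b.2.2.2

theorem memE {τ : A} (h : ∀ i : Fin 12, i.val < 4 → τ.1 i = i) (h1 : Commute τ s) :
    ∃ a ∈ lE, ∃ q ∈ lQ, τ = a * q := by
  obtain ⟨f, hf, a⟩ := fixF h
  have b : Commute f s ∧ ∀ u ∈ lU, f⁻¹ * u ∈ lE := by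
    clear a
    refine ⟨?_, fun u hu => ?_⟩ <;> cds
    · cdz f hf hF; decide +kernel
    · cdz f hf hF; cdz u hu hU; decide +kernel
  have c1 := b.1.mul_left h1
  generalize e : f * τ = ρ at a c1
  have a5 : ∀ i : Fin 12, i.val < 6 → ρ.1 i = i := fun i hi => by
    by_cases z : i.val < 5
    · exact a i z
    · rw [show i = s.1 4 from Fin.ext (by rw [show (s.1 4).val = 5 by decide +kernel]; omega)]
      exact fix_of c1 (a 4 (by decide))
  have n6 : ∀ i : Fin 12, ¬ i.val < 6 → ¬ (ρ.1 i).val < 6 := fun i hi z =>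
    hi (ρ.1.injective (a5 _ z) ▸ z)
  have k : ∀ i j : Fin 12, ¬ i.val < 6 → ¬ j.val < 6 → i ≠ j → tb (cd s) i ≠ j →
      ∃ u ∈ cU, ∃ q ∈ cQ, tb (mc u q) 6 = i ∧ tb (mc u q) 8 = j := by
    rw [c_s]; decide +kernel
  obtain ⟨u, hu, k⟩ := ex_cd hU (k (ρ.1 6) (ρ.1 8) (n6 _ (by decide)) (n6 _ (by decide))
    (ρ.1.injective.ne (by decide)) fun z => by
      rw [tb_cd, ← Perm.mul_apply, show s.1 * ρ.1 = ρ.1 * s.1 from congrArg Subtype.val c1.symm.eq] at z
      exact absurd (ρ.1.injective (Fin.ext z)) (by decide +kernel))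
  obtain ⟨q, hq, k1, k2⟩ := ex_cd hQ k
  rw [← cd_mul] at k1 k2
  replace k1 : (u * q).1 6 = ρ.1 6 := Fin.ext ((tb_cd _ 6).symm.trans k1)
  replace k2 : (u * q).1 8 = ρ.1 8 := Fin.ext ((tb_cd _ 8).symm.trans k2)
  have k3 : Commute (u * q) s ∧ ∀ i : Fin 12, i.val < 6 → tb (cd (u * q)) i = i := by
    clear k k1 k2; cds; cdz u hu hU; cdz q hq hQ; decide +kernel
  refine ⟨_, b.2 u hu, q, hq, ?_⟩
  rw [mul_assoc, eq_inv_mul_iff_mul_eq, e, ← inv_mul_eq_one]
  have d1 := c1.inv_left.mul_left k3.1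
  have d2 : ∀ i : Fin 12, (u * q).1 i = ρ.1 i → (ρ⁻¹ * (u * q)).1 i = i := fun i z =>
    (congrArg ρ.1.symm z).trans (ρ.1.symm_apply_apply i)
  have d3 : ∀ i : Fin 12, i.val < 10 → (ρ⁻¹ * (u * q)).1 i = i := fun i hi => by
    have : i.val < 6 ∨ i = 6 ∨ i = s.1 6 ∨ i = 8 ∨ i = s.1 8 := by revert i; decide +kernel
    rcases this with z | rfl | rfl | rfl | rfl
    exacts [d2 i ((Fin.ext ((tb_cd _ i).symm.trans (k3.2 i z))).trans (a5 i z).symm), d2 _ k1,
      fix_of d1 (d2 _ k1), d2 _ k2, fix_of d1 (d2 _ k2)]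
  generalize ρ⁻¹ * (u * q) = κ at d1 d3
  have d4 : κ.1 11 = s.1 (κ.1 10) := congrArg (fun x : A => x.1 10) d1.eq
  have d5 : ¬ (κ.1 10).val < 10 := fun z => absurd (κ.1.injective (d3 _ z) ▸ z) (by decide)
  have d6 : ∀ i : Fin 12, i.val < 10 ∨ i = 10 ∨ i = 11 := by decide
  rcases (d6 _).resolve_left d5 with z | z <;> rw [z] at d4
  · refine Subtype.ext (Equiv.ext fun i => ?_)
    rcases d6 i with y | rfl | rfl
    exacts [d3 i y, z, d4]
  · have : κ.1 = swap 10 11 := Equiv.ext fun i => by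
      rcases d6 i with y | rfl | rfl
      exacts [(d3 i y).trans (by revert i; decide +kernel), z, d4]
    exact absurd (this ▸ Perm.mem_alternatingGroup.1 κ.2) (by decide +kernel)

end H3.Hn
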