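import Cfsg.Agent.H82.HRKit

/-! HR tower, job G2: if the groups `N c ⊓ N d` have even order then strong closure holds. -/

set_option autoImplicit false

namespace H3.HR

open MulAction Cfsg Subgroup H89.K H98 H82.TP H82.HR

universe u v

theorem ex_two {G : Type*} [Group G] [Finite G] {X : Subgroup G} (h : Even (Nat.card X)) :
    ∃ s ∈ X, s * s = 1 ∧ s ≠ 1 := by
  have : Fact (Nat.Prime 2) := ⟨Nat.prime_two⟩
  obtain ⟨s, hs⟩ := exists_prime_orderOf_dvd_card' (G := X) 2 h.two_dvd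
  have h2 : orderOf (s : G) = 2 := by rw [Subgroup.orderOf_coe, hs]
  exact ⟨s, s.2, sq_of_ord h2, ne_of_ord h2⟩

section G2

variable {G Ω : Type*} [Group G] [Finite G] [MulAction G Ω] {N : Ω → Subgroup G} {q : ℕ}
  {a b c d : Ω} {U U' : Subgroup G} {x y t w : G}

/-- strong closure for one pair -/
def SCp (N : Ω → Subgroup G) (a b : Ω) : Prop := ∀ z ∈ N a, z * z = 1 → z • b = b → z ∈ N b

/-- the involutions of `N c ⊓ N d`, with `1` -/
def YY (N : Ω → Subgroup G) (c d : Ω) : Set G := {t | t ∈ N c ∧ t ∈ N d ∧ t * t = 1}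

omit [Finite G] in
theorem conj_mem' (H : Hy N q) (g : G) (hx : g * x * g⁻¹ ∈ N (g • c)) : x ∈ N c := by
  have := H.conj_mem g⁻¹ hx
  simpa [mul_assoc] using this

omit [Finite G] in
theorem sc_of (H : Hy N q) (hab : a ≠ b) (h : SCp N a b) : SC N := fun c d z hz h1 h2 => by
  by_cases e : d = c
  · exact e ▸ hz
  obtain ⟨g, rfl, rfl⟩ := H.t2.two hab e
  have := h (g⁻¹ * z * g) (conj_mem' H g (by simpa [mul_assoc] using hz))
    (by rw [show g⁻¹ * z * g * (g⁻¹ * z * g) = g⁻¹ * (z * z) * g by group, h1]; group)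
    (by rw [mul_smul, mul_smul, h2, inv_smul_smul])
  simpa [mul_assoc] using H.conj_mem g this

omit [Finite G] in
theorem ncard_YY (H : Hy N q) (hab : a ≠ b) (hcd : c ≠ d) :
    (YY N c d).ncard = (YY N a b).ncard := by
  obtain ⟨g, rfl, rfl⟩ := H.t2.two hab hcd
  have e : YY N (g • a) (g • b) = (fun t => g * t * g⁻¹) '' YY N a b := by
    ext t
    constructor
    · rintro ⟨h1, h2, h3⟩
      refine ⟨g⁻¹ * t * g, ⟨conj_mem' H g (by simpa [mul_assoc] using h1),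
        conj_mem' H g (by simpa [mul_assoc] using h2), ?_⟩, by group⟩
      rw [show g⁻¹ * t * g * (g⁻¹ * t * g) = g⁻¹ * (t * t) * g by group, h3]; group
    · rintro ⟨s, ⟨h1, h2, h3⟩, rfl⟩
      refine ⟨H.conj_mem g h1, H.conj_mem g h2, ?_⟩
      rw [show g * s * g⁻¹ * (g * s * g⁻¹) = g * (s * s) * g⁻¹ by group, h3]; group
  rw [e, Set.ncard_image_of_injective]
  intro s t r
  simpa using r

/-- an involution of `N c` normalising a Sylow `2`-subgroup lies in its `ZZ` -/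
theorem mem_ZZ_of (H : Hy N q) (hU : IsSyl 2 U (N c)) (ht : t ∈ N c) (h1 : t * t = 1)
    (h2 : t ∈ nor U) : t ∈ ZZ U := by
  obtain ⟨V, h⟩ := H.frame hU
  refine h.cent t (hU.le_of_le_normalizer' (Q := zpowers t)
    (isPGroup_zpowers (k := 1) (by rw [pow_one, pow_two, h1])) (zpowers_le.2 ht)
    (zpowers_le.2 h2) (mem_zpowers t)) h1

/-- the two-point stabiliser normalises the Sylow subgroup normalised by `N a ⊓ G_b` -/
theorem nor_of (H : Hy N q) (hev : Even (Nat.card ↥(N a ⊓ N b))) (hU : IsSyl 2 U (N a))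
    (hA : N a ⊓ stabilizer G b ≤ nor U) (ha : x • a = a) (hb : x • b = b) : x ∈ nor U := by
  obtain ⟨V, h⟩ := H.frame hU
  obtain ⟨s, hs, h1, h2⟩ := ex_two hev
  have hsA : s ∈ N a ⊓ stabilizer G b := ⟨hs.1, H.le b hs.2⟩
  refine cj_eq_self_iff.1 (h.eq_of_mem (hU.cj_of_mem_normalizer (H.nor_N ha))
    (mem_ZZ_of H hU hs.1 h1 (hA hsA)).1 h2 ?_)
  have : cj x (N a ⊓ stabilizer G b) ≤ cj x (nor U) := cj_mono x hA
  rw [H.cj_A, ha, hb, cj_normalizer] at this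
  exact this hsA

/-- (★) -/
theorem star (H : Hy N q) (hab : a ≠ b) (hU : IsSyl 2 U (N a))
    (hA : N a ⊓ stabilizer G b ≤ nor U) (hw : w ∈ ZZ U) (hwb : w • b ≠ b) (h1 : x ∈ N b)
    (h2 : x ∈ N (w • b)) (h3 : x * x = 1) : x ∈ N a := by
  have hsub : YY N a b ⊆ YY N b (w • b) := fun y hy => by
    have hyZ := mem_ZZ_of H hU hy.1 hy.2.2 (hA ⟨hy.1, H.le b hy.2.1⟩)
    refine ⟨hy.2.1, ?_, hy.2.2⟩
    have := H.conj_mem w hy.2.1
    rwa [hyZ.2.2 w hw.1, mul_inv_cancel_right] at this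
  have e := Set.eq_of_subset_of_ncard_le hsub (ncard_YY H hab hwb.symm).le
  have : x ∈ YY N a b := e ▸ ⟨h1, h2, h3⟩
  exact this.1

/-- an involution of `N b` centralising `Z` lies in `N a` -/
theorem of_cen (H : Hy N q) (hab : a ≠ b) (hU : IsSyl 2 U (N a))
    (hA : N a ⊓ stabilizer G b ≤ nor U) (hZ : ¬ ZZ U ≤ stabilizer G b) (h1 : x ∈ N b)
    (h3 : x * x = 1) (h4 : x ∈ cen (ZZ U)) : x ∈ N a := by
  obtain ⟨w, hw, hwb⟩ := SetLike.not_le_iff_exists.1 hZ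
  refine star H hab hU hA hw hwb h1 ?_ h3
  have := H.conj_mem w h1
  rwa [h4 w hw, mul_inv_cancel_right] at this

/-- (rk): the involutions of `I` have index at most `2` in those of `B` -/
theorem idx (k : JobKB.{u}) {G : Type u} [Group G] [Finite G] [MulAction G Ω]
    {N : Ω → Subgroup G} {U U' : Subgroup G} {x y : G} (H : Hy N q) (hab : a ≠ b)
    (hev : Even (Nat.card ↥(N a ⊓ N b))) (hU : IsSyl 2 U (N a))
    (hA : N a ⊓ stabilizer G b ≤ nor U) (hZ : ¬ ZZ U ≤ stabilizer G b) (hU' : IsSyl 2 U' (N b))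
    (hB : N b ⊓ stabilizer G a ≤ nor U') (hx : x ∈ N b) (hy : y ∈ N b) (x2 : x * x = 1)
    (y2 : y * y = 1) (xa : x • a = a) (ya : y • a = a) (xn : x ∉ N a) (yn : y ∉ N a) :
    x * y ∈ N a := by
  obtain ⟨V, h⟩ := H.frame hU
  have xZ := mem_ZZ_of H hU' hx x2 (hB ⟨hx, xa⟩)
  have yZ := mem_ZZ_of H hU' hy y2 (hB ⟨hy, ya⟩)
  rcases (k G _ U V q h).2.2.2 x (H.nor_N xa) y (H.nor_N ya)
    (nor_of H hev hU hA xa (H.le b hx)) (nor_of H hev hU hA ya (H.le b hy)) x2 y2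
    (yZ.2.2 x xZ.1) with r | r | r
  · exact absurd (of_cen H hab hU hA hZ hx x2 r) xn
  · exact absurd (of_cen H hab hU hA hZ hy y2 r) yn
  · exact of_cen H hab hU hA hZ (mul_mem hx hy) (mul_mem xZ yZ).2.1 r

omit [Finite G] in
/-- transport of the `ZL` condition from one pair -/
theorem zl_of (H : Hy N q) (hab : a ≠ b) (hU : IsSyl 2 U (N a))
    (hA : N a ⊓ stabilizer G b ≤ nor U) (hZ : ZZ U ≤ stabilizer G b) : ZL N := fun c d hcd => by
  obtain ⟨g, rfl, rfl⟩ := H.t2.two hab hcd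
  refine ⟨cj g U, H.equi g a ▸ hU.cj g, ?_, ?_⟩
  · rw [← cj_ZZ, stabilizer_smul_eq_stabilizer_map_conj]
    exact cj_mono g hZ
  · rw [← H.cj_A]
    exact (cj_mono g hA).trans (cj_normalizer g U).le

end G2

theorem jobG2 (k₁ : JobKB.{u}) (k₂ : JobLZ.{u, v}) : JobG2.{u, v} := by
  intro G Ω _ _ _ N q H hev
  by_cases hP : ∀ a b : Ω, a ≠ b → ∃ W, IsSyl 2 W (N a) ∧ N a ⊓ stabilizer G b ≤ nor W
  swap
  · push Not at hP
    obtain ⟨a, b, hab, hP⟩ := hP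
    obtain ⟨U, V, h⟩ := H.bg a
    rcases h.one_or (A := N a ⊓ stabilizer G b) inf_le_left with r | ⟨W, r1, r2⟩
    · obtain ⟨s, hs, h1, h2⟩ := ex_two (hev a b hab)
      refine sc_of H hab fun z hz z2 zb => ?_
      by_cases e : z = 1
      · exact e ▸ one_mem _
      obtain ⟨g, hg, rfl⟩ := r s ⟨hs.1, H.le b hs.2⟩ z ⟨hz, zb⟩ (ord_of_sq h1 h2) (ord_of_sq z2 e)
      exact conj_mem_of_mem_normalizer (H.nor_N hg.2) hs.2
    · exact absurd r2 (hP W r1)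
  by_cases hZL : ZL N
  · exact k₂ G Ω N q H hZL hev
  obtain ⟨a, b, -, hab, -⟩ := H.t2.big
  obtain ⟨U, hU, hA⟩ := hP a b hab
  obtain ⟨U', hU', hB⟩ := hP b a hab.symm
  have hZ : ¬ ZZ U ≤ stabilizer G b := fun r => hZL (zl_of H hab hU hA r)
  have hZ' : ¬ ZZ U' ≤ stabilizer G a := fun r => hZL (zl_of H hab.symm hU' hB r)
  refine sc_of H hab.symm fun x hx x2 xa => ?_
  by_contra xn
  obtain ⟨V, h⟩ := H.frame hU
  have xZ := mem_ZZ_of H hU' hx x2 (hB ⟨hx, xa⟩)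
  have xU := nor_of H (hev a b hab) hU hA xa (H.le b hx)
  have xi : x⁻¹ = x := inv_of_sq x2
  obtain ⟨-, gam⟩ := (k₁ G _ U V q h).2.2.1 x (H.nor_N xa) xU x2
    fun r => xn (of_cen H hab hU hA hZ hx x2 r)
  have cZ : ∀ w ∈ ZZ U, x * w * x⁻¹ * w⁻¹ ∈ ZZ U := fun w hw =>
    mul_mem (conj_mem_of_mem_normalizer (nor_le_ZZ xU) hw) (inv_mem hw)
  -- the elements of `S` fix `b`
  have hS : ∀ w ∈ ZZ U, x * w * x⁻¹ * w⁻¹ ∈ N b → w • b = b := fun w hw r => by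
    by_contra hwb
    have e : w * x * w⁻¹ = x * (x * w * x⁻¹ * w⁻¹) := by
      rw [xi, ← mul_assoc, ← mul_assoc, ← mul_assoc, x2, one_mul]
    have := star H hab hU hA hw hwb (x := w * x * w⁻¹) (e ▸ mul_mem hx r) (H.conj_mem w hx)
      (by rw [show w * x * w⁻¹ * (w * x * w⁻¹) = w * (x * x) * w⁻¹ by group, x2]; group)
    have h2 := conj_mem_of_mem_normalizer' (le_normalizer (hU.le hw.1)) this
    exact xn (by simpa [mul_assoc] using h2)
  -- the elements of `Y` commute with `x`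
  have hY : ∀ w ∈ ZZ U, w ∈ N b → w * x = x * w := fun w hw r =>
    xZ.2.2 w (mem_ZZ_of H hU' r hw.2.1 (hB ⟨r, H.le a (hU.le hw.1)⟩)).1
  obtain ⟨s, hs, s2, s1⟩ := ex_two (hev a b hab)
  have sZ := mem_ZZ_of H hU hs.1 s2 (hA ⟨hs.1, H.le b hs.2⟩)
  obtain ⟨w₀, hw₀, e₀⟩ := gam s sZ (hY s sZ hs.2)
  have n₀ : w₀ * x ≠ x * w₀ := fun r => s1 (by rw [← e₀, ← r]; group)
  have hC : ∀ c ∈ ZZ U, c * x = x * c → c ∈ N b := fun c hc r => by
    by_contra cn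
    have := idx k₁ H hab.symm (hev b a hab.symm) hU' hB hZ' hU hA (hU.le hc.1) (hU.le hw₀.1)
      hc.2.1 hw₀.2.1 (hS c hc (by rw [← r]; simp)) (hS w₀ hw₀ (e₀ ▸ hs.2)) cn
      fun r => n₀ (hY w₀ hw₀ r)
    have h2 := hY _ (mul_mem hc hw₀) this
    rw [← mul_assoc, ← r, mul_assoc, mul_assoc] at h2
    exact n₀ (mul_left_cancel h2)
  refine hZ fun w hw => hS w hw (hC _ (cZ w hw) ?_)
  have h1 : (x * w * x⁻¹) * w⁻¹ = w⁻¹ * (x * w * x⁻¹) :=
    ((conj_mem_of_mem_normalizer (nor_le_ZZ xU) hw).2.2 _ (inv_mem hw).1).symm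
  have wi : w⁻¹ = w := inv_of_sq hw.2.1
  calc x * w * x⁻¹ * w⁻¹ * x = w⁻¹ * (x * w * x⁻¹) * x := by rw [h1]
    _ = w * x * w := by rw [wi]; group
    _ = _ := by rw [xi, wi, ← mul_assoc, ← mul_assoc, ← mul_assoc, x2, one_mul]

end H3.HR
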