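import Cfsg.Agent.H82.HRKit

/-! HR tower, job I: adjacent pairs of type I do not occur. -/

set_option autoImplicit false

namespace H3.HR

open MulAction Cfsg Subgroup H89.K H98 H82.TP H82.HR

universe u v

theorem dvd_orbits {H X : Type*} [Group H] [MulAction H X] [Finite X] {d : ℕ}
    (h : ∀ x : X, d ∣ (stabilizer H x).index) : d ∣ Nat.card X := by
  classical
  have := Fintype.ofFinite (orbitRel.Quotient H X)
  rw [Nat.card_congr (selfEquivSigmaOrbits H X), Nat.card_sigma]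
  refine Finset.dvd_sum fun ω _ => ?_
  rw [Nat.card_coe_set_eq, ← index_stabilizer]
  exact h _

/-- `U` acts by conjugation on an invariant set of subgroups. -/
theorem dvd_cj {G : Type*} [Group G] [Finite G] (U : Subgroup G) (S : Set (Subgroup G))
    (inv : ∀ h ∈ U, ∀ s ∈ S, cj h s ∈ S) {d : ℕ}
    (hd : ∀ s ∈ S, d * Nat.card ↥(U ⊓ nor s) = Nat.card U) : d ∣ S.ncard := by
  let _ : MulAction U S :=
    { smul := fun h s => ⟨cj h s, inv h h.2 s s.2⟩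
      one_smul := fun s => Subtype.ext (cj_one s.1)
      mul_smul := fun g h s => Subtype.ext (cj_cj g.1 h.1 s.1).symm }
  rw [← Nat.card_coe_set_eq]
  refine dvd_orbits (H := U) fun s => ?_
  have h1 := hd s s.2
  have e : U ⊓ nor s.1 = (stabilizer U s).map U.subtype := by
    ext g
    constructor
    · rintro ⟨hg, e⟩
      exact ⟨⟨g, hg⟩, Subtype.ext (cj_eq_self e), rfl⟩
    · rintro ⟨x, hx, rfl⟩
      exact ⟨x.2, cj_eq_self_iff.1 (congrArg Subtype.val hx)⟩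
  rw [e, card_map_of_injective U.subtype_injective, ← (stabilizer U s).index_mul_card] at h1
  exact ⟨1, by rw [mul_one, Nat.eq_of_mul_eq_mul_right Nat.card_pos h1]⟩

theorem arith_I {f q p : ℕ} (h2 : 2 ≤ f) (hq : 4 ≤ q) (h1 : q ∣ f) (h3 : q ∣ p)
    (h4 : f * p = (f - 1) * q ^ 2) : f = q ∧ p = q * (q - 1) := by
  obtain ⟨k, rfl⟩ := h3
  have e : f * k = (f - 1) * q := by
    refine Nat.eq_of_mul_eq_mul_right (m := q) (by omega) ?_
    calc f * k * q = f * (q * k) := by ring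
      _ = _ := by rw [h4]; ring
  have hc : Nat.Coprime f (f - 1) := by
    obtain ⟨n, rfl⟩ : ∃ n, f = n + 1 := ⟨f - 1, by omega⟩
    simp
  have : f = q := Nat.dvd_antisymm (hc.dvd_of_dvd_mul_left ⟨k, e.symm⟩) h1
  subst this
  rw [mul_comm (f - 1)] at e
  exact ⟨rfl, by rw [Nat.eq_of_mul_eq_mul_left (by omega) e]⟩

section I

variable {G : Type u} {Ω : Type v} [Group G] [Finite G] [MulAction G Ω] {N : Ω → Subgroup G}
  {q f m : ℕ} {a : Ω} {U U' V : Subgroup G} {z : G}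

omit [Finite G] in
theorem ln_cj (H : Hy N q) (g : G) (h : Ln N U) : Ln N (cj g U) := by
  obtain ⟨c, hc⟩ := h
  exact ⟨g • c, H.equi g c ▸ hc.cj g⟩

/-- all adjacent pairs are of type I -/
theorem typeI (k : JobPR.{u}) (H : Hy N q) (L : LK N f m) (hf : f ≠ m) (hm : m ≠ q) (hU : Ln N U)
    (hU' : Ln N U') (hne : U ≠ U') (h : U ⊓ nor U' ≠ ⊥) :
    U ⊓ nor U' = ZZ U ∧ U' ⊓ nor U = ZZ U' ∧ m = q ^ 2 ∧ q ∣ f := by
  obtain ⟨-, a2, a3, a4⟩ := L.adj U U' hU hU' hne h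
  obtain ⟨-, -, -, b4⟩ := L.adj U' U hU' hU hne.symm a2
  obtain ⟨c, hc⟩ := id hU
  obtain ⟨c', hc'⟩ := id hU'
  obtain ⟨V, hV⟩ := H.frame hc
  obtain ⟨V', hV'⟩ := H.frame hc'
  rcases k G _ U V _ U' V' q hV hV' ((L.cU U hU).trans (L.cU U' hU').symm) h a2 a4 b4 with
    ⟨r, -⟩ | ⟨r, -⟩ | ⟨r1, r2, -, r4⟩
  · exact absurd (by rw [← L.cU U hU, ← hV.card, le_antisymm ZZ_le r]) hm
  · rw [inf_eq_left.2 r, L.cU U hU] at a3
    exact absurd (Nat.dvd_antisymm L.dvd a3) hf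
  · exact ⟨r1, r2, (L.cU U hU).symm.trans r4, by rwa [r1, hV.card] at a3⟩

/-- An involution `t` that centralises `U / Z`, has `C_U(t) = Z` and inverts all of `U` outside one
coset inverts `U`. -/
theorem inverts (k : JobKB.{u}) {N : Subgroup G} (h : BF N U V q) (hZ : ¬ U ≤ ZZ U)
    (hm : Nat.card U = q ^ 2) {t : G} (hT : TV U t) (hC : ∀ y ∈ U, y * t = t * y ↔ y ∈ ZZ U)
    (hn : q * (q - 1) ≤ {y | y ∈ U ∧ t * y * t⁻¹ = y⁻¹}.ncard) : False := by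
  obtain ⟨fib, -⟩ := k G N U V q h
  set T := {y | y ∈ U ∧ t * y * t⁻¹ = y⁻¹} with hTd
  have hz : ∀ w ∈ ZZ U, t * w * t⁻¹ = w := fun w hw => by
    rw [← (hC w hw.1).2 hw, mul_inv_cancel_right]
  have cos : ∀ y ∈ T, ∀ w ∈ ZZ U, y * w ∈ T := fun y hy w hw => ⟨mul_mem hy.1 hw.1, by
    rw [show t * (y * w) * t⁻¹ = t * y * t⁻¹ * (t * w * t⁻¹) by group, hy.2, hz w hw, mul_inv_rev,
      inv_of_sq hw.2.1, hw.2.2 _ (inv_mem hy.1)]⟩
  have cos' : ∀ y ∈ U, ∀ y' ∈ T, y'⁻¹ * y ∈ ZZ U → y ∈ T := fun y _ y' hy' r => by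
    simpa using cos y' hy' _ r
  have sq : ∀ y ∈ U, y ∈ T ↔ t * y * t⁻¹ * y⁻¹ = y * y := fun y hy => by
    have e : y⁻¹ * y⁻¹ = y * y := by rw [← mul_inv_rev, inv_of_sq (h.e4 y hy).2.1]
    refine ⟨fun r => by rw [r.2, e], fun r => ⟨hy, ?_⟩⟩
    rw [← e] at r
    exact mul_right_cancel r
  -- outside `T` there is at most one coset
  have one : ∀ y₀ ∈ U, y₀ ∉ T → ∀ y₁ ∈ U, y₁ ∉ T → y₀⁻¹ * y₁ ∈ ZZ U := fun y₀ h₀ n₀ y₁ h₁ n₁ => by
    by_contra r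
    have s1 : insert y₁ ((fun w => y₀ * w) '' (ZZ U : Set G) ∪ T) ⊆ (U : Set G) := by
      rintro _ (rfl | ⟨w, hw, rfl⟩ | hw)
      exacts [h₁, U.mul_mem h₀ hw.1, hw.1]
    have s2 := Set.ncard_le_ncard s1
    rw [Set.ncard_insert_of_notMem, Set.ncard_union_eq,
      Set.ncard_image_of_injective _ (mul_right_injective y₀)] at s2
    · have c1 : (ZZ U : Set G).ncard = q := h.card
      have c2 : (U : Set G).ncard = q ^ 2 := hm
      have c3 := h.q4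
      obtain ⟨n, rfl⟩ : ∃ n, q = n + 1 := ⟨q - 1, by omega⟩
      rw [c1, c2] at s2
      rw [Nat.add_sub_cancel] at hn
      nlinarith
    · rw [Set.disjoint_left]
      rintro _ ⟨w, hw, rfl⟩ hT
      exact n₀ (cos' y₀ h₀ _ hT (by simpa using (ZZ U).inv_mem hw))
    · rintro (⟨w, hw, rfl⟩ | hT)
      · exact r (by simpa using hw)
      · exact n₁ hT
  have all : ∀ y ∈ U, y ∈ T := fun y₀ h₀ => by
    by_contra n₀
    have c1 : t * y₀ * t⁻¹ * y₀⁻¹ ≠ 1 := fun r =>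
      n₀ (cos' y₀ h₀ 1 ⟨one_mem _, by simp⟩ (by
        simpa using (hC y₀ h₀).1 (by rw [← mul_inv_eq_one.1 r]; nth_rw 2 [mul_inv_eq_one.1 r]; group)))
    obtain ⟨y₁, h₁, e₁, -⟩ := fib ⊥ IsPGroup.of_bot bot_le _ (hT y₀ h₀) c1
      (fun r hr => by rw [mem_bot.1 hr, one_mul, mul_one]) hZ
    by_cases n₁ : y₁ ∈ T
    · refine n₀ (cos' y₀ h₀ y₁ n₁ ((hC _ (mul_mem (inv_mem h₁) h₀)).1 ?_))
      have e₂ := (sq y₁ h₁).1 n₁
      rw [e₁] at e₂
      have e₃ := (hT y₀ h₀).2.2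
      calc y₁⁻¹ * y₀ * t = y₁⁻¹ * (t * y₀ * t⁻¹ * y₀⁻¹)⁻¹ * (t * y₀) := by group
        _ = y₁⁻¹ * (t * y₁ * t⁻¹ * y₁⁻¹)⁻¹ * (t * y₀) := by rw [e₂]
        _ = _ := by group
    · have r := one y₀ h₀ n₀ y₁ h₁ n₁
      refine n₀ ((sq y₀ h₀).2 ?_)
      have e : y₁ = y₀ * (y₀⁻¹ * y₁) := by group
      rw [← e₁, e]
      generalize y₀⁻¹ * y₁ = w at r
      rw [mul_assoc, ← mul_assoc w, ← r.2.2 y₀ h₀, mul_assoc, r.2.1, mul_one]
  rcases h.nab with r | ⟨x, hx, y, hy, r⟩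
  · exact hZ r
  · refine r (inv_injective ?_)
    rw [← (all _ (mul_mem hx hy)).2, mul_inv_rev, ← (all x hx).2, ← (all y hy).2]
    group

end I

theorem jobI (kA : JobKA.{u}) (kB : JobKB.{u}) (kP : JobPR.{u}) : JobI.{u, v} := by
  intro G Ω _ _ _ N q f m H L hf
  by_contra hm
  have := H.t2.finite
  obtain ⟨a, -⟩ := H.t2.big
  obtain ⟨U, V, h⟩ := H.bg a
  have hU : Ln N U := ⟨a, h.sylU⟩
  have aF : a ∈ Fx Ω U := (L.syl U hU a).1 h.sylU
  have hZ : ¬ U ≤ ZZ U := fun r => hm (by rw [← L.cU U hU, ← h.card, le_antisymm ZZ_le r])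
  obtain ⟨z, hz, -, -, z1, -⟩ := h.two
  have par := L.par U hU z hz z1
  set P := {U' | Ln N U' ∧ U' ≠ U ∧ z ∈ nor U'} with hP
  have ty : ∀ U' ∈ P, U ⊓ nor U' = ZZ U ∧ U' ⊓ nor U = ZZ U' ∧ m = q ^ 2 ∧ q ∣ f :=
    fun U' r => typeI kP H L hf hm hU r.1 r.2.1.symm fun e => z1 (mem_bot.1 (e.le ⟨hz.1, r.2.2⟩))
  have f2 := L.two
  have m0 : 0 < m := L.cU U hU ▸ Nat.card_pos
  obtain ⟨U₀, hU₀⟩ : P.Nonempty := Set.nonempty_of_ncard_ne_zero fun e => by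
    rw [e, mul_zero] at par
    exact absurd par.symm (Nat.mul_ne_zero (by omega) (by omega))
  obtain ⟨-, -, mq, qf⟩ := ty U₀ hU₀
  have cU : Nat.card U = q ^ 2 := (L.cU U hU).trans mq
  have qP : q ∣ P.ncard := dvd_cj U P (fun x hx U' r => ⟨ln_cj H x r.1, fun e => r.2.1
    (cj_inj.1 (e.trans (cj_eq_self_of_mem hx).symm)), by
      have := conj_mem_cj (g := x) r.2.2
      rwa [cj_normalizer, hz.2.2 x hx, mul_inv_cancel_right] at this⟩)
    fun U' r => by rw [(ty U' r).1, h.card, cU, pow_two]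
  obtain ⟨fq, cP⟩ := arith_I f2 h.q4 qf qP (mq ▸ par)
  -- the involutions of the groups in `P`
  have inv : ∀ U' ∈ P, ∀ t ∈ ZZ U', t ≠ 1 → t ∈ nor U ∧ (∀ y ∈ U, y * t = t * y ↔ y ∈ ZZ U) ∧
      TV U t ∧ ∀ c ∈ Fx Ω U, t • c ≠ c := fun U' r t ht t1 => by
    obtain ⟨e1, e2, -⟩ := ty U' r
    obtain ⟨a1, -, -, a4⟩ := L.adj U U' hU r.1 r.2.1.symm
      fun e => z1 (mem_bot.1 (e.le ⟨hz.1, r.2.2⟩))
    have tn : t ∈ U' ⊓ nor U := e2.ge ht
    have hC : ∀ y ∈ U, y * t = t * y ↔ y ∈ ZZ U := fun y hy =>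
      (a4 t tn t1 y hy).trans ⟨fun s => e1.le ⟨hy, s⟩, fun s => (e1.ge s).2⟩
    refine ⟨tn.2, hC, fun y hy => ((kB G _ U V q h).2.1 hZ (by omega)).2 _
      (conj_mem_of_mem_normalizer tn.2 hy) y hy ?_, fun c hc e =>
        Set.disjoint_left.1 a1 hc (L.fix U' r.1 t ht.1 t1 c e)⟩
    rw [show t * y * t⁻¹ * (t * y * t⁻¹) = t * (y * y) * t⁻¹ by group,
      ← (hC _ (mul_mem hy hy)).2 (h.e4 y hy), mul_inv_cancel_right]
  obtain ⟨c₀, hc₀⟩ := id hU₀.1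
  obtain ⟨V₀, h₀⟩ := H.frame hc₀
  obtain ⟨t, ht, -, -, t1, -⟩ := h₀.two
  obtain ⟨tn, tC, tT, tF⟩ := inv U₀ hU₀ t ht t1
  have tc : t ∈ cen (ZZ U) := fun y hy => (tC y hy.1).2 hy
  have taF := L.stab U hU t tn a aF
  -- the centraliser of `U` fixes `F` pointwise
  have cF : ∀ c ∈ cen U, ∀ p ∈ Fx Ω U, c • p = p := fun c hc p hp => by
    by_contra e
    have cp := L.stab U hU c (centralizer_le_normalizer _ hc) p hp
    obtain ⟨g, g1, g2⟩ := H.t2.two (Ne.symm e) (tF a aF).symm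
    have gn : g ∈ nor U := L.nor2 U hU g p hp _ cp (Ne.symm e) (g1 ▸ aF) (g2 ▸ taF)
    have hc' : g * c * g⁻¹ ∈ cen U :=
      conj_mem_of_mem_normalizer (normalizer_le_normalizer_centralizer U gn) hc
    have ca : (g * c * g⁻¹) • a = t • a := by rw [← g2, ← g1, mul_smul, mul_smul, inv_smul_smul]
    generalize g * c * g⁻¹ = d at hc' ca
    have key : ∀ y ∈ U, d⁻¹ * t * y * (d⁻¹ * t)⁻¹ = t * y * t⁻¹ := fun y hy => by
      have := hc' _ (conj_mem_of_mem_normalizer tn hy)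
      calc _ = d⁻¹ * (t * y * t⁻¹ * d) := by group
        _ = _ := by rw [this]; group
    obtain ⟨x, hx, r⟩ := (kA G _ U V q h).1 (d⁻¹ * t)
      (H.nor_N (by rw [mul_smul, ← ca, inv_smul_smul]))
      (mul_mem (inv_mem (centralizer_le_normalizer _ hc')) tn)
      (mul_mem (inv_mem (centralizer_anti ZZ_le hc')) tc) fun y hy => by
        rw [key y hy]; exact tT y hy
    have key2 : ∀ y ∈ U, t * y * t⁻¹ = x * y * x⁻¹ := fun y hy => by
      have := r y (h.sylU.le hy)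
      rw [← key y hy]
      calc _ = x * (x⁻¹ * (d⁻¹ * t) * y) * (d⁻¹ * t)⁻¹ := by group
        _ = _ := by rw [← this]; group
    have xZ : x ∈ ZZ U := (tC x hx).1 (by
      have := key2 x hx
      rw [mul_inv_cancel_right] at this
      rw [← this]; nth_rw 2 [this]; group)
    refine hZ fun y hy => (tC y hy).1 ?_
    have := key2 y hy
    rw [← xZ.2.2 y hy, mul_inv_cancel_right] at this
    rw [← this]; nth_rw 2 [this]; group
  -- each `Z'` is regular on `F`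
  have reg : ∀ U' ∈ P, ∃ s ∈ ZZ U', s • a = t • a := fun U' r => by
    obtain ⟨c', hc'⟩ := id r.1
    obtain ⟨V', h'⟩ := H.frame hc'
    have s1 : (fun s : G => s • a) '' (ZZ U' : Set G) ⊆ Fx Ω U := by
      rintro _ ⟨s, hs, rfl⟩
      exact L.stab U hU s ((ty U' r).2.1.ge hs).2 a aF
    have s2 : Set.InjOn (fun s : G => s • a) (ZZ U' : Set G) := fun s hs s' hs' e => by
      by_contra ne
      exact (inv U' r (s'⁻¹ * s) ((ZZ U').mul_mem ((ZZ U').inv_mem hs') hs)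
        fun e => ne (inv_mul_eq_one.1 e).symm).2.2.2 a aF (by
          rw [mul_smul, show s • a = s' • a from e, inv_smul_smul])
    have s3 := Set.eq_of_subset_of_ncard_le s1 (by
      rw [s2.ncard_image, L.cF U hU, fq]; exact h'.card.ge)
    exact s3.ge taF
  choose! φ φ1 φ2 using reg
  have φ0 : ∀ U' ∈ P, φ U' ≠ 1 := fun U' r e => tF a aF (by rw [← φ2 U' r, e, one_smul])
  refine inverts kB h hZ cU tT tC (cP ▸ Set.ncard_le_ncard_of_injOn (fun U' => t * φ U')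
    (fun U' r => ?_) fun U' r U'' r' e => ?_)
  · obtain ⟨sn, sC, sT, -⟩ := inv U' r _ (φ1 U' r) (φ0 U' r)
    have t2 := ht.2.1
    have s2 := (φ1 U' r).2.1
    have sa := φ2 U' r
    generalize φ U' = s at sn sC sT s2 sa
    obtain ⟨x, hx, r⟩ := (kA G _ U V q h).1 (t * s)
      (H.nor_N (by rw [mul_smul, sa, smul_smul_of_sq t2])) (mul_mem tn sn)
      (mul_mem tc fun y hy => (sC y hy.1).2 hy) fun y hy => by
        have := mul_mem (conj_mem_of_mem_normalizer (nor_le_ZZ tn) (sT y hy)) (tT y hy)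
        rwa [show t * (s * y * s⁻¹ * y⁻¹) * t⁻¹ * (t * y * t⁻¹ * y⁻¹) =
          t * s * y * (t * s)⁻¹ * y⁻¹ by group] at this
    have e := L.w U hU a aF _ r (cF _ (centralizer_anti h.sylU.le r))
    refine ⟨inv_mul_eq_one.1 e ▸ hx, ?_⟩
    rw [← mul_assoc, t2, one_mul, mul_inv_rev, inv_of_sq s2]
  · by_contra ne
    have e : φ U' = φ U'' := mul_left_cancel e
    exact φ0 U' r (mem_bot.1 ((L.ti U' U'' r.1 r'.1 ne).le ⟨(φ1 U' r).1, e ▸ (φ1 U'' r').1⟩))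

end H3.HR
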