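import Cfsg.Agent.H3.P4T1
import Cfsg.Agent.S2757
import Cfsg.Agent.S0542
import Cfsg.Agent.H21.MultTransfer
import Cfsg.Agent.H14.FStar
import Cfsg.Agent.H29.Burnside
import Cfsg.Agent.H57.SLCard

/-! Tool `Ab3` of the blueprint `LOCAL3C.md`, section 3.1. -/

set_option autoImplicit false
open Cfsg H47.P4C Subgroup H14 H56.L3
open scoped commutatorElement

namespace H3.P4T

universe u

variable {X : Type u} [Group X] [Finite X]

theorem card_mul_le {A B H : Subgroup X} (hA : A ≤ H) (hB : B ≤ H) (h : A ⊓ B = ⊥) :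
    Nat.card A * Nat.card B ≤ Nat.card H := by
  rw [← Nat.card_prod]
  refine Nat.card_le_card_of_injective
    (fun x => ⟨x.1.1 * x.2.1, H.mul_mem (hA x.1.2) (hB x.2.2)⟩) fun x y e => ?_
  have e1 : x.1.1 * x.2.1 = y.1.1 * y.2.1 := congrArg Subtype.val e
  have e2 : y.1.1⁻¹ * x.1.1 = y.2.1 * x.2.1⁻¹ := by
    rw [inv_mul_eq_iff_eq_mul, ← mul_assoc, ← e1, mul_inv_cancel_right]
  have e3 : y.1.1⁻¹ * x.1.1 = 1 := mem_bot.1 (h ▸ ⟨A.mul_mem (A.inv_mem y.1.2) x.1.2,
    e2 ▸ B.mul_mem y.2.2 (B.inv_mem x.2.2)⟩)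
  exact Prod.ext (Subtype.ext (inv_mul_eq_one.1 e3).symm)
    (Subtype.ext (mul_inv_eq_one.1 (e2 ▸ e3)).symm)

theorem zj_ab {D : Subgroup X} (hab : ∀ a ∈ D, ∀ b ∈ D, a * b = b * a) :
    centerThompsonAOf D = D := by
  have h1 : thompsonSubgroupA D = ⊤ := eq_top_iff.2 (le_sSup ⟨⟨⟨fun a b =>
    Subtype.ext (Subtype.ext (hab _ a.1.2 _ b.1.2))⟩⟩, fun B _ => card_le_of_le le_top⟩)
  rw [centerThompsonAOf, thompsonSubgroupAOf, h1, ← MonoidHom.range_eq_map, range_subtype]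
  exact inf_eq_left.2 fun a ha b hb => hab b hb a ha

variable (D : Sylow 3 X) (hab : ∀ a ∈ (D : Subgroup X), ∀ b ∈ (D : Subgroup X), a * b = b * a)
  (hO : pPrimeCore 3 X = ⊥) {K : Subgroup X} (hK : IsComponent K)
include hab hO hK

/-- components have trivial centre -/
theorem comp_center : K ⊓ Cn K = ⊥ := by
  obtain ⟨Q, hQ⟩ := Agent.S0542.result 3 K hK.1 D
  refine eq_bot_iff.2 fun z hz => ?_
  have h1 := comp_center_le_fitting hK hz
  rw [H2.fitting_eq_pCore_of_pPrimeCore_eq_bot hO] at h1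
  obtain ⟨k, hk⟩ := H2.pCore_isPGroup 3 X ⟨z, h1⟩
  have h2 : (⟨z, hz.1⟩ : K) ^ (Q : Subgroup K).index ∈ ⁅(Q : Subgroup K), (Q : Subgroup K)⁆ :=
    H21.pow_index_mem_commutator _ (mem_center_iff.2 fun g => Subtype.ext (hz.2 g g.2))
      ((quasi_perfect hK.2).commutator_eq_top ▸ mem_top _)
  rw [commutator_eq_bot_iff_comm.2 fun a ha b hb => Subtype.ext
    (hab a (by rwa [hQ] at ha) b (by rwa [hQ] at hb))] at h2
  have h3 : z ^ (Q : Subgroup K).index = 1 := congrArg Subtype.val (mem_bot.1 h2)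
  have h4 : z ^ 3 ^ k = 1 := congrArg Subtype.val hk
  rw [mem_bot, ← pow_one z, ← ((Nat.prime_three.coprime_iff_not_dvd.2 Q.not_dvd_index).pow_left k),
    pow_gcd_eq_one]
  exact ⟨h4, h3⟩

theorem comp_psl (hinv : ∀ g ∈ Nr (D : Subgroup X), ∀ d ∈ (D : Subgroup X),
    g * d * g⁻¹ = d⁻¹ → d = 1) : ∃ (F : Type) (_ : Field F) (_ : Fintype F), Fld F ∧
    Nonempty (K ≃* PSL2 F) := by
  have hc : center K = ⊥ := by
    rw [← map_eq_bot_iff_of_injective _ K.subtype_injective, map_center_subtype]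
    exact comp_center D hab hO hK
  have hs := simple_of_quasi hK.2 hc
  let e : K ⧸ (⊥ : Subgroup K) ≃* K := QuotientGroup.quotientBot
  rcases (Agent.S2757.result D fun x hx h1 g hg e => h1 (hinv g (by rwa [zj_ab hab] at hg) x hx e)).2
    K hK.1 ⊥ e.isSimpleGroup (quasi_not_comm (quasi_of_mulEquiv hK.2 e.symm)) with
    h | ⟨F, _, _, n, hn, ⟨f⟩⟩
  · have h3 := H13.sz_not_three h
    rw [Nat.card_congr e.toEquiv] at h3
    exact (comp_ne_bot hK (eq_bot_iff.2 (hO ▸ H2.le_pPrimeCore_of_isSubnormal hK.1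
      (Nat.prime_three.coprime_iff_not_dvd.2 h3).symm))).elim
  refine ⟨F, _, _, ⟨2 * n + 1, odd_two_mul_add_one n, ?_, hn⟩, ⟨e.symm.trans f⟩⟩
  rcases n with _ | n
  swap
  · omega
  refine (quasi_not_solvable hK.2 (H29.isSolvable_of_card_dvd_pow_mul_pow (a := 3) (b := 1)
    Nat.prime_two Nat.prime_three ?_)).elim
  rw [Nat.card_congr (e.symm.trans f).toEquiv]
  refine (card_quotient_dvd_card _).trans ?_
  rw [H57.card_sl_two, hn]; decide

omit [Finite X] hab hO hK in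
theorem fld_three {F : Type*} [Field F] [Fintype F] (h : Fld F) : ((3 : ℕ) : F) = 0 := by
  obtain ⟨m, -, -, h⟩ := h
  have := FiniteField.cast_card_eq_zero F
  rw [h, Nat.cast_pow] at this
  exact eq_zero_of_pow_eq_zero this

theorem comp_inn {F : Type} [Field F] [Fintype F] (hF : Fld F) (e : K ≃* PSL2 F) :
    Nat.card ((D : Subgroup X) ⊓ K : Subgroup X) = Fintype.card F ∧
    ∀ d ∈ (D : Subgroup X), ∃ k ∈ (D : Subgroup X) ⊓ K, k⁻¹ * d ∈ Cn K := by
  obtain ⟨Q, hQ⟩ := Agent.S0542.result 3 K hK.1 D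
  have : CharP F 3 := (CharP.charP_iff_prime_eq_zero Nat.prime_three).2 (fld_three hF)
  let S : Sylow 3 (PSL2 F) := Q.mapSurjective (f := e.toMonoidHom) e.surjective
  have hc : Nat.card ((D : Subgroup X) ⊓ K : Subgroup X) = Fintype.card F := by
    rw [← Nat.card_eq_fintype_card, ← card_syl 3 S,
      ← Nat.card_congr (subgroupOfEquivOfLe inf_le_right).toEquiv, inf_subgroupOf_right, ← hQ]
    exact (card_map_of_injective (f := e.toMonoidHom) e.injective).symm
  refine ⟨hc, fun d hd => ?_⟩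
  have hn : d ∈ Nr K := by
    rcases comp_eq_or_commute (comp_map_conj hK d) hK with h | h
    · exact mem_normalizer_iff_map_conj_eq.2 h
    obtain ⟨x, hx, h1⟩ := (nontrivial_iff_exists_ne_one _).1
      (Finite.one_lt_card_iff_nontrivial.1 (hc ▸ (fld_lt hF).trans' (by decide)))
    refine (h1 (mem_bot.1 (comp_center D hab hO hK ▸ ⟨hx.2, fun y hy => ?_⟩))).elim
    exact (commutator_eq_bot_iff_comm.1 h x ⟨x, hx.2, by
      simp [hab d hd x hx.1]⟩ y hy).symm
  have hσ : ∀ x : K, (K.normalizerMonoidHom ⟨d, hn⟩ x : X) = d * x * d⁻¹ := fun _ => rfl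
  obtain ⟨_, ⟨k, hk, rfl⟩, hu⟩ := jobInn F 3 S
    (e.symm.trans ((K.normalizerMonoidHom ⟨d, hn⟩).trans e)) (fld_three hF) (by
      rintro _ ⟨x, hx, rfl⟩
      simp only [MulEquiv.trans_apply, MulEquiv.coe_toMonoidHom, MulEquiv.symm_apply_apply]
      refine congrArg e (Subtype.ext ?_)
      rw [hσ, hab d hd x (by rwa [SetLike.mem_coe, hQ] at hx), mul_inv_cancel_right])
  refine ⟨k, ⟨by rwa [SetLike.mem_coe, hQ] at hk, k.2⟩, fun y hy => ?_⟩
  have h1 := hu (e ⟨y, hy⟩)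
  simp only [MulEquiv.trans_apply, MulEquiv.coe_toMonoidHom, MulEquiv.symm_apply_apply,
    ← map_mul, ← map_inv] at h1
  have h2 : d * y * d⁻¹ = k * y * (k : X)⁻¹ := (hσ ⟨y, hy⟩).symm.trans
    (congrArg Subtype.val (e.injective h1))
  calc y * ((k : X)⁻¹ * d) = (k : X)⁻¹ * (k * y * (k : X)⁻¹) * d := by group
    _ = _ := by rw [← h2]; group

omit hab hO hK in
/-- **Ab3** -/
theorem jobAb3 : JobAb3.{u} := by
  intro X _ _ D Z hab hinv hO' hZ hs hc
  have hO : pPrimeCore 3 X = ⊥ := hO' _ inferInstance (H2.coprime_card_pPrimeCore 3 X)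
  have hOD : pCore 3 X ≤ D := (H2.pCore_isPGroup 3 X).le_sylow_of_normal D
  have hC : ∀ U : Subgroup X, U ≤ D → ⁅U, layer X⁆ = ⊥ → U ≤ pCore 3 X := fun U h1 h2 =>
    le_pCore_of_commutator hO h2 (commutator_eq_bot_iff_comm.2 fun a ha b hb =>
      hab a (h1 ha) b (hOD hb))
  by_cases hE : layer X = ⊥
  · left
    rw [le_antisymm (hC _ le_rfl (by rw [hE, commutator_bot_right])) hOD]
    infer_instance
  right
  obtain ⟨K, hK⟩ := not_forall_not.1 (mt layer_eq_bot_iff.2 hE)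
  have hKO : ∀ L : Subgroup X, IsComponent L → L ≤ Cn (pCore 3 X) := fun L hL =>
    commutator_eq_bot_iff_le_centralizer.1 (comp_commutator_pCore hL 3)
  have hZK : ∀ L : Subgroup X, IsComponent L →
      Nat.card Z ≤ Nat.card ((D : Subgroup X) ⊓ L : Subgroup X) := fun L hL => by
    obtain ⟨F, _, _, hF, ⟨e⟩⟩ := comp_psl D hab hO hL hinv
    choose k hk hk' using (comp_inn D hab hO hL hF e).2
    refine Nat.card_le_card_of_injective (fun z => ⟨k z.1 (hZ z.2), hk _ _⟩) fun z z' h => ?_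
    have h1 : k z.1 (hZ z.2) = k z'.1 (hZ z'.2) := congrArg Subtype.val h
    have h2 := mul_mem (inv_mem (hk' z.1 (hZ z.2))) (hk' z'.1 (hZ z'.2))
    rw [h1, mul_inv_rev, inv_inv, mul_assoc, mul_inv_cancel_left] at h2
    by_contra hne
    exact quasi_not_le_solvable hL.2 (hs _ (Z.mul_mem (Z.inv_mem z.2) z'.2)
      fun e => hne (Subtype.ext (inv_mul_eq_one.1 e)))
      fun y hy => mem_centralizer_singleton_iff.2 (h2 y hy)
  have hu : ∀ L : Subgroup X, IsComponent L → L = K := fun L hL => by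
    by_contra hne
    have h1 := commutator_eq_bot_iff_le_centralizer.1 (comp_commute_of_ne hL hK hne)
    have h2 := card_mul_le (A := (D : Subgroup X) ⊓ L) (B := pCore 3 X) le_sup_left le_sup_right
      (eq_bot_iff.2 ((inf_le_inf inf_le_right (le_centralizer_iff.1 (hKO L hL))).trans
        (comp_center D hab hO hL).le))
    have h3 := card_mul_le (A := (D : Subgroup X) ⊓ K) (B := ((D : Subgroup X) ⊓ L) ⊔ pCore 3 X)
      inf_le_left (sup_le inf_le_left hOD)
      (eq_bot_iff.2 ((inf_le_inf inf_le_right (sup_le (inf_le_right.trans h1)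
        (le_centralizer_iff.1 (hKO K hK)))).trans (comp_center D hab hO hK).le))
    refine hc.not_ge (le_trans ?_ h3)
    rw [sq, mul_assoc]
    exact Nat.mul_le_mul (hZK K hK) ((Nat.mul_le_mul_right _ (hZK L hL)).trans h2)
  have hL : layer X = K := le_antisymm (layer_le fun L hL => (hu L hL).le) (comp_le_layer hK)
  obtain ⟨F, _, _, hF, ⟨e⟩⟩ := comp_psl D hab hO hK hinv
  obtain ⟨h1, h2⟩ := comp_inn D hab hO hK hF e
  refine ⟨K, F, _, _, hF, hL ▸ inferInstance, ⟨e⟩, le_antisymm (fun d hd => ?_)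
    (sup_le inf_le_left hOD), hKO K hK, h1⟩
  obtain ⟨k, hk, hk'⟩ := h2 d hd
  rw [← mul_inv_cancel_left k d]
  refine mul_mem (mem_sup_left hk) (mem_sup_right (hC ((D : Subgroup X) ⊓ Cn K) inf_le_left
    (hL ▸ commutator_eq_bot_iff_le_centralizer.2 inf_le_right)
    ⟨(D : Subgroup X).mul_mem ((D : Subgroup X).inv_mem hk.1) hd, hk'⟩))

end H3.P4T
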