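import Cfsg.Agent.H1.PrSt
import Cfsg.Agent.H42.OddOrder
import Cfsg.Agent.H98.Core

/-! `blueprints/PRIME.md`, part 2, section NTI: the structure of proper subgroups generated by
`p`-elements, read in the ambient group. -/

set_option autoImplicit false
set_option linter.unusedSectionVars false

namespace H3.PrN

open Cfsg H28 H2.PR Subgroup H98
open scoped commutatorElement

universe u

section defs

variable {G : Type*} [Group G]

/-- `x` is a `p`-element. -/
def Pe (p : ℕ) (x : G) : Prop := ∃ k : ℕ, x ^ p ^ k = 1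

/-- The subgroup generated by the `p`-elements of `C`. -/
def Rp (p : ℕ) (C : Subgroup G) : Subgroup G := closure {x | x ∈ C ∧ Pe p x}

/-- The derived subgroup of `L` as a subgroup of the ambient group. -/
def Dr (L : Subgroup G) : Subgroup G := (commutator L).map L.subtype

/-- The `p`-th roots of unity. -/
noncomputable abbrev Rt (p : ℕ) : Finset ℂ := Polynomial.nthRootsFinset p (1 : ℂ)

/-- `St` in the ambient group; `a`, `b` are the multiplicities for `ψ`, `θ`. -/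
structure SA (p : ℕ) (χ : G → ℂ) (M : Subgroup G) (d c : ℕ) (a b : G → ℂ → ℕ) : Prop where
  deg : d + c = charDegree χ
  add : ∀ u ∈ M, u ^ p = 1 → ∀ ω : ℂ, ω ^ p = 1 → em p χ u ω = a u ω + b u ω
  sb : ∀ u ∈ M, u ^ p = 1 → ∑ ω ∈ Rt p, b u ω = c
  scal : ∀ q ∈ pCoreOf p M, q ^ p = 1 → ∃ l : ℂ, l ^ p = 1 ∧ ∀ s ∈ M, ∀ ω, a (s * q) (ω * l) = a s ω
  a1 : a 1 1 = d
  b1 : b 1 1 = c
  kb : ∀ s ∈ Dr M, ∀ q ∈ pCoreOf p M, ∀ ω, b (s * q) ω = b q ω
  eig : ∀ s ∈ Dr M, s ≠ 1 → s ^ p = 1 →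
    (∀ ω : ℂ, ω ^ p = 1 → a s ω ≤ 1) ∧ (2 * d + 1 = p → a s 1 = 0)
  big : p ≤ 2 * d + 1
  cen : ∀ q ∈ pCoreOf p M, ∀ g ∈ M, Commute g q
  sup : ∀ g ∈ M, ∃ s ∈ Dr M, ∃ q ∈ pCoreOf p M, g = s * q
  inf : ∀ g ∈ Dr M, g ∈ pCoreOf p M → g = 1
  dvd : p ∣ Nat.card (Dr M)
  syl : ¬ p ^ 2 ∣ Nat.card (Dr M)
  gen : Dr M ≤ closure {s | s ∈ Dr M ∧ orderOf s = p}
  inv : d = 2 → ∃ z ∈ M, z * z = 1 ∧ (∀ g ∈ M, Commute g z) ∧ χ z = c - 2

open Classical in
/-- Multiplicities of a function on `L`, read in the ambient group. -/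
noncomputable def ex (p : ℕ) (L : Subgroup G) (φ : L → ℂ) (u : G) (ω : ℂ) : ℕ :=
  if h : u ∈ L then em p φ ⟨u, h⟩ ω else 0

variable {p : ℕ}

theorem ex_coe {L : Subgroup G} (φ : L → ℂ) (x : L) (ω : ℂ) : ex p L φ x ω = em p φ x ω :=
  dif_pos x.2

theorem Pe.of_pow {x : G} (h : x ^ p = 1) : Pe p x := ⟨1, by rwa [pow_one]⟩

theorem Pe.zp {x : G} (h : Pe p x) : IsPGroup p (zpowers x) := isPGroup_zpowers h.choose_spec

theorem pe_of_mem {T : Subgroup G} (h : IsPGroup p T) {x : G} (hx : x ∈ T) : Pe p x :=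
  isPGroup_iff_forall.1 h x hx

theorem Pe.conj {x : G} (h : Pe p x) (g : G) : Pe p (g * x * g⁻¹) :=
  ⟨h.choose, by rw [conj_pow, h.choose_spec, mul_one, mul_inv_cancel]⟩

theorem mem_Rp {C : Subgroup G} {x : G} (h : x ∈ C) (hx : Pe p x) : x ∈ Rp p C :=
  subset_closure ⟨h, hx⟩

theorem Rp_le (C : Subgroup G) : Rp p C ≤ C := (closure_le _).2 fun _ h => h.1

theorem Rp_le_Rp {C C' : Subgroup G} (h : Rp p C ≤ C') : Rp p C ≤ Rp p C' :=
  (closure_le _).2 fun _ hx => mem_Rp (h (mem_Rp hx.1 hx.2)) hx.2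

theorem le_norm_Rp [Finite G] (C : Subgroup G) : C ≤ normalizer (Rp p C : Set G) := fun g hg =>
  mem_normalizer_of_cj_le (by
    rw [cj_le_iff]
    refine (closure_le _).2 fun x hx => mem_cj.2 ?_
    rw [inv_inv]
    exact mem_Rp (C.mul_mem (C.mul_mem hg hx.1) (C.inv_mem hg)) (hx.2.conj g))

theorem Dr_le (L : Subgroup G) : Dr L ≤ L := map_subtype_le _

theorem em_scal {ψ : G → ℂ} {s q : G} (hc : Commute s q) {l : ℂ} (hl : l ≠ 0)
    (h : ∀ x, ψ (q * x) = l * ψ x) (ω : ℂ) : em p ψ (s * q) (ω * l) = em p ψ s ω := by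
  have h1 : ∀ (i : ℕ) x, ψ (q ^ i * x) = l ^ i * ψ x := fun i => by
    induction i with
    | zero => simp
    | succ i ih => intro x; rw [pow_succ', mul_assoc, h, ih, pow_succ', mul_assoc]
  unfold H2.PR.em
  congr 3
  refine Finset.sum_congr rfl fun i _ => ?_
  rw [hc.mul_pow, (hc.pow_pow i i).eq, h1, mul_pow, mul_inv]
  field_simp

theorem em_ker {θ : G → ℂ} {s q : G} (hc : Commute s q) (h : s ∈ charKer θ) (ω : ℂ) :
    em p θ (s * q) ω = em p θ q ω := by
  unfold H2.PR.em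
  congr 3
  refine Finset.sum_congr rfl fun i _ => ?_
  rw [hc.mul_pow, (charKer θ).pow_mem h i]

theorem em_one (hp : p ≠ 0) {ψ : G → ℂ} (h : IsCharacter G ψ) : em p ψ 1 1 = charDegree ψ := by
  have h0 : (p : ℂ) ≠ 0 := Nat.cast_ne_zero.2 hp
  simp [H2.PR.em, ← h.cast_charDegree, ← mul_assoc, inv_mul_cancel₀ h0]

theorem em_conj {χ : G → ℂ} (h : IsCharacter G χ) (g u : G) (ω : ℂ) :
    em p χ (g * u * g⁻¹) ω = em p χ u ω := by
  unfold H2.PR.em
  congr 3
  refine Finset.sum_congr rfl fun i _ => ?_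
  rw [conj_pow, h.isClassFunction]

theorem two_le {f : ℂ → ℕ} {c : ℕ} (hp : 0 < p) (h : ∑ ω ∈ Rt p, f ω = c) {x y : ℂ} (hx : x ^ p = 1)
    (hy : y ^ p = 1) (hxy : x ≠ y) : f x + f y ≤ c := by
  rw [← h, ← Finset.sum_pair hxy]
  refine Finset.sum_le_sum_of_subset fun z hz => (Polynomial.mem_nthRootsFinset hp 1).2 ?_
  rcases Finset.mem_insert.1 hz with rfl | hz
  · exact hx
  · rw [Finset.mem_singleton.1 hz, hy]

theorem one_le {f : ℂ → ℕ} {c : ℕ} (hp : 0 < p) (h : ∑ ω ∈ Rt p, f ω = c) {x : ℂ} (hx : x ^ p = 1) :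
    f x ≤ c :=
  h ▸ Finset.single_le_sum (fun _ _ => Nat.zero_le _) ((Polynomial.mem_nthRootsFinset hp 1).2 hx)

/-- An involution of determinant one in degree two has trace `±2`. -/
theorem tr_inv {ψ : G → ℂ} (h : IsCharacter G ψ) (hd : charDegree ψ = 2) {z : G}
    (hz : z ∈ commutator G) (h2 : z * z = 1) : ψ z = 2 ∨ ψ z = -2 := by
  obtain ⟨n, ρ, rfl⟩ := h
  rw [charDegree_rep, Module.finrank_fin_fun] at hd
  subst hd
  have h1 : LinearMap.det (ρ z) = 1 := by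
    have := Abelianization.commutator_subset_ker (MonoidHom.toHomUnits (LinearMap.det.comp ρ)) hz
    simpa using congrArg Units.val (MonoidHom.mem_ker.1 this)
  have h3 : LinearMap.toMatrix' (ρ z) * LinearMap.toMatrix' (ρ z) = 1 := by
    rw [← LinearMap.toMatrix'_mul, ← map_mul, h2, map_one, LinearMap.toMatrix'_one]
  rw [← LinearMap.det_toMatrix', Matrix.det_fin_two] at h1
  have h4 := congrFun (congrFun h3 0) 0
  have h5 := congrFun (congrFun h3 1) 1
  simp only [Matrix.mul_apply, Fin.sum_univ_two, Matrix.one_apply_eq] at h4 h5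
  have h6 : ρ.character z = LinearMap.toMatrix' (ρ z) 0 0 + LinearMap.toMatrix' (ρ z) 1 1 := by
    rw [Representation.character, ← Matrix.trace_fin_two, ← Matrix.trace_toLin'_eq,
      Matrix.toLin'_toMatrix']
  have h7 : (ρ.character z - 2) * (ρ.character z + 2) = 0 := by
    rw [h6]; linear_combination h4 + h5 + 2 * h1
  exact (mul_eq_zero.1 h7).imp sub_eq_zero.1 eq_neg_of_add_eq_zero_left

theorem exists_inv [Finite G] {K : Subgroup G} (h : ⁅K, K⁆ = K) (h1 : K ≠ ⊥) :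
    ∃ z ∈ K, z ≠ 1 ∧ z * z = 1 := by
  have h2 : 2 ∣ Nat.card K := by
    by_contra h2
    have := H42.odd_order (G := K) (Nat.odd_iff.2 (Nat.two_dvd_ne_zero.1 h2))
    have := (nontrivial_iff_ne_bot K).2 h1
    refine (Group.IsSolvable.commutator_lt_top_of_nontrivial K).ne
      (map_injective K.subtype_injective ?_)
    rw [commutator_def, map_commutator, map_subtype_top, h]
  obtain ⟨z, hz⟩ := exists_prime_orderOf_dvd_card' 2 h2
  refine ⟨z, z.2, fun e => ?_, ?_⟩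
  · rw [show z = 1 from Subtype.ext e, orderOf_one] at hz
    omega
  · rw [← pow_two, ← Subgroup.coe_pow, ← hz, pow_orderOf_eq_one, Subgroup.coe_one]

end defs

variable {G : Type u} [Group G] [Finite G] {p : ℕ} [hp : Fact p.Prime] {χ : G → ℂ}

/-- Transport of `St` to the ambient group. -/
theorem sa_of_st (hE : JobEm.{u}) (hχ : IsCharacter G χ) {L : Subgroup G} {ψ θ : L → ℂ}
    (h : St p (fun x : L => χ x) ψ θ) : ∃ d c a b, SA p χ L d c a b := by
  have hψ := h.irr.isCharacter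
  have hc : ∀ q ∈ pCore p L, ∀ g : L, Commute g q := fun q hq g => mem_center_iff.1 (h.cen hq) g
  have hk : Nat.card (Dr L) = Nat.card (commutator L) := card_map_of_injective L.subtype_injective
  refine ⟨charDegree ψ, charDegree θ, ex p L ψ, ex p L θ, ?_, fun u hu h1 ω hω => ?_,
    fun u hu h1 => ?_, ?_, ?_, ?_, ?_, ?_, h.big, ?_, fun g hg => ?_, ?_, hk ▸ h.dvd, hk ▸ h.syl,
    ?_, fun hd => ?_⟩
  · rw [← hψ.charDegree_add h.chr, ← h.add, charDegree_restrict]
  · lift u to L using hu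
    have h2 : u ^ p = 1 := Subtype.ext h1
    rw [ex_coe, ex_coe]
    refine Nat.cast_injective (R := ℂ) ?_
    rw [Nat.cast_add, (hE _ p _ hψ).1 _ _ h2 hω, (hE _ p _ h.chr).1 _ _ h2 hω,
      (hE _ p _ hχ).1 _ _ h1 hω, ← mul_add, ← Finset.sum_add_distrib]
    refine congrArg _ (Finset.sum_congr rfl fun i _ => ?_)
    rw [← add_mul]
    exact congrArg (· * _) (congrFun h.add (u ^ i))
  · lift u to L using hu
    simp only [ex_coe]
    exact (hE _ p _ h.chr).2.1 _ (Subtype.ext h1)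
  · rintro _ ⟨q, hq, rfl⟩ h1
    obtain ⟨l, hl⟩ := h.irr.center_le_charCenter (h.cen hq)
    refine ⟨l, ?_, fun s hs ω => ?_⟩
    · have h2 : ∀ (i : ℕ), ψ (q ^ i) = l ^ i * ψ 1 := fun i => by
        induction i with
        | zero => simp
        | succ i ih => rw [pow_succ', hl, ih, pow_succ', mul_assoc]
      have h3 := h2 p
      rw [show q ^ p = 1 from Subtype.ext h1] at h3
      refine (mul_right_cancel₀ ?_ ((one_mul _).trans h3)).symm
      rw [← hψ.cast_charDegree]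
      exact Nat.cast_ne_zero.2 h.irr.charDegree_pos.ne'
    · lift s to L using hs
      rw [subtype_apply, ← Subgroup.coe_mul, ex_coe, ex_coe, em_scal (hc q hq _) l.ne_zero hl]
  · rw [← L.coe_one, ex_coe, em_one hp.out.ne_zero hψ]
  · rw [← L.coe_one, ex_coe, em_one hp.out.ne_zero h.chr]
  · rintro _ ⟨s, hs, rfl⟩ _ ⟨q, hq, rfl⟩ ω
    rw [subtype_apply, subtype_apply, ← Subgroup.coe_mul, ex_coe, ex_coe,
      em_ker (hc q hq _) (h.ker hs)]
  · rintro _ ⟨s, hs, rfl⟩ h1 h2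
    simp only [subtype_apply, ex_coe]
    exact h.eig s hs (orderOf_eq_prime (Subtype.ext h2) fun e => h1 (congrArg Subtype.val e))
  · rintro _ ⟨q, hq, rfl⟩ g hg
    exact congrArg Subtype.val (hc q hq ⟨g, hg⟩)
  · obtain ⟨a, ha, q, hq, e⟩ := h.sup ⟨g, hg⟩
    exact ⟨a, ⟨a, ha, rfl⟩, q, ⟨q, hq, rfl⟩, congrArg Subtype.val e⟩
  · rintro _ ⟨s, hs, rfl⟩ ⟨q, hq, e⟩
    exact congrArg Subtype.val (h.inf s hs (Subtype.ext e ▸ hq))
  · refine (map_mono h.gen).trans ?_
    rw [MonoidHom.map_closure]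
    refine closure_mono ?_
    rintro _ ⟨s, hs, rfl⟩
    exact ⟨⟨s, hs.1, rfl⟩, (Subgroup.orderOf_coe s).trans hs.2⟩
  · obtain ⟨z, hz, h1, h2⟩ := exists_inv h.perf fun e => by
      have := h.dvd
      rw [e, card_bot] at this
      exact hp.out.one_lt.ne' (Nat.dvd_one.1 this)
    have h3 : ψ 1 = 2 := by rw [← hψ.cast_charDegree, hd]; norm_num
    have h4 : ψ z = -2 :=
      (tr_inv hψ hd hz h2).resolve_left fun e => h1 (h.faith z hz (e.trans h3.symm))
    have h5 : z ∈ charCenter ψ := hψ.mem_charCenter.2 (by rw [h4, h3]; simp)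
    refine ⟨z, z.2, congrArg Subtype.val h2, fun g hg => ?_, ?_⟩
    · have h6 := h.faith _ (commutator_mem_commutator (mem_top z) (mem_top ⟨g, hg⟩))
        (apply_of_mem_charKer (hψ.isClassFunction.commutator_mem_charKer h5 _))
      exact congrArg Subtype.val (commutatorElement_eq_one_iff_commute.1 h6).symm
    · have h6 := congrFun h.add z
      rw [Pi.add_apply, h4, apply_of_mem_charKer (h.ker hz), ← h.chr.cast_charDegree] at h6
      rw [h6]; ring

end H3.PrN
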