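import Cfsg.Agent.H67.SWDef
import Cfsg.Agent.H54.SPFW
import Cfsg.Agent.H72.SPFR
import Cfsg.Agent.H62.SPFC

/-! STD-SP (row S3129), wreath endgame, slot NO: for `q = 2`, `U` has no automorphism of odd order. -/

set_option autoImplicit false
set_option linter.unusedSectionVars false

namespace H3.SwNO

open H64.SG (Cz Cs Ns mem_Cz)
open H67.UA hiding Par
open H67.SP H67.SW
open H67.SA (la)
open H59.SO (AutOn)
open H62.SPFC (hfs mv eq_of_add)
open H72.SPF (wperp wev wsm aT)

theorem odd_fix {X : Type} {θ : X → X} {m : ℕ} (hm : Odd m) {g : X} (h : θ^[m] g = g)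
    (h2 : θ (θ g) = g) : θ g = g := by
  obtain ⟨k, rfl⟩ := hm
  have : θ^[2 * k] g = g := by
    rw [Function.iterate_mul]; exact Function.iterate_fixed h2 k
  rwa [add_comm, Function.iterate_add_apply, this] at h

theorem aut_cj {X : Type} [Group X] {U : Subgroup X} {θ : X → X} (a : AutOn U θ) {u g : X}
    (hu : u ∈ U) (hg : g ∈ U) : θ (u * g * u⁻¹) = θ u * θ g * (θ u)⁻¹ := by
  rw [eq_mul_inv_iff_mul_eq, ← a.mul _ (mul_mem (mul_mem hu hg) (inv_mem hu)) _ hu,
    inv_mul_cancel_right, a.mul _ hu _ hg]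

variable {n : ℕ} {F : Type} [Field F] [StarRing F] [TrivialStar F] [CharP F 2] [Finite F]
  [p : Par n F] [Base n F]

theorem M_fix {j : ℕ} (hj : j ≤ n + 1) {g : XU n F} (hg : g ∈ Mk n F j) {v : Vn n F}
    (hv : Wk (n + 1 - j) v) : ac g v = v := eq_of_hf fun z => by
  have := wperp hv ((FV.mem_M j _).1 (inv_mem hg) z) (by omega)
  rw [hf_add_right, ← hf_ac_left] at this
  linear_combination this - hf v z * two0 F

theorem M_sq {j : ℕ} (hj : 2 * j ≤ n + 1) {g : XU n F} (hg : g ∈ Mk n F j) : g * g = 1 :=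
  ac_ext fun v => by
    have := M_fix (by omega) hg (v := ac g v + v) fun i hi => (FV.mem_M j g).1 hg v i (by omega)
    rw [ac_add] at this
    rw [ac_mul, ac_one]
    exact add_right_cancel (this.trans (add_comm _ _))

theorem M_le {j : ℕ} (hj : 2 * j ≤ n + 1) : Mk n F j ≤ UU n F := fun g hg =>
  (FV.mem_U g).2 fun i v hv => by
    by_cases k : j ≤ i
    · exact fun t ht => (FV.mem_M j g).1 hg v t (by omega)
    · rw [M_fix (by omega) hg fun t ht => hv t (by omega), v_add_self]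
      exact fun _ _ => rfl

theorem M_one : Mk n F 1 = ZL n F := by
  have := p.five
  ext g
  rw [FV.mem_Zl]
  refine ⟨fun hg => ⟨(ac g (ev (la n)) + ev (la n) : Vn n F) 0, ac_ext fun v => ?_⟩, ?_⟩
  · have k : ∀ v, ac g v + v = (ac g v + v) 0 • ev 0 := fun v => funext fun i => by
      rw [Pi.smul_apply, ev_apply]
      split_ifs with h
      · rw [h, smul_eq_mul, mul_one]
      · rw [(FV.mem_M 1 g).1 hg v i (Nat.one_le_iff_ne_zero.2 fun e => h (Fin.ext e)), smul_zero]
    have k2 : (ac g v + v) 0 = (ac g (ev (la n)) + ev (la n) : Vn n F) 0 * hf v (ev 0) := by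
      rw [← hfs, ← k, hf_add_right, ← inv_eq_of_mul_eq_one_right (M_sq (by omega) hg), ← hf_ac_left,
        ← hf_add_left, hf_ev_right, inv_eq_of_mul_eq_one_right (M_sq (by omega) hg), Fin.rev_last]
    rw [aT, ← k2, ← k, add_comm (ac g v), ← add_assoc, v_add_self, zero_add]
  · rintro ⟨c, rfl⟩
    refine (FV.mem_M 1 _).2 fun v => ?_
    rw [aT, add_right_comm, v_add_self, zero_add]
    exact wsm (wev (by simp)) _

theorem step (h2 : Nat.card F = 2) {θ : XU n F → XU n F} {m : ℕ} (a : AutOn (UU n F) θ) (hm : Odd m)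
    (hi : ∀ u ∈ UU n F, θ^[m] u = u) {j : ℕ} (hj : 2 * (j + 1) ≤ n + 1)
    (ch : Ch (UU n F) (Mk n F (j + 1))) (ih : ∀ g ∈ Mk n F j, θ g = g) :
    ∀ g ∈ Mk n F (j + 1), θ g = g := by
  have two : ∀ x y : F, x ≠ 0 → y ≠ 0 → x + y = 0 := fun x y hx hy => by
    obtain ⟨z, -, hz⟩ := (Nat.card_eq_two_iff' (0 : F)).1 h2
    rw [hz x hx, hz y hy, CharTwo.add_self_eq_zero]
  obtain ⟨f, f1, f2⟩ : ∃ f : Vn n F, Wk (n + 1 - j) f ∧ ∀ x, hf x f = x ⟨j, by omega⟩ :=
    ⟨ev (Fin.rev ⟨j, by omega⟩), wev (by rw [Fin.val_rev]; simp; omega), fun x => by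
      rw [hf_ev_right, Fin.rev_rev]⟩
  have mU := M_le (n := n) (F := F) hj
  have nm : ∀ u ∈ UU n F, ∀ g ∈ Mk n F (j + 1), u * g * u⁻¹ ∈ Mk n F (j + 1) := fun u hu =>
    ch _ (H86.WR.autOn_conj (Subgroup.le_normalizer hu))
  have cm : ∀ g ∈ Mk n F (j + 1), ∀ g' ∈ Mk n F (j + 1),
      ac (g * g') f + f = (ac g' f + f) + (ac g f + f) := fun g hg g' hg' => by
    rw [← M_fix (by omega) hg (v := ac g' f + f) fun i hi => (FV.mem_M _ g').1 hg' f i (by omega),
      ac_add, ac_mul, add_assoc, ← add_assoc (ac g f), v_add_self, zero_add]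
  have cj : ∀ u ∈ UU n F, ∀ g ∈ Mk n F (j + 1),
      ac (g * (u * g * u⁻¹)) f + f = ac u (ac g f + f) + (ac g f + f) := fun u hu g hg => by
    have k := M_fix (by omega) hg ((FV.mem_U _).1 (inv_mem hu) (n + 1 - (j + 1)) f fun i hi =>
      f1 i (by omega))
    rw [ac_add] at k
    have k2 : ac g (ac u⁻¹ f) + ac u⁻¹ f = ac g f + f := by
      linear_combination (exp := 1) k - v_add_self (ac g f) + v_add_self (ac u⁻¹ f)
    rw [cm g hg _ (nm u hu g hg), ← k2, ac_add u, ac_ac_inv, ac_mul, ac_mul]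
  have key : ∀ i, ∀ g ∈ Mk n F (j + 1), Wk i (ac g f + f) → θ g = g := by
    intro i
    induction i with
    | zero =>
      refine fun g hg h => ih g ((FV.mem_M j g).2 fun v t ht => ?_)
      by_cases k : t = ⟨j, by omega⟩
      · rw [k, ← f2 (ac g v + v)]; exact mv (eq_of_add (funext fun t => h t t.1.zero_le)) v
      · exact (FV.mem_M _ g).1 hg v t (by rw [Fin.ext_iff] at k; simp only at k; omega)
    | succ i ih =>
      intro g hg h
      have hg' := ch θ a g hg
      have h' : Wk (i + 1) (ac (θ g) f + f) := fun t ht => by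
        obtain ⟨u, hu, e⟩ := H54.SPF.root (F := F) (i := t) (j := ⟨i, by omega⟩) ht
        obtain ⟨u, hu', rfl⟩ := a.bij.surjOn hu
        have k1 : Wk i (ac (g * (u * g * u⁻¹)) f + f) := by
          rw [cj u hu' g hg]; exact (FV.mem_U u).1 hu' i _ h
        have k2 := ih _ (mul_mem hg (nm u hu' g hg)) k1
        rw [a.mul _ (mU hg) _ (mU (nm u hu' g hg)), aut_cj a hu' (mU hg)] at k2
        rw [← e (ac (θ g) f + f), ← cj _ hu _ hg', k2]
        exact k1 _ le_rfl
      by_cases k : Wk i (ac g f + f)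
      · exact ih g hg k
      by_cases k' : Wk i (ac (θ g) f + f)
      · exact a.bij.injOn (mU hg') (mU hg) (ih _ hg' k')
      have nz : ∀ {w : Vn n F}, Wk (i + 1) w → ¬ Wk i w → ∀ t : Fin (n + 1), t.val = i → w t ≠ 0 :=
        fun {w} h k t ht e => k fun s hs => by
          by_cases q : s = t
          · rw [q, e]
          · exact h s (by rw [Fin.ext_iff] at q; omega)
      have k3 := ih _ (mul_mem hg hg') fun t ht => by
        rw [cm g hg _ hg', Pi.add_apply]
        by_cases q : t.val = i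
        · exact two _ _ (nz h' k' t q) (nz h k t q)
        · rw [h t (by omega), h' t (by omega), add_zero]
      rw [a.mul _ (mU hg) _ (mU hg')] at k3
      refine odd_fix hm (hi g (mU hg)) (mul_left_cancel (k3.trans ?_))
      rw [← inv_eq_of_mul_eq_one_right (M_sq hj (mul_mem hg hg')), mul_inv_rev,
        inv_eq_of_mul_eq_one_right (M_sq hj hg), inv_eq_of_mul_eq_one_right (M_sq hj hg')]
  exact fun g hg => key (j + 1) g hg ((FV.mem_M _ g).1 hg f)

omit p [Base n F] in
theorem jobNO : JobNO := fun n F _ _ _ _ _ p _ _ _ c2 cm h2 θ m a hm hi => by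
  have k2 : 2 * kk n = n + 1 := by obtain ⟨k, e⟩ := p.odd; unfold kk; omega
  have := p.five
  have ch : ∀ j, j + 1 ≤ kk n → Ch (UU n F) (Mk n F (j + 1)) := fun j hj => by
    rcases j with _ | j
    · rw [Nat.zero_add, M_one]; exact c2.1
    · exact cm _ (by omega) hj
  have A : ∀ j, j ≤ kk n → ∀ g ∈ Mk n F j, θ g = g := fun j => by
    induction j with
    | zero =>
      intro _ g hg
      obtain rfl : g = 1 := ac_ext fun v => by
        rw [ac_one]; exact eq_of_add (funext fun t => (FV.mem_M 0 g).1 hg v t t.1.zero_le)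
      exact mul_left_cancel (a := θ 1) (by rw [← a.mul 1 (one_mem _) 1 (one_mem _), mul_one, mul_one])
    | succ j ih => exact fun hj => step h2 a hm hi (by omega) (ch j hj) (ih (by omega))
  intro u hu
  have mU := M_le (n := n) (F := F) k2.le
  have z : u⁻¹ * θ u ∈ Mk n F (kk n) := (FV.mem_M _ _).2 fun v => by
    have := (FV.wk_perp (kk n) (by omega) (ac (u⁻¹ * θ u) v + v)).2 fun w hw => mv (by
      by_cases h0 : w = 0
      · rw [h0, ac_zero]
      have t : TT w ∈ Mk n F (kk n) := (FV.mem_M _ _).2 fun v => by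
        rw [aT, add_right_comm, v_add_self, zero_add]; exact wsm hw _
      have t2 : u * TT w * u⁻¹ ∈ Mk n F (kk n) :=
        cm _ (by omega) le_rfl _ (H86.WR.autOn_conj (Subgroup.le_normalizer hu)) _ t
      have t3 := A _ le_rfl _ t2
      rw [aut_cj a hu (mU t), A _ le_rfl _ t] at t3
      rw [← mem_Stab, ← FR.cz w 1 h0 one_ne_zero, mem_Cz, ← mul_assoc, eq_comm, mul_assoc,
        inv_mul_eq_iff_eq_mul, ← mul_assoc, ← mul_assoc, ← t3, inv_mul_cancel_right]) v
    rwa [show n + 1 - kk n = kk n by omega] at this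
  obtain ⟨ζ, hζ, e⟩ : ∃ ζ ∈ Mk n F (kk n), θ u = u * ζ := ⟨_, z, by rw [mul_inv_cancel_left]⟩
  refine odd_fix hm (hi u hu) ?_
  rw [e, a.mul _ hu _ (mU hζ), e, A _ le_rfl _ hζ, mul_assoc, M_sq k2.le hζ, mul_one]

end H3.SwNO
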