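import Cfsg.Agent.H86.TP.Spec

/-! # S1308, chapter TE part 1: the slot SO. -/

set_option autoImplicit false

namespace H3.TPSO

open Cfsg Subgroup MulAction H14 H98 H1.Gold H31.S2 H14.GC H14.FE H14.NF H86.TP
open scoped commutatorElement

universe u

variable {G : Type u} [Group G]

theorem cj_OZ_le (g : G) (R : Subgroup G) : cj g (OZ R) ≤ OZ (cj g R) := by
  intro z hz
  obtain ⟨h1, h2, h3⟩ := mem_OZ.1 (mem_cj.1 hz)
  refine mem_OZ.2 ⟨mem_cj.2 h1, ?_, fun x hx => ?_⟩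
  · calc z * z = g * (g⁻¹ * z * g * (g⁻¹ * z * g)) * g⁻¹ := by group
      _ = 1 := by rw [h2]; group
  · calc x * z = g * (g⁻¹ * x * g * (g⁻¹ * z * g)) * g⁻¹ := by group
      _ = z * x := by rw [h3 _ (mem_cj.1 hx)]; group

theorem cj_OZ (g : G) (R : Subgroup G) : cj g (OZ R) = OZ (cj g R) := by
  refine le_antisymm (cj_OZ_le g R) (le_cj_iff.2 ?_)
  have h := cj_OZ_le g⁻¹ (cj g R)
  rwa [cj_inv_cj] at h

theorem OZ_le (R : Subgroup G) : OZ R ≤ R := fun _ hz => (mem_OZ.1 hz).1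

theorem jSO : H86.TP.JobSO.{u} := by
  intro G _ _ Q gq E hE
  obtain ⟨R₀, hR₀, rfl⟩ := hE
  have : Fact (Nat.Prime 2) := ⟨Nat.prime_two⟩
  have h2 : ∀ R, IsSyl 2 R Q → Nat.card (OZ R) = Nat.card (OZ R₀) := by
    intro R hR
    obtain ⟨g, -, rfl⟩ := hR₀.exists_cj_eq hR
    rw [← cj_OZ, card_cj]
  refine ⟨fun R hR hle => ?_, h2, ?_⟩
  · have h1 : OZ R ≤ OZ R₀ := by
      intro z hz
      obtain ⟨z1, z2, z3⟩ := mem_OZ.1 hz
      refine mem_of_mem_sup_coprime (p := 2) (k := 1) (coprime_card_opp Q)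
        (Or.inl (((OZ_le R₀).trans hR₀.le).trans (self_le_normalizer_opp Q))) ?_ ?_
        (gq.zq R₀ R hR₀ hR hz)
      · rw [pow_one, pow_two, z2]
      · refine mem_normalizer_of_cj_le fun x hx => ?_
        have hx' := mem_cj.1 hx
        have e : x = z⁻¹ * x * z := by
          calc x = z * (z⁻¹ * x * z) * z⁻¹ := by group
            _ = z⁻¹ * x * z := by rw [← z3 _ (hle hx')]; group
        rw [e]; exact hx'
    exact (eq_of_le_of_card_ge h1 (h2 R hR).ge).symm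
  · rintro Q₁ E₁ ⟨g, rfl, rfl⟩
    exact ⟨⟨g, rfl⟩, ⟨cj g R₀, hR₀.cj g, cj_OZ g R₀⟩, card_cj g _⟩

end H3.TPSO
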