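import Cfsg.Agent.H96.U2ISpec

/-! Slot `B1` of the chapter U2I (S3275): `Ω₁ Z(Q) ≤ R`. -/

set_option autoImplicit false

namespace H3.U2IB1

open Subgroup Cfsg H98 H48.DP H96.U2I
open scoped commutatorElement

universe u

theorem jobB1 : H96.U2I.JobB1.{u} := by
  intro tl G _ _ M Q T R y c b t ht
  by_contra htR
  have htT : t ∈ T := c.QT ht.1
  have RM : R ≤ M := c.RT.trans c.TM
  have yR : ∀ a ∈ R, y * a * y⁻¹ ∈ R := fun a ha => conj_mem_of_mem_normalizer c.yR ha
  -- `D₀ = 1`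
  have hD : ∀ d ∈ D0 Q R y, d = 1 := fun d hd => by
    have h1 := (mem_inf.1 hd).1
    have h2 := mem_cj.1 (mem_inf.1 hd).2
    refine b.cent d (mem_inf.1 h1).2 t htT t htT htR htR
      (mem_centralizer_iff.1 ht.2.1 d (mem_inf.1 h1).1).symm ?_
    have e := mem_centralizer_iff.1 ht.2.1 _ (mem_inf.1 h2).1
    change y * t * y⁻¹ * d = d * (y * t * y⁻¹)
    calc y * t * y⁻¹ * d = y * (t * (y⁻¹ * d * y)) * y⁻¹ := by group
      _ = d * (y * t * y⁻¹) := by rw [← e]; group
  -- `Q = Y`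
  have hRq : ∀ a ∈ Q ⊓ R, a ∈ Yq Q := fun a ha => by
    have e := mul_inv_eq_one.1 (hD _ (b.sur a ha t ht.1 htR))
    have h1 := Yq_conj (c.MQ (RM (yR a (mem_inf.1 ha).2))) (inv_mem ht)
    rw [← e, commutatorElement_def, mul_assoc t, mul_assoc t]
    exact mul_mem ht h1
  have hsplit : ∀ g ∈ Q, g ∉ R → g * t ∈ Q ⊓ R := fun g hg hgR =>
    mem_inf.2 ⟨mul_mem hg ht.1, c.mul g (c.QT hg) t htT hgR htR⟩
  have hQ : ∀ g ∈ Q, g ∈ Yq Q := fun g hg => by
    by_cases hgR : g ∈ R
    · exact hRq g (mem_inf.2 ⟨hg, hgR⟩)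
    · exact (mul_mem_cancel_right ht).1 (hRq _ (hsplit g hg hgR))
  obtain ⟨hm, h3⟩ := tl G M Q T R ⊥ y c b (by rw [No, normalizer_eq_top]; exact le_top)
    (fun d hd => mem_bot.2 (hD d hd)) bot_le (fun g hg => mem_bot.2 (hQ g hg).2.2)
    (fun a ha b hb => mem_bot.2 (commutatorElement_eq_one_iff_mul_comm.2
      (mem_centralizer_iff.1 (hQ b hb).2.1 a ha)))
  -- squares of elements of `M` that centralise `Q ∩ R`
  have hsq : ∀ k ∈ M, k ∈ Ce (Q ⊓ R) → k * k ∈ Q := fun k hk hc => by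
    have hc' := mem_centralizer_iff.1 hc
    have h1 : k * t * k⁻¹ ∈ Q := conj_mem_of_mem_normalizer (c.MQ hk) ht.1
    have h2 : k * t * k⁻¹ ∉ R := fun h => htR (by
      have e := hc' _ (mem_inf.2 ⟨h1, h⟩)
      have e' : t = k * t * k⁻¹ := by
        have : k * t = k * (k * t * k⁻¹) := by rw [← e]; group
        exact mul_left_cancel this
      rw [e']; exact h)
    have h4 := hsplit _ h1 h2
    have h5 := (hRq _ h4).2.2
    have h6 := hc' _ h4
    have tt := ht.2.2
    generalize hr : k * t * k⁻¹ * t = r at h4 h5 h6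
    have h7 : k * t = r * t * k := by
      rw [← hr]
      calc k * t = k * t * k⁻¹ * 1 * k := by group
        _ = k * t * k⁻¹ * (t * t) * k := by rw [tt]
        _ = _ := by group
    have h8 : t * (k * k) = k * k * t := by
      symm
      calc k * k * t = k * (k * t) := by group
        _ = (k * r) * t * k := by rw [h7]; group
        _ = r * (k * t) * k := by rw [← h6]; group
        _ = (r * r) * t * (k * k) := by rw [h7]; group
        _ = t * (k * k) := by rw [h5, one_mul]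
    refine c.cq (mem_centralizer_iff.2 fun g hg => ?_)
    have h9 : ∀ a ∈ Q ⊓ R, a * (k * k) = k * k * a := fun a ha => by
      rw [← mul_assoc, hc' a ha, mul_assoc, hc' a ha, mul_assoc]
    by_cases hgR : g ∈ R
    · exact h9 g (mem_inf.2 ⟨hg, hgR⟩)
    · have e := h9 _ (hsplit g hg hgR)
      have : g * (k * k) * t = k * k * g * t := by
        rw [mul_assoc g, ← h8, ← mul_assoc g, e, mul_assoc (k * k)]
      exact mul_right_cancel this
  -- any two non-trivial elements of `Q ∩ R` are equal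
  have htwo : ∀ a ∈ Q ⊓ R, ∀ a' ∈ Q ⊓ R, a ≠ 1 → a' ≠ 1 → a = a' := by
    by_cases hall : ∀ m ∈ M, m ∈ No (Q ⊓ R)
    · have hK : M ⊓ Ce (Q ⊓ R) ≤ Q := by
        refine c.o2 _ inf_le_left (fun m hm => ?_) ?_
        · exact inf_normalizer_le_normalizer_inf (mem_inf.2 ⟨le_normalizer hm,
            normalizer_le_normalizer_centralizer _ (hall m hm)⟩)
        · refine isPGroup_of_forall_pow_mem (c.syl.isPGroup.to_le c.QT) fun k hk => ⟨1, ?_⟩
          rw [pow_one, pow_two]
          exact hsq k (mem_inf.1 hk).1 (mem_inf.1 hk).2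
      have hRQ : R ≤ Q := fun r hr => hK (mem_inf.2 ⟨RM hr, mem_centralizer_iff.2 fun a ha =>
        commutatorElement_eq_one_iff_mul_comm.1 (hD _ (b.com a (mem_inf.1 ha).2 r hr))⟩)
      intro a ha _ _ h1 _
      have h2 := yR a (mem_inf.1 ha).2
      have h4 := hD _ (mem_inf.2 ⟨mem_inf.2 ⟨hRQ h2, h2⟩, conj_mem_cj ha⟩)
      exact (h1 (by simpa using h4)).elim
    · push Not at hall
      obtain ⟨m, hmM, hmn⟩ := hall
      have hb := (hm m hmM).resolve_left hmn
      have hQm : ∀ a ∈ Q, m⁻¹ * a * m ∈ Q := fun a ha => by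
        simpa using conj_mem_of_mem_normalizer (inv_mem (c.MQ hmM)) ha
      have hout : ∀ a ∈ Q ⊓ R, a ≠ 1 → m⁻¹ * a * m ∉ R := fun a ha h1 h => h1 (mem_bot.1
        (hb (mem_inf.2 ⟨ha, mem_cj.2 (mem_inf.2 ⟨hQm a (mem_inf.1 ha).1, h⟩)⟩)))
      intro a ha a' ha' h1 h1'
      have h2 := c.mul _ (c.QT (hQm a (mem_inf.1 ha).1)) _ (c.QT (hQm a' (mem_inf.1 ha').1))
        (hout a ha h1) (hout a' ha' h1')
      have h4 : a * a' = 1 := by
        by_contra h
        refine hout _ (mul_mem ha ha') h ?_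
        have : m⁻¹ * (a * a') * m = m⁻¹ * a * m * (m⁻¹ * a' * m) := by group
        rw [this]; exact h2
      exact mul_left_cancel (((hRq a ha).2.2).trans h4.symm)
  refine h3 fun e he h3 hn => ?_
  have hce : e ∈ Ce (Q ⊓ R) := mem_centralizer_iff.2 fun a ha => by
    by_cases h1 : a = 1
    · rw [h1, one_mul, mul_one]
    · have := htwo _ (conj_mem_of_mem_normalizer hn ha) a ha (by simpa using h1) h1
      rw [← mul_inv_eq_iff_eq_mul.1 this]
  have h4 := (hQ _ (hsq e he hce)).2.2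
  have h5 : orderOf e ∣ 4 := orderOf_dvd_of_pow_eq_one (by
    rw [← h4]; simp only [pow_succ, pow_zero, one_mul, mul_assoc])
  rw [h3] at h5
  exact absurd h5 (by decide)

end H3.U2IB1
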