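import Cfsg.Agent.H81.YLSpec

/-! STD-SP (row S3129), endgame, linear models: slots BI and B3. -/

set_option autoImplicit false
set_option linter.unusedSectionVars false

namespace H3.YL

open H64.SG (Cz Cs Inv2 fx mem_Cz mem_Cs)
open Matrix H57 Subgroup H64.YE H67.SA H81.YL

theorem big_conj {G : Type} [Group G] {N : ℕ} {α β : MulAut G} (h : IsConj α β) (b : Big N α) :
    Big N β := by
  obtain ⟨θ, rfl⟩ := isConj_iff.1 h
  obtain ⟨P, h1, h2, h3⟩ := b
  exact ⟨P.map θ.toMonoidHom, H29.SA.fx_conj θ α ▸ map_mono h1, h2.map _, by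
    rwa [card_map_of_injective θ.injective]⟩

theorem big_of_dvd {G : Type} [Group G] [Finite G] {N k : ℕ} {β : MulAut G}
    (h : 2 ^ k ∣ Nat.card (fx β)) (hN : N < 2 ^ k) : Big N β := by
  obtain ⟨P, hP⟩ := Sylow.exists_subgroup_card_pow_prime 2 h
  have e : Nat.card (P.map (fx β).subtype) = 2 ^ k := by
    rw [card_map_of_injective (subtype_injective _), hP]
  exact ⟨_, map_subtype_le _, IsPGroup.of_card e, e ▸ hN⟩

variable {m : ℕ} {F : Type} [Field F]

theorem mul_x (M : Matrix (Fin (m + 1)) (Fin (m + 1)) F) {i j : Fin (m + 1)} (h : i ≠ j) (c : F)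
    (a b : Fin (m + 1)) : (M * (x i j c).1) a b = M a b + if b = j then M a i * c else 0 := by
  rw [x_coe h, mul_add, mul_one, Matrix.add_apply]
  split_ifs with k
  · rw [k, mul_single_apply_same]
  · rw [mul_single_apply_of_ne _ _ _ _ _ k]

theorem x_mul (M : Matrix (Fin (m + 1)) (Fin (m + 1)) F) {i j : Fin (m + 1)} (h : i ≠ j) (c : F)
    (a b : Fin (m + 1)) : ((x i j c).1 * M) a b = M a b + if a = i then c * M j b else 0 := by
  rw [x_coe h, add_mul, one_mul, Matrix.add_apply]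
  split_ifs with k
  · rw [k, single_mul_apply_same]
  · rw [single_mul_apply_of_ne _ _ _ _ _ k]

theorem dg_mem {l : ℕ} (hl : m + 1 = 2 * l) {i j i' j' : Fin (m + 1)} (hij : i.val < j.val)
    (hj : j.val < l) (hi' : i'.val = l + i.val) (hj' : j'.val = l + j.val) (c : F) :
    x i' j' c * x i j c ∈ UU m F ⊓ Cz (xk F m l) := by
  have h1 : i ≠ j := fun e => by rw [e] at hij; omega
  have h2 : i' ≠ j' := fun e => by rw [e] at hi'; omega
  have h3 : j' ≠ i := fun e => by rw [e] at hj'; omega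
  have h4 : i' ≠ j := fun e => by rw [e] at hi'; omega
  have k1 : ∀ a, (xk F m l).1 a i = if a = i then 1 else 0 := fun a => by
    rw [xk_apply, if_neg (show ¬ (_ ∧ _) by omega), add_zero]
  have k2 : ∀ a, (xk F m l).1 a i' = (if a = i' then 1 else 0) + if a = i then 1 else 0 := fun a => by
    rw [xk_apply]; congr 1
    exact if_congr (by rw [Fin.ext_iff, Fin.lt_def]; omega) rfl rfl
  have k3 : ∀ b, (xk F m l).1 j b = (if b = j then 1 else 0) + if b = j' then 1 else 0 := fun b => by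
    rw [xk_apply]; congr 1
    · exact if_congr eq_comm rfl rfl
    · exact if_congr (by rw [Fin.ext_iff, Fin.lt_def]; omega) rfl rfl
  have k4 : ∀ b, (xk F m l).1 j' b = if b = j' then 1 else 0 := fun b => by
    rw [xk_apply, if_neg (show ¬ (_ ∧ _) by omega), add_zero]
    exact if_congr eq_comm rfl rfl
  refine ⟨mul_mem (x_mem_UU (by rw [Fin.lt_def]; omega) c) (x_mem_UU hij c), mem_Cz.2 ?_⟩
  rw [← mul_assoc, x_comm h3 h4, mul_assoc (x i j c)]
  refine Subtype.ext (Matrix.ext fun a b => ?_)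
  rw [val_mul, val_mul, val_mul, val_mul, mul_x _ h1, mul_x _ h2, mul_x _ h2, x_mul _ h1,
    x_mul _ h2, x_mul _ h2, if_neg h3.symm, if_neg h4.symm, k1, k2, k3, k4]
  generalize (xk F m l).1 a b = z
  split_ifs <;> ring

variable [Finite F] [CharP F 2]

theorem big_l {l : ℕ} (hl : m + 1 = 2 * l) (h3 : 3 ≤ l) :
    Nat.card F ^ (l ^ 2 + 1) < Nat.card ↥(UU m F ⊓ Cz (xk F m l)) := by
  obtain ⟨i0, e0⟩ : ∃ i : Fin (m + 1), i.val = 0 := ⟨⟨0, by omega⟩, rfl⟩
  obtain ⟨i1, e1⟩ : ∃ i : Fin (m + 1), i.val = 1 := ⟨⟨1, by omega⟩, rfl⟩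
  obtain ⟨j, e2⟩ : ∃ i : Fin (m + 1), i.val = 2 := ⟨⟨2, by omega⟩, rfl⟩
  obtain ⟨k0, f0⟩ : ∃ i : Fin (m + 1), i.val = l := ⟨⟨l, by omega⟩, rfl⟩
  obtain ⟨k1, f1⟩ : ∃ i : Fin (m + 1), i.val = l + 1 := ⟨⟨l + 1, by omega⟩, rfl⟩
  obtain ⟨k, f2⟩ : ∃ i : Fin (m + 1), i.val = l + 2 := ⟨⟨l + 2, by omega⟩, rfl⟩
  have hM : Ml m F l ≤ UU m F ⊓ Cz (xk F m l) := le_inf (Ml_le_UU l) fun u hu => mem_Cz.2
    (Ml_le_Cs l hu _ (Mk_le_Ml le_rfl (by omega) (xk_mem_Mk (by omega))))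
  let f : Ml m F l × F × F → ↥(UU m F ⊓ Cz (xk F m l)) := fun p =>
    ⟨p.1.1 * (x k0 k p.2.1 * x i0 j p.2.1) * (x k1 k p.2.2 * x i1 j p.2.2), mul_mem (mul_mem (hM p.1.2)
      (dg_mem hl (by omega) (by omega) (by omega) (by omega) _))
      (dg_mem hl (by omega) (by omega) (by omega) (by omega) _)⟩
  have ne : ∀ a b : Fin (m + 1), a.val ≠ b.val → a ≠ b := fun a b h e => h (by rw [e])
  have key : ∀ p, (f p).1.1 i0 j = p.2.1 ∧ (f p).1.1 i1 j = p.2.2 := fun ⟨u, c, d⟩ => by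
    obtain ⟨u1, u2⟩ := mem_Ml.1 u.2
    simp only [f, ← mul_assoc, val_mul, mul_x _ (ne k0 k (by omega)), mul_x _ (ne k1 k (by omega)),
      mul_x _ (ne i0 j (by omega)), mul_x _ (ne i1 j (by omega)), if_true, u1,
      if_neg (ne j k (by omega)), if_neg (ne i0 k (by omega)), if_neg (ne i1 k (by omega)),
      if_neg (ne i1 j (by omega)), u2 i0 j (ne _ _ (by omega)) (by omega),
      u2 i1 j (ne _ _ (by omega)) (by omega), u2 i0 i1 (ne _ _ (by omega)) (by omega),
      u2 i1 i0 (ne _ _ (by omega)) (by omega)]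
    simp
  have inj : Function.Injective f := fun p p' e => by
    have a1 : p.2.1 = p'.2.1 := by rw [← (key p).1, e, (key p').1]
    have a2 : p.2.2 = p'.2.2 := by rw [← (key p).2, e, (key p').2]
    have a3 := congrArg Subtype.val e
    simp only [f, a1, a2, mul_left_inj] at a3
    exact Prod.ext (Subtype.ext a3) (Prod.ext a1 a2)
  refine lt_of_lt_of_le ?_ (Nat.card_le_card_of_injective f inj)
  rw [Nat.card_prod, Nat.card_prod, card_Ml (by omega), show m + 1 - l = l by omega, ← sq, ← sq,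
    ← pow_add]
  exact Nat.pow_lt_pow_right one_lt_card (by omega)

theorem jobBI : JobBI := fun m F _ _ _ _ _ hm y hy => by
  have q1 : 1 < Nat.card F := one_lt_card
  rcases Nat.even_or_odd' (m + 1) with ⟨l, hl | hl⟩
  · obtain ⟨h, j, j1, j2, e⟩ := (fb hm).ic y hy
    refine big_conj (α := MulAut.conj (xk F m j)) (isConj_iff.2 ⟨MulAut.conj h⁻¹, by
      rw [← map_inv, ← map_mul, ← map_mul, ← e]; congr 1; group⟩) ?_
    rw [show (m + 1) / 2 = l by omega, Big, H64.SG.fx_conj]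
    by_cases k : j = l
    · exact ⟨_, inf_le_right, isP_UU.to_inf_left, by rw [k]; exact big_l hl (by omega)⟩
    obtain ⟨l, rfl⟩ : ∃ l', l = l' + 1 := ⟨l - 1, by omega⟩
    refine ⟨Qk m F l, fun u hu => mem_Cz.2 (Qk_le_Cs (by omega) hu _
      (Mk_mono (by omega) (xk_mem_Mk j2))), isP_UU.to_le (Qk_le_UU l), ?_⟩
    rw [card_Qk (by omega), show m + 1 - 2 * l = 2 by omega]
    exact Nat.pow_lt_pow_right q1 (by have : 2 ≤ l := by omega
                                      nlinarith)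
  · obtain ⟨P, h1, h2, h3⟩ := (fb hm).big y hy.1
    refine ⟨P, H64.SG.fx_conj y ▸ h1, h2, lt_of_lt_of_le (Nat.pow_lt_pow_right q1 ?_) h3⟩
    rw [bg, show (m + 1) % 2 = 1 by omega]; omega

theorem jobB3 : JobB3 := fun m F _ _ _ _ _ hm ⟨l, hl⟩ β h2 ho => by
  have hn : 2 ≤ m := by omega
  obtain ⟨f, -, hf⟩ := exists_card_eq (F := F)
  have key : ∀ q, Nat.card F = q ^ 2 → q ^ NN m ∣ Nat.card (fx β) →
      Big (Nat.card F ^ (((m + 1) / 2) ^ 2 + 1)) β := fun q hq h => by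
    obtain ⟨g, -, rfl⟩ := (Nat.dvd_prime_pow Nat.prime_two).1
      (show q ∣ 2 ^ f from hf ▸ hq ▸ dvd_pow_self _ two_ne_zero)
    have q1 : 1 < 2 ^ g := by
      have := one_lt_card (F := F)
      rw [hq] at this
      exact (Nat.one_lt_pow_iff two_ne_zero).1 this
    refine big_of_dvd (k := g * NN m) (by rwa [pow_mul]) ?_
    rw [hq, pow_mul 2 g, ← pow_mul (2 ^ g), show (m + 1) / 2 = l by omega, NN, hl,
      show (l + l + 1) * (l + l) = 2 * ((l + l + 1) * l) by ring, Nat.mul_div_cancel_left _ two_pos]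
    exact Nat.pow_lt_pow_right q1 (by have : 3 ≤ l := by omega
                                      nlinarith)
  rcases H29.SA.rep hn h2 (fun e => ho (by rw [e]; rfl)) with ⟨σ, s1, s2, e⟩ | ⟨J, rfl⟩ | ⟨σ, s1, s2, e⟩
  · obtain ⟨e'⟩ := H29.SA.fx_field e
    refine key (Nat.card (fixedSub σ)) ?_ ?_
    · rw [card_eq_card_fixedSub_pow σ, orderOf_eq_prime (p := 2) (by rw [sq, s2]) s1]
    · rw [Nat.card_congr e'.toEquiv, ← card_UU]; exact card_subgroup_dvd_card _
  · exact absurd (by rw [H29.SA.out_gr hn]) ho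
  · cases nonempty_fintype F
    obtain ⟨q, hq, ⟨e'⟩⟩ := H29.SA.fx_gf s1 s2 e
    refine key q (Nat.card_eq_fintype_card.trans hq) ?_
    rw [Nat.card_congr e'.toEquiv]
    refine (Nat.Coprime.pow_left _ (show q.Coprime (q + 1) by simp)).dvd_of_dvd_mul_left ?_
    rw [H59.card_SU hq (by omega), H59.ordGU]
    exact dvd_mul_right _ _

end H3.YL
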